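import Mathlib
import Cfsg.Prelude.Def_LieExceptional
import Cfsg.Prelude.Def_Sz
import Cfsg.Agent.Lib.Sz.Lie
import Cfsg.Agent.Lib.Sz.Syl2
import Cfsg.Agent.Lib.Sz.Cent

/-!
The action on the cosets of the normaliser of a Sylow `2`-subgroup.
-/

set_option autoImplicit false
set_option linter.unusedSectionVars false
set_option linter.style.haveILetI false

namespace Cfsg.Agent.SzT

open Matrix
open scoped Pointwise LinearAlgebra.Projectivization

/-- The action on the cosets of a point stabiliser, in terms of the original action. -/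
theorem coset_props {G Ω : Type*} [Group G] [MulAction G Ω] (a : Ω) (N : Subgroup G)
    (hN : MulAction.stabilizer G a = N)
    (h2 : ∀ {x y u v : Ω}, x ≠ y → u ≠ v → ∃ g : G, g • x = u ∧ g • y = v)
    (htr : ∀ u : Ω, ∃ g : G, g • a = u)
    (S : Subgroup G) (hreg : ∀ b c : Ω, b ≠ a → c ≠ a → ∃! s : S, (s : G) • b = c) :
    MulAction.IsMultiplyPretransitive G (G ⧸ N) 2 ∧
      ∀ x y : G ⧸ N, x ≠ (QuotientGroup.mk 1) → y ≠ (QuotientGroup.mk 1) →
        ∃! s : S, (s : G) • x = y := by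
  subst hN
  set φ := MulAction.ofQuotientStabilizer G a with hφ
  have hinj : Function.Injective φ := MulAction.injective_ofQuotientStabilizer G a
  have hsmul : ∀ (g : G) (x), φ (g • x) = g • φ x := MulAction.ofQuotientStabilizer_smul G a
  have hsurj : Function.Surjective φ := by
    intro u
    obtain ⟨g, hg⟩ := htr u
    exact ⟨QuotientGroup.mk g, by rw [hφ, MulAction.ofQuotientStabilizer_mk]; exact hg⟩
  have h1 : φ (QuotientGroup.mk 1) = a := by
    rw [hφ, MulAction.ofQuotientStabilizer_mk, one_smul]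
  refine ⟨?_, ?_⟩
  · rw [MulAction.is_two_pretransitive_iff]
    intro x y u v hxy huv
    obtain ⟨g, e1, e2⟩ := h2 (hinj.ne hxy) (hinj.ne huv)
    refine ⟨g, hinj ?_, hinj ?_⟩
    · rw [hsmul, e1]
    · rw [hsmul, e2]
  · intro x y hx hy
    have hx' : φ x ≠ a := fun e => hx (hinj (e.trans h1.symm))
    have hy' : φ y ≠ a := fun e => hy (hinj (e.trans h1.symm))
    obtain ⟨s, hs, hu⟩ := hreg _ _ hx' hy'
    refine ⟨s, hinj ?_, ?_⟩
    · show φ ((s : G) • x) = φ y
      rw [hsmul]
      exact hs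
    · intro s' hs'
      apply hu
      have hs2 : (s' : G) • x = y := hs'
      rw [← hs2, hsmul]

/-- Transport along an isomorphism of the data on the action. -/
theorem transport_props {H G Ω : Type*} [Group H] [Group G] [Finite H] [MulAction H Ω] (e : H ≃* G)
    (a : Ω) (S0 : @Sylow 2 H _) (hN : MulAction.stabilizer H a =
      Subgroup.normalizer ((S0 : Subgroup H) : Set H))
    (h2 : ∀ {x y u v : Ω}, x ≠ y → u ≠ v → ∃ g : H, g • x = u ∧ g • y = v)
    (htr : ∀ u : Ω, ∃ g : H, g • a = u)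
    (hreg : ∀ b c : Ω, b ≠ a → c ≠ a → ∃! s : (S0 : Subgroup H), (s : H) • b = c) :
    ∃ S : @Sylow 2 G _,
      Nat.card (Subgroup.normalizer ((S : Subgroup G) : Set G)) =
        Nat.card (Subgroup.normalizer ((S0 : Subgroup H) : Set H)) ∧
      (Subgroup.normalizer ((S : Subgroup G) : Set G)).index =
        (Subgroup.normalizer ((S0 : Subgroup H) : Set H)).index ∧
      MulAction.IsMultiplyPretransitive G (G ⧸ Subgroup.normalizer ((S : Subgroup G) : Set G)) 2 ∧
      ∀ x y : G ⧸ Subgroup.normalizer ((S : Subgroup G) : Set G),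
        x ≠ (QuotientGroup.mk 1) → y ≠ (QuotientGroup.mk 1) →
          ∃! s : (S : Subgroup G), (s : G) • x = y := by
  haveI : Fact (Nat.Prime 2) := ⟨Nat.prime_two⟩
  have hf : Function.Surjective (e.toMonoidHom : H →* G) := e.surjective
  have hfi : Function.Injective (e.toMonoidHom : H →* G) := e.injective
  let S : Sylow 2 G := S0.mapSurjective hf
  have hS : ((S : Subgroup G)) = (S0 : Subgroup H).map e.toMonoidHom := rfl
  have hNG : Subgroup.normalizer ((S : Subgroup G) : Set G) =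
      (Subgroup.normalizer ((S0 : Subgroup H) : Set H)).map e.toMonoidHom := by
    rw [hS]
    exact (Subgroup.map_equiv_normalizer_eq _ e).symm
  refine ⟨S, ?_, ?_, ?_⟩
  · rw [hNG]
    exact Nat.card_congr ((Subgroup.equivMapOfInjective _ _ hfi).symm.toEquiv)
  · rw [hNG]
    exact Subgroup.index_map_of_bijective ⟨hfi, hf⟩ _
  letI act : MulAction G Ω := MulAction.compHom Ω e.symm.toMonoidHom
  have hact : ∀ (g : G) (x : Ω), g • x = e.symm g • x := fun _ _ => rfl
  have hstab : MulAction.stabilizer G a = Subgroup.normalizer ((S : Subgroup G) : Set G) := by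
    rw [hNG]
    ext x
    rw [MulAction.mem_stabilizer_iff, hact, ← MulAction.mem_stabilizer_iff, hN]
    constructor
    · intro hx
      exact ⟨e.symm x, hx, by simp⟩
    · rintro ⟨y, hy, rfl⟩
      simpa using hy
  refine coset_props a _ hstab ?_ ?_ _ ?_
  · intro x y u v hxy huv
    obtain ⟨g, e1, e2⟩ := h2 hxy huv
    refine ⟨e g, ?_, ?_⟩
    · rw [hact, MulEquiv.symm_apply_apply, e1]
    · rw [hact, MulEquiv.symm_apply_apply, e2]
  · intro u
    obtain ⟨g, e1⟩ := htr u
    exact ⟨e g, by rw [hact, MulEquiv.symm_apply_apply, e1]⟩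
  · intro b c hb hc
    obtain ⟨s, hs, hu⟩ := hreg b c hb hc
    have hmem : e (s : H) ∈ (S : Subgroup G) := by
      rw [hS]
      exact ⟨s, s.2, rfl⟩
    refine ⟨⟨e s, hmem⟩, ?_, ?_⟩
    · show e (s : H) • b = c
      rw [hact, MulEquiv.symm_apply_apply]
      exact hs
    · rintro ⟨s', hs'⟩ he
      have he' : s' • b = c := he
      rw [hS] at hs'
      obtain ⟨y, hy, rfl⟩ := hs'
      rw [hact] at he'
      have ey : e.symm (e.toMonoidHom y) = y := e.symm_apply_apply y
      rw [ey] at he'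
      have := hu ⟨y, hy⟩ he'
      apply Subtype.ext
      show e y = e (s : H)
      rw [← this]

variable {F : Type*} [Field F] [Fintype F] {s : ℕ} [h : SzF F s]

lemma conj_Uni {x : GG s F} (hx : x ∈ Bor s F) {u : GG s F} (hu : u ∈ Uni s F) : x * u * x⁻¹ ∈ Uni s F := by
  obtain ⟨a, b, l, rfl⟩ := stab1G (mem_Bor.mp hx)
  obtain ⟨c, d, rfl⟩ := hu
  have e : uG s a b * dG s l * uG s c d * (uG s a b * dG s l)⁻¹ =
      uG s a b * (dG s l * uG s c d * (dG s l)⁻¹) * (uG s a b)⁻¹ := by group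
  rw [e]
  have e2 : dG s l * uG s c d * (dG s l)⁻¹ ∈ Uni s F := by
    refine ⟨(l : F) ^ s * c, (l : F) ^ s * l * l * d, ?_⟩
    exact Subtype.ext (dS_conj_uS l c d)
  exact mul_mem (mul_mem (uG_mem_Uni a b) e2) (inv_mem (uG_mem_Uni a b))

/-- The normaliser of the unipotent subgroup is the Borel subgroup. -/
theorem norm_Uni : Subgroup.normalizer ((Uni s F : Subgroup (GG s F)) : Set (GG s F)) = Bor s F := by
  apply le_antisymm
  · intro x hx
    rw [Subgroup.mem_normalizer_iff] at hx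
    have hu : x * uG s (1 : F) 0 * x⁻¹ ∈ Uni s F := (hx _).mp (uG_mem_Uni 1 0)
    have hfix : (x * uG s (1 : F) 0 * x⁻¹) • pI F = pI F := mem_Bor.mp (Uni_le_Bor hu)
    have hfix' : uG s (1 : F) 0 • (x⁻¹ • pI F) = x⁻¹ • pI F := by
      have e0 : uG s (1 : F) 0 • (x⁻¹ • pI F) = x⁻¹ • ((x * uG s (1 : F) 0 * x⁻¹) • pI F) := by
        simp only [mul_smul, inv_smul_smul]
      rw [e0, hfix]
    have hmem : x⁻¹ • pI F ∈ Ov s F := smul_mem_Ov' _ pI_mem
    rcases hmem with he | ⟨X, Y, he⟩
    · rw [mem_Bor]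
      rw [inv_smul_eq_iff] at he
      exact he.symm
    · rw [he] at hfix'
      have := (uG_fix hfix').1
      exact absurd this one_ne_zero
  · intro x hx
    rw [Subgroup.mem_normalizer_iff]
    intro u
    constructor
    · exact conj_Uni hx
    · intro hu
      have := conj_Uni (inv_mem hx) hu
      have e : x⁻¹ * (x * u * x⁻¹) * x⁻¹⁻¹ = u := by group
      rwa [e] at this

/-- The main facts on the action on cosets for the Lie-theoretic description. -/
theorem lie_props : ∃ S : @Sylow 2 (Cfsg.Lie.Sz F s) _,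
      Nat.card (Subgroup.normalizer ((S : Subgroup (Cfsg.Lie.Sz F s)) : Set (Cfsg.Lie.Sz F s))) =
        Fintype.card F ^ 2 * (Fintype.card F - 1) ∧
      (Subgroup.normalizer ((S : Subgroup (Cfsg.Lie.Sz F s)) : Set (Cfsg.Lie.Sz F s))).index =
        Fintype.card F ^ 2 + 1 ∧
      MulAction.IsMultiplyPretransitive (Cfsg.Lie.Sz F s)
        (Cfsg.Lie.Sz F s ⧸ Subgroup.normalizer ((S : Subgroup (Cfsg.Lie.Sz F s)) : Set (Cfsg.Lie.Sz F s))) 2 ∧
      ∀ x y : Cfsg.Lie.Sz F s ⧸ Subgroup.normalizer ((S : Subgroup (Cfsg.Lie.Sz F s)) : Set (Cfsg.Lie.Sz F s)),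
        x ≠ (QuotientGroup.mk 1) → y ≠ (QuotientGroup.mk 1) →
          ∃! s' : (S : Subgroup (Cfsg.Lie.Sz F s)), (s' : Cfsg.Lie.Sz F s) • x = y := by
  have hN : Subgroup.normalizer (((UniS s F : Sylow 2 (GG s F)) : Subgroup (GG s F)) : Set (GG s F)) =
      Bor s F := norm_Uni
  have hstab : MulAction.stabilizer (GG s F) (⟨pI F, pI_mem⟩ : Ov s F) =
      Subgroup.normalizer (((UniS s F : Sylow 2 (GG s F)) : Subgroup (GG s F)) : Set (GG s F)) := by
    rw [hN]
    ext x
    rw [MulAction.mem_stabilizer_iff, mem_Bor]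
    exact Subtype.ext_iff
  obtain ⟨S, h1, h2, h3, h4⟩ := transport_props (szEquiv s F) (⟨pI F, pI_mem⟩ : Ov s F) (UniS s F) hstab
    (by
      rintro ⟨x, hx⟩ ⟨y, hy⟩ ⟨u, hu⟩ ⟨v, hv⟩ hxy huv
      obtain ⟨g, e1, e2⟩ := two_trans hx hy (fun e => hxy (Subtype.ext e)) hu hv
        (fun e => huv (Subtype.ext e))
      exact ⟨g, Subtype.ext e1, Subtype.ext e2⟩)
    (by
      rintro ⟨u, hu⟩
      obtain ⟨g, e1⟩ := exists_smul_pIG hu
      exact ⟨g, Subtype.ext e1⟩)
    (by
      rintro ⟨b, hb⟩ ⟨c, hc⟩ hba hca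
      have hb' : ∃ x y : F, b = pP s x y := hb.resolve_left (fun e => hba (Subtype.ext e))
      have hc' : ∃ x y : F, c = pP s x y := hc.resolve_left (fun e => hca (Subtype.ext e))
      obtain ⟨x, y, rfl⟩ := hb'
      obtain ⟨x', y', rfl⟩ := hc'
      have t2 := two_eq_zero' (F := F) (s := s)
      refine ⟨⟨uG s (x + x') (y + y' + (x + x') ^ s * x), uG_mem_Uni _ _⟩, ?_, ?_⟩
      · apply Subtype.ext
        show uG s _ _ • pP s x y = pP s x' y'
        rw [uG_smul_pP]
        congr 1
        · linear_combination x * t2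
        · linear_combination (y + (x + x') ^ s * x) * t2
      · rintro ⟨_, a, b, rfl⟩ he
        have he' : uG s a b • pP s x y = pP s x' y' := congrArg Subtype.val he
        rw [uG_smul_pP] at he'
        obtain ⟨e1, e2⟩ := pP_inj he'
        apply Subtype.ext
        have ea : a = x + x' := by
          rw [← e1]
          linear_combination (-x) * t2
        subst ea
        have eb : b = y + y' + (x + x') ^ s * x := by
          rw [← e2]
          linear_combination (-y - (x + x') ^ s * x) * t2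
        rw [eb])
  refine ⟨S, ?_, ?_, h3, h4⟩
  · rw [h1, hN, card_Bor]
  · rw [h2, hN, index_Bor]

end Cfsg.Agent.SzT
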