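import Mathlib
import Cfsg.Prelude.Def_KGroupFacts
import Cfsg.Agent.Lib.Sz.Lie
import Cfsg.Agent.Lib.Sz.Syl2
import Cfsg.Agent.Lib.Sz.Coset
import Cfsg.Agent.Lib.Hall.SZConj
import Cfsg.Agent.Lib.ChevAut.FieldCard

/-!
The automorphism group of the Suzuki group: every automorphism is a product of an inner automorphism
and a field automorphism.
-/

set_option autoImplicit false
set_option linter.unusedSectionVars false
set_option linter.style.haveILetI false

namespace Cfsg.Agent.SzT

open Matrix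
open scoped Pointwise LinearAlgebra.Projectivization

variable {F : Type*} [Field F] [Fintype F] {s : ℕ} [h : SzF F s]

/-! ### Field automorphisms -/

lemma star4_map_ring (θ : F →+* F) (M : Matrix (Fin 4) (Fin 4) F) :
    Cfsg.Lie.star4 (M.map θ) = (Cfsg.Lie.star4 M).map θ := by
  ext p r
  simp [Cfsg.Lie.star4]

lemma wM_map_ring (θ : F →+* F) : (wM F).map θ = wM F := by
  ext i j
  fin_cases i <;> fin_cases j <;> simp [wM]

lemma T4_map_ring (θ : F →+* F) {M : Matrix (Fin 4) (Fin 4) F} (hM : T4 s M) : T4 s (M.map θ) := by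
  refine ⟨?_, ?_⟩
  · have e := congrArg (fun X => X.map θ) hM.1
    simp only [Matrix.map_mul, wM_map_ring] at e
    rw [Matrix.transpose_map] at e
    exact e
  · rw [star4_map_ring, hM.2]
    ext i j
    simp

/-- The field automorphism on `SL₄`. -/
def fieldS (θ : F →+* F) : SL4 F →* SL4 F := Matrix.SpecialLinearGroup.map θ

lemma fieldS_coe (θ : F →+* F) (g : SL4 F) :
    ((fieldS θ g : SL4 F) : Matrix (Fin 4) (Fin 4) F) = (g : Matrix (Fin 4) (Fin 4) F).map θ := rfl

lemma fieldS_mem (θ : F →+* F) {g : SL4 F} (hg : g ∈ GG s F) : fieldS θ g ∈ GG s F := by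
  apply mem_GG_of_T4
  rw [fieldS_coe]
  exact T4_map_ring θ (T4_of_GG ⟨g, hg⟩)

/-- The field automorphism on the Suzuki group, as an endomorphism. -/
def fieldE (s : ℕ) [SzF F s] (θ : F →+* F) : GG s F →* GG s F :=
  ((fieldS θ).comp (GG s F).subtype).codRestrict _ (fun g => fieldS_mem θ g.2)

lemma fieldE_coe (θ : F →+* F) (g : GG s F) :
    (((fieldE s θ g : GG s F) : SL4 F) : Matrix (Fin 4) (Fin 4) F) =
      ((g : SL4 F) : Matrix (Fin 4) (Fin 4) F).map θ := rfl

lemma gg_ext {g g' : GG s F}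
    (he : ((g : SL4 F) : Matrix (Fin 4) (Fin 4) F) = ((g' : SL4 F) : Matrix (Fin 4) (Fin 4) F)) : g = g' :=
  Subtype.ext (Subtype.ext he)

lemma fieldE_comp (θ θ' : F →+* F) (g : GG s F) :
    fieldE s θ (fieldE s θ' g) = fieldE s (θ.comp θ') g := by
  apply gg_ext
  rw [fieldE_coe, fieldE_coe, fieldE_coe]
  ext i j
  simp

lemma fieldE_id (g : GG s F) : fieldE s (RingHom.id F) g = g := by
  apply gg_ext
  rw [fieldE_coe]
  ext i j
  simp

lemma fieldE_uG (θ : F →+* F) (a b : F) : fieldE s θ (uG s a b) = uG s (θ a) (θ b) := by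
  apply gg_ext
  rw [fieldE_coe]
  show (uM s a b).map θ = uM s (θ a) (θ b)
  ext i j
  fin_cases i <;> fin_cases j <;> simp [uM, ff]

lemma fieldE_dG (θ : F →+* F) (l : Fˣ) : fieldE s θ (dG s l) = dG s (Units.map (θ : F →* F) l) := by
  apply gg_ext
  rw [fieldE_coe]
  show (dM s (l : F)).map θ = dM s ((Units.map (θ : F →* F) l : Fˣ) : F)
  ext i j
  fin_cases i <;> fin_cases j <;> simp [dM]

/-- The field automorphism on the Suzuki group. -/
def fieldA (s : ℕ) [SzF F s] (θ : F ≃+* F) : MulAut (GG s F) where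
  toFun := fieldE s (θ : F →+* F)
  invFun := fieldE s (θ.symm : F →+* F)
  left_inv g := by
    rw [fieldE_comp]
    have : ((θ.symm : F →+* F).comp (θ : F →+* F)) = RingHom.id F := by
      ext x
      simp
    rw [this, fieldE_id]
  right_inv g := by
    rw [fieldE_comp]
    have : ((θ : F →+* F).comp (θ.symm : F →+* F)) = RingHom.id F := by
      ext x
      simp
    rw [this, fieldE_id]
  map_mul' := map_mul _

lemma fieldA_apply (θ : F ≃+* F) (g : GG s F) : fieldA s θ g = fieldE s (θ : F →+* F) g := rfl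

lemma fieldA_symm_apply (θ : F ≃+* F) (g : GG s F) :
    (fieldA s θ)⁻¹ g = fieldE s (θ.symm : F →+* F) g := rfl

lemma fieldA_mul (θ θ' : F ≃+* F) : fieldA s (θ * θ') = fieldA s θ * fieldA s θ' := by
  ext g
  rw [MulAut.mul_apply, fieldA_apply, fieldA_apply, fieldA_apply, fieldE_comp]
  rfl

/-- The field automorphisms as a homomorphism. -/
def fieldHom (s : ℕ) (F : Type*) [Field F] [Fintype F] [SzF F s] : (F ≃+* F) →* MulAut (GG s F) :=
  MonoidHom.mk' (fieldA s) fieldA_mul

/-! ### Rigidity -/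

lemma rig0 (β : MulAut (GG s F)) (hU : ∀ a b : F, β (uG s a b) = uG s a b)
    (hT : ∀ l : Fˣ, β (dG s l) = dG s l) : β = 1 := by
  classical
  set w' := β (wG s F) with hw'
  have hB : ∀ g : GG s F, g • pI F = pI F → β g = g := by
    intro g hg
    obtain ⟨a, b, l, rfl⟩ := stab1G hg
    rw [map_mul, hU, hT]
  have hw_ne : w' • pI F ≠ pI F := by
    intro he
    have e1 : β w' = w' := hB w' he
    have e2 : w' = wG s F := β.injective e1
    rw [e2, wG_smul_pI] at he
    exact pP_ne_pI _ _ he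
  have hp0 : w' • pI F = p00 s F := by
    obtain ⟨l, hl⟩ := exists_unit_ne_one (s := s) (F := F)
    have hm : w' * dG s l = dG s l⁻¹ * w' := by
      have e : wG s F * dG s l = dG s l⁻¹ * wG s F := by
        have := wG_conj_dG (s := s) (F := F) l
        rw [← this, mul_assoc, mul_assoc, wG_mul_self, mul_one]
      have := congrArg β e
      rw [map_mul, map_mul, hT, hT] at this
      exact this
    have hfix : dG s l⁻¹ • (w' • pI F) = w' • pI F := by
      rw [smul_smul, ← hm, mul_smul, dG_smul_pI]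
    have hOv : w' • pI F ∈ Ov s F := smul_mem_Ov' _ pI_mem
    rcases hOv with hOv | ⟨x, y, hxy⟩
    · exact absurd hOv hw_ne
    · rw [hxy, dG_smul_pP] at hfix
      obtain ⟨e1, e2⟩ := pP_inj hfix
      have hl' : l⁻¹ ≠ 1 := by
        intro h1
        exact hl (inv_eq_one.mp h1)
      have hx : x = 0 := by
        by_contra hx
        apply pow_s_ne_one (s := s) hl'
        exact mul_right_cancel₀ hx (by rw [e1, one_mul])
      have hy : y = 0 := by
        by_contra hy
        apply pow_s2_ne_one (s := s) hl'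
        exact mul_right_cancel₀ hy (by rw [e2, one_mul])
      rw [hxy, hx, hy]
  have hall : ∀ g : GG s F, β g • pI F = g • pI F := by
    intro g
    by_cases hg : g • pI F = pI F
    · rw [hB g hg]
    · obtain ⟨a, b, c, d, l, rfl⟩ := stab0G hg
      simp only [map_mul, hU, hT, ← hw']
      simp only [mul_smul, dG_smul_pI, uG_smul_pI, hp0, wG_smul_pI]
  refine MulEquiv.ext fun g => ?_
  show β g = g
  have hsame : ∀ p ∈ Ov s F, (g⁻¹ * β g) • p = p := by
    intro p hp
    obtain ⟨x, rfl⟩ := exists_smul_pIG hp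
    have e1 : β g • (x • pI F) = (g * x) • pI F := by
      have e2 := hall x
      rw [← e2, smul_smul, ← map_mul]
      exact hall _
    rw [mul_smul, e1, mul_smul, inv_smul_smul]
  have := eq_one_of_fix hsame
  exact (inv_mul_eq_one.mp this).symm

lemma sq_form (a : F) : ∃ c : F, c ^ s * c = a := by
  have := pow_s_add_one_surj (s := s) a
  refine ⟨a ^ (s - 1), ?_⟩
  rw [pow_succ] at this
  exact this

/-- Automorphisms fixing the torus and acting trivially on the quotient of the unipotent group. -/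
lemma rig1 (β : MulAut (GG s F)) (f : F → F) (hU : ∀ a : F, β (uG s a 0) = uG s a (f a))
    (hT : ∀ l : Fˣ, β (dG s l) = dG s l) : β = 1 := by
  have hZ : ∀ b : F, β (uG s 0 b) = uG s 0 b := by
    intro b
    obtain ⟨a, rfl⟩ := sq_form (s := s) b
    rw [← uG_sq a 0, map_mul, hU, uG_sq]
    rw [uG_sq]
  have hdec : ∀ a b : F, uG s a b = uG s 0 b * uG s a 0 := by
    intro a b
    rw [uG_mul, s_zero (s := s), zero_mul, add_zero, add_zero, zero_add]
  have hadd : ∀ a c : F, f (a + c) = f a + f c := by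
    intro a c
    have e1 : uG s a 0 * uG s c 0 = uG s 0 (a ^ s * c) * uG s (a + c) 0 := by
      rw [← hdec, uG_mul, zero_add, zero_add]
    have e2 := congrArg β e1
    rw [map_mul, map_mul, hU, hU, hU, hZ, uG_mul, uG_mul, s_zero (s := s), zero_mul, add_zero,
      zero_add] at e2
    obtain ⟨-, e3⟩ := uG_inj e2
    have e4 : f a + f c = a ^ s * c + f (a + c) + a ^ s * c := by
      rw [← e3]
      have := add_self' (s := s) (a ^ s * c)
      linear_combination (-1 : F) * this
    rw [e4]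
    have := add_self' (s := s) (a ^ s * c)
    linear_combination (-1 : F) * this
  have hscale : ∀ (l : Fˣ) (a : F), f ((l : F) ^ s * a) = (l : F) ^ s * l * l * f a := by
    intro l a
    have e1 := dG_conj_uG (s := s) l a 0
    have e2 := congrArg β e1
    rw [map_mul, map_mul, map_inv, hT, hU, dG_conj_uG, mul_zero, hU] at e2
    exact (uG_inj e2).2.symm
  have h00 : f 0 = 0 := by
    have := hadd 0 0
    rw [add_zero] at this
    have h2 := add_self' (s := s) (f 0)
    rw [← this] at h2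
    exact h2
  have hf : ∀ x : F, f x = x * x ^ s * f 1 := by
    intro x
    by_cases hx : x = 0
    · rw [hx, h00, zero_mul, zero_mul]
    · obtain ⟨y, hy⟩ := s_surj (s := s) x
      have hy0 : y ≠ 0 := by
        rintro rfl
        rw [s_zero (s := s)] at hy
        exact hx hy.symm
      have := hscale (Units.mk0 y hy0) 1
      simp only [Units.val_mk0, mul_one] at this
      rw [hy] at this
      rw [this, ← hy, h.sq y]
      ring
  have he : f 1 = 0 := by
    obtain ⟨c, hc⟩ := exists_not_fixed (s := s) (F := F)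
    have e1 := hadd 1 c
    rw [hf (1 + c), hf c, s_pow_add, one_pow] at e1
    have e2 : (c + c ^ s) * f 1 = 0 := by
      linear_combination e1
    rcases mul_eq_zero.mp e2 with e3 | e3
    · exact absurd (eq_of_add_eq_zero' (s := s) e3).symm hc
    · exact e3
  apply rig0 β
  · intro a b
    rw [hdec, map_mul, hZ, hU, hf, he, mul_zero]
  · exact hT

lemma rig2 (β : MulAut (GG s F)) (hU : ∀ a b : F, ∃ a' b', β (uG s a b) = uG s a' b')
    (hT : ∀ l : Fˣ, ∃ l', β (dG s l) = dG s l')
    (e : F) (h1 : β (uG s 1 0) = uG s 1 e) : ∃ θ : F ≃+* F, β = fieldA s θ := by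
  choose A B hAB using fun a : F => hU a 0
  choose τ hτ using hT
  have hZ : ∀ b : F, ∃ b', β (uG s 0 b) = uG s 0 b' := by
    intro b
    obtain ⟨a, rfl⟩ := sq_form (s := s) b
    rw [← uG_sq a 0, map_mul, hAB, uG_sq]
    exact ⟨_, rfl⟩
  choose φ hφ using hZ
  have hdec : ∀ a b : F, uG s a b = uG s 0 b * uG s a 0 := by
    intro a b
    rw [uG_mul, s_zero (s := s), zero_mul, add_zero, add_zero, zero_add]
  have hadd : ∀ a c : F, A (a + c) = A a + A c := by
    intro a c
    have e1 : uG s a 0 * uG s c 0 = uG s 0 (a ^ s * c) * uG s (a + c) 0 := by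
      rw [← hdec, uG_mul, zero_add, zero_add]
    have e2 := congrArg β e1
    rw [map_mul, map_mul, hAB, hAB, hAB, hφ, uG_mul, uG_mul, s_zero (s := s), zero_mul, add_zero,
      zero_add] at e2
    exact (uG_inj e2).1.symm
  have hscale : ∀ (l : Fˣ) (a : F), A ((l : F) ^ s * a) = ((τ l : Fˣ) : F) ^ s * A a := by
    intro l a
    have e1 := dG_conj_uG (s := s) l a 0
    have e2 := congrArg β e1
    rw [map_mul, map_mul, map_inv, hτ, hAB, dG_conj_uG, mul_zero, hAB] at e2
    exact (uG_inj e2).1.symm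
  have hA1 : A 1 = 1 := (uG_inj ((hAB 1).symm.trans h1)).1
  have hA0 : A 0 = 0 := by
    have := hadd 0 0
    rw [add_zero] at this
    have h2 := add_self' (s := s) (A 0)
    rw [← this] at h2
    exact h2
  have hmul : ∀ x a : F, A (x * a) = A x * A a := by
    intro x a
    by_cases hx : x = 0
    · rw [hx, zero_mul, hA0, zero_mul]
    · obtain ⟨y, hy⟩ := s_surj (s := s) x
      have hy0 : y ≠ 0 := by
        rintro rfl
        rw [s_zero (s := s)] at hy
        exact hx hy.symm
      have e1 := hscale (Units.mk0 y hy0) a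
      have e2 := hscale (Units.mk0 y hy0) 1
      simp only [Units.val_mk0, mul_one, hA1] at e1 e2
      rw [hy] at e1 e2
      rw [e1, e2]
  let σ : F →+* F :=
    { toFun := A, map_one' := hA1, map_mul' := hmul, map_zero' := hA0, map_add' := hadd }
  have hσ : ∀ x, σ x = A x := fun _ => rfl
  have hbij : Function.Bijective σ := ⟨σ.injective, Finite.surjective_of_injective σ.injective⟩
  let θ : F ≃+* F := RingEquiv.ofBijective σ hbij
  have hθ : ∀ x, θ x = A x := fun _ => rfl
  refine ⟨θ, ?_⟩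
  have key : (fieldA s θ)⁻¹ * β = 1 := by
    apply rig1 _ (fun a => θ.symm (B a))
    · intro a
      rw [MulAut.mul_apply, hAB, fieldA_symm_apply, fieldE_uG]
      have : ((θ.symm : F ≃+* F) : F →+* F) (A a) = a := by
        show θ.symm (A a) = a
        rw [← hθ, RingEquiv.symm_apply_apply]
      rw [this]
      rfl
    · intro l
      rw [MulAut.mul_apply, hτ, fieldA_symm_apply, fieldE_dG]
      congr 1
      apply Units.ext
      show θ.symm ((τ l : Fˣ) : F) = l
      rw [RingEquiv.symm_apply_eq, hθ]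
      apply s_inj (s := s)
      have e2 := hscale l 1
      simp only [mul_one, hA1] at e2
      rw [← e2, ← hσ, ← hσ, map_pow]
  exact (inv_mul_eq_one.mp key).symm

lemma rig3 (β : MulAut (GG s F)) (hU : ∀ a b : F, ∃ a' b', β (uG s a b) = uG s a' b')
    (hT : ∀ l : Fˣ, ∃ l', β (dG s l) = dG s l') :
    ∃ (g : GG s F) (θ : F ≃+* F), β = MulAut.conj g * fieldA s θ := by
  obtain ⟨c0, e0, h0⟩ := hU 1 0
  have hc0 : c0 ≠ 0 := by
    rintro rfl
    have e1 : β (uG s 1 0 * uG s 1 0) = 1 := by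
      rw [map_mul, h0]
      exact uG_zero_sq e0
    have e2 : uG s (1 : F) 0 * uG s 1 0 = 1 := by
      apply β.injective
      rw [e1, map_one]
    rw [uG_sq, ← uG_zero (s := s) (F := F)] at e2
    have := (uG_inj e2).2
    simp at this
  obtain ⟨y, hy⟩ := s_surj (s := s) c0⁻¹
  have hy0 : y ≠ 0 := by
    rintro rfl
    rw [s_zero (s := s)] at hy
    exact inv_ne_zero hc0 hy.symm
  let l : Fˣ := Units.mk0 y hy0
  have hU' : ∀ a b : F, ∃ a' b', (MulAut.conj (dG s l) * β) (uG s a b) = uG s a' b' := by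
    intro a b
    obtain ⟨a', b', e⟩ := hU a b
    rw [MulAut.mul_apply, e, MulAut.conj_apply, dG_conj_uG]
    exact ⟨_, _, rfl⟩
  have hT' : ∀ k : Fˣ, ∃ k', (MulAut.conj (dG s l) * β) (dG s k) = dG s k' := by
    intro k
    obtain ⟨k', e⟩ := hT k
    refine ⟨k', ?_⟩
    rw [MulAut.mul_apply, e, MulAut.conj_apply, dG_inv, dG_mul, dG_mul, mul_comm, inv_mul_cancel_left]
  have h1' : (MulAut.conj (dG s l) * β) (uG s 1 0) = uG s 1 (((l : F) ^ s * l * l) * e0) := by
    rw [MulAut.mul_apply, h0, MulAut.conj_apply, dG_conj_uG]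
    have : (l : F) ^ s * c0 = 1 := by
      show y ^ s * c0 = 1
      rw [hy, inv_mul_cancel₀ hc0]
    rw [this]
  obtain ⟨θ, hθ⟩ := rig2 (MulAut.conj (dG s l) * β) hU' hT' _ h1'
  refine ⟨(dG s l)⁻¹, θ, ?_⟩
  rw [← hθ, map_inv, inv_mul_cancel_left]

/-! ### Normalising an automorphism -/

/-- The torus as a homomorphic image. -/
def dHom (s : ℕ) (F : Type*) [Field F] [Fintype F] [SzF F s] : Fˣ →* GG s F :=
  MonoidHom.mk' (dG s) (fun l l' => (dG_mul l l').symm)

/-- The torus. -/
def TorA (s : ℕ) (F : Type*) [Field F] [Fintype F] [SzF F s] : Subgroup (GG s F) := (dHom s F).range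

lemma mem_TorA {g : GG s F} : g ∈ TorA s F ↔ ∃ l : Fˣ, dG s l = g := Iff.rfl

lemma dG_mem_TorA (l : Fˣ) : dG s l ∈ TorA s F := ⟨l, rfl⟩

lemma card_TorA : Nat.card (TorA s F) = Fintype.card F - 1 := by
  classical
  have hinj : Function.Injective (dHom s F) := fun _ _ he => dG_inj he
  rw [TorA, ← Nat.card_congr (MonoidHom.ofInjective hinj).toEquiv, Nat.card_eq_fintype_card,
    Fintype.card_units]

lemma TorA_le_Bor : TorA s F ≤ Bor s F := by
  rintro _ ⟨l, rfl⟩
  exact dG_mem_Bor l

theorem step1 (α : MulAut (GG s F)) : ∃ g : GG s F, ∀ x ∈ Uni s F, g * α x * g⁻¹ ∈ Uni s F := by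
  obtain ⟨g, hg⟩ := MulAction.exists_smul_eq (GG s F) (α • UniS s F) (UniS s F)
  refine ⟨g, fun x hx => ?_⟩
  have e1 : α x ∈ ((α • UniS s F : Sylow 2 (GG s F)) : Subgroup (GG s F)) := by
    rw [Sylow.pointwise_smul_def]
    exact Subgroup.smul_mem_pointwise_smul x α _ hx
  have e2 : MulAut.conj g (α x) ∈ ((g • α • UniS s F : Sylow 2 (GG s F)) : Subgroup (GG s F)) := by
    rw [Sylow.coe_subgroup_smul]
    exact Subgroup.smul_mem_pointwise_smul _ (MulAut.conj g) _ e1
  rw [hg] at e2
  exact e2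

lemma Uni_iff (β : MulAut (GG s F)) (hU : ∀ x ∈ Uni s F, β x ∈ Uni s F) (x : GG s F) :
    β x ∈ Uni s F ↔ x ∈ Uni s F := by
  refine ⟨fun hx => ?_, hU x⟩
  have hle : (Uni s F).map β.toMonoidHom ≤ Uni s F := by
    rintro _ ⟨y, hy, rfl⟩
    exact hU y hy
  have hcard : Nat.card ((Uni s F).map β.toMonoidHom) = Nat.card (Uni s F) :=
    Subgroup.card_map_of_injective β.injective
  have heq : (Uni s F).map β.toMonoidHom = Uni s F :=
    Subgroup.eq_of_le_of_card_ge hle hcard.ge
  rw [← heq] at hx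
  obtain ⟨y, hy, e⟩ := hx
  rwa [← β.injective e]

lemma Bor_map (β : MulAut (GG s F)) (hU : ∀ x ∈ Uni s F, β x ∈ Uni s F) {x : GG s F}
    (hx : x ∈ Bor s F) : β x ∈ Bor s F := by
  rw [← norm_Uni] at hx ⊢
  rw [Subgroup.mem_normalizer_iff] at hx ⊢
  intro y
  obtain ⟨z, rfl⟩ := β.surjective y
  rw [← map_inv, ← map_mul, ← map_mul, Uni_iff β hU, Uni_iff β hU]
  exact hx z

theorem step2 (β : MulAut (GG s F)) (hU : ∀ x ∈ Uni s F, β x ∈ Uni s F) :
    ∃ b ∈ Bor s F, ∀ l : Fˣ, b * β (dG s l) * b⁻¹ ∈ TorA s F := by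
  classical
  have hq : Nat.Coprime (Fintype.card F ^ 2) (Fintype.card F - 1) := by
    have hq1 : 1 ≤ Fintype.card F := Fintype.card_pos
    apply Nat.Coprime.pow_left
    have := (Nat.coprime_self_sub_right hq1 (n := Fintype.card F) (m := 1))
    simpa using this
  haveI hNn : ((Uni s F).subgroupOf (Bor s F)).Normal := by
    apply Subgroup.normal_subgroupOf_of_le_normalizer
    rw [norm_Uni]
  have cU : Nat.card ((Uni s F).subgroupOf (Bor s F)) = Fintype.card F ^ 2 := by
    rw [Nat.card_congr (Subgroup.subgroupOfEquivOfLe Uni_le_Bor).toEquiv, card_Uni]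
  have cT : Nat.card ((TorA s F).subgroupOf (Bor s F)) = Fintype.card F - 1 := by
    rw [Nat.card_congr (Subgroup.subgroupOfEquivOfLe TorA_le_Bor).toEquiv, card_TorA]
  have hle : (TorA s F).map β.toMonoidHom ≤ Bor s F := by
    rintro _ ⟨y, hy, rfl⟩
    exact Bor_map β hU (TorA_le_Bor hy)
  have cT' : Nat.card (((TorA s F).map β.toMonoidHom).subgroupOf (Bor s F)) = Fintype.card F - 1 := by
    rw [Nat.card_congr (Subgroup.subgroupOfEquivOfLe hle).toEquiv,
      Subgroup.card_map_of_injective β.injective, card_TorA]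
  have cB : Nat.card (Bor s F) = Fintype.card F ^ 2 * (Fintype.card F - 1) := card_Bor
  have cU' : (Nat.card ((Uni s F).subgroupOf (Bor s F))).Coprime ((Uni s F).subgroupOf (Bor s F)).index := by
    have hi : ((Uni s F).subgroupOf (Bor s F)).index = Fintype.card F - 1 := by
      have e := Subgroup.card_mul_index ((Uni s F).subgroupOf (Bor s F))
      rw [cU, cB] at e
      exact Nat.eq_of_mul_eq_mul_left (by positivity) e
    rw [cU, hi]
    exact hq
  have hc1 : Subgroup.IsComplement' ((Uni s F).subgroupOf (Bor s F)) ((TorA s F).subgroupOf (Bor s F)) := by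
    apply Subgroup.isComplement'_of_coprime
    · rw [cU, cT, cB]
    · rw [cU, cT]
      exact hq
  have hc2 : Subgroup.IsComplement' ((Uni s F).subgroupOf (Bor s F))
      (((TorA s F).map β.toMonoidHom).subgroupOf (Bor s F)) := by
    apply Subgroup.isComplement'_of_coprime
    · rw [cU, cT', cB]
    · rw [cU, cT']
      exact hq
  haveI hsB : Group.IsSolvable (Bor s F) := solv_Bor
  obtain ⟨n, hconj⟩ := Cfsg.Agent.Lib.Hall.exists_conj_of_isComplement'_of_solvable
    ((Uni s F).subgroupOf (Bor s F)) cU' inferInstance _ _ hc2 hc1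
  refine ⟨n.1, n.2, fun l => ?_⟩
  have h1 : (⟨β (dG s l), hle ⟨_, dG_mem_TorA l, rfl⟩⟩ : Bor s F) ∈
      ((TorA s F).map β.toMonoidHom).subgroupOf (Bor s F) :=
    Subgroup.mem_subgroupOf.mpr ⟨_, dG_mem_TorA l, rfl⟩
  have h2 := Subgroup.smul_mem_pointwise_smul _ (MulAut.conj n) _ h1
  rw [hconj] at h2
  exact Subgroup.mem_subgroupOf.mp h2

theorem aut_decomp (α : MulAut (GG s F)) :
    ∃ (g : GG s F) (θ : F ≃+* F), α = MulAut.conj g * fieldA s θ := by
  obtain ⟨g1, hg1⟩ := step1 α
  set β0 := MulAut.conj g1 * α with hβ0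
  have hU0 : ∀ x ∈ Uni s F, β0 x ∈ Uni s F := by
    intro x hx
    rw [hβ0, MulAut.mul_apply, MulAut.conj_apply]
    exact hg1 x hx
  obtain ⟨b, hb, hbT⟩ := step2 β0 hU0
  set β1 := MulAut.conj b * β0 with hβ1
  have hU1 : ∀ a c : F, ∃ a' b', β1 (uG s a c) = uG s a' b' := by
    intro a c
    have hm : β1 (uG s a c) ∈ Uni s F := by
      rw [hβ1, MulAut.mul_apply, MulAut.conj_apply]
      exact conj_Uni hb (hU0 _ (uG_mem_Uni a c))
    obtain ⟨a', b', e⟩ := hm
    exact ⟨a', b', e⟩
  have hT1 : ∀ l : Fˣ, ∃ l', β1 (dG s l) = dG s l' := by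
    intro l
    have hm := hbT l
    obtain ⟨l', e⟩ := hm
    refine ⟨l', ?_⟩
    rw [hβ1, MulAut.mul_apply, MulAut.conj_apply]
    exact e.symm
  obtain ⟨g2, θ, e⟩ := rig3 β1 hU1 hT1
  refine ⟨g1⁻¹ * (b⁻¹ * g2), θ, ?_⟩
  rw [map_mul, map_mul, map_inv, map_inv, mul_assoc, mul_assoc, ← e, hβ1, hβ0]
  group

theorem fieldA_inner (θ : F ≃+* F) (g : GG s F) (he : fieldA s θ = MulAut.conj g) : θ = 1 := by
  have hU : ∀ a b : F, g * uG s a b * g⁻¹ = uG s (θ a) (θ b) := by
    intro a b
    have := congrArg (fun φ : MulAut (GG s F) => φ (uG s a b)) he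
    simp only [MulAut.conj_apply, fieldA_apply, fieldE_uG] at this
    exact this.symm
  have hT : ∀ l : Fˣ, g * dG s l * g⁻¹ = dG s (Units.map (θ : F →* F) l) := by
    intro l
    have := congrArg (fun φ : MulAut (GG s F) => φ (dG s l)) he
    simp only [MulAut.conj_apply, fieldA_apply, fieldE_dG] at this
    exact this.symm
  have hcomm : g * uG s (1 : F) 0 = uG s 1 0 * g := by
    have := hU 1 0
    rw [map_one, map_zero, mul_inv_eq_iff_eq_mul] at this
    exact this
  obtain ⟨a0, b0, rfl⟩ := cent_uni (s := s) (a := (1 : F)) (b := 0) (by simp) hcomm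
  obtain ⟨l, hl⟩ := exists_unit_ne_one (s := s) (F := F)
  have hl' : Units.map (θ : F →* F) l ≠ 1 := by
    intro h1
    apply hl
    apply Units.ext
    have := congrArg Units.val h1
    simp only [Units.coe_map, Units.val_one, map_one] at this
    exact θ.injective (this.trans (map_one θ).symm)
  have hfix : dG s (Units.map (θ : F →* F) l) • pP s a0 b0 = pP s a0 b0 := by
    rw [← hT l, ← uG_smul_p00]
    simp only [mul_smul, inv_smul_smul, dG_smul_pP, mul_zero]
  rw [dG_smul_pP] at hfix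
  obtain ⟨e1, e2⟩ := pP_inj hfix
  have ha : a0 = 0 := by
    by_contra hx
    apply pow_s_ne_one (s := s) hl'
    exact mul_right_cancel₀ hx (by rw [e1, one_mul])
  have hb : b0 = 0 := by
    by_contra hy
    apply pow_s2_ne_one (s := s) hl'
    exact mul_right_cancel₀ hy (by rw [e2, one_mul])
  subst ha
  subst hb
  ext x
  have := hU x 0
  rw [uG_zero, one_mul, inv_one, mul_one] at this
  exact (uG_inj this).1.symm

theorem card_out_GG : Nat.card (Cfsg.Out (GG s F)) = Nat.card (F ≃+* F) := by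
  let Ψ : (F ≃+* F) →* Cfsg.Out (GG s F) := (QuotientGroup.mk' (Cfsg.Inn (GG s F))).comp (fieldHom s F)
  have hinj : Function.Injective Ψ := by
    rw [injective_iff_map_eq_one]
    intro θ hθ
    have : fieldA s θ ∈ Cfsg.Inn (GG s F) := (QuotientGroup.eq_one_iff _).1 hθ
    obtain ⟨g, hg⟩ := this
    exact fieldA_inner θ g hg.symm
  have hsurj : Function.Surjective Ψ := by
    intro x
    obtain ⟨α, rfl⟩ := QuotientGroup.mk'_surjective _ x
    obtain ⟨g, θ, rfl⟩ := aut_decomp α
    refine ⟨θ, ?_⟩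
    show QuotientGroup.mk' _ (fieldA s θ) = QuotientGroup.mk' _ (MulAut.conj g * fieldA s θ)
    rw [map_mul]
    have : QuotientGroup.mk' (Cfsg.Inn (GG s F)) (MulAut.conj g) = 1 :=
      (QuotientGroup.eq_one_iff _).2 ⟨g, rfl⟩
    rw [this, one_mul]
  exact (Nat.card_congr (Equiv.ofBijective Ψ ⟨hinj, hsurj⟩)).symm

end Cfsg.Agent.SzT
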