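import Mathlib
import Cfsg.Agent.Lib.Sz.Tori3

/-!
An abstract counting theorem: a finite group whose non-`2`-elements lie in abelian TI centralisers of odd
order with small normaliser quotients, and whose `2`-elements are controlled by a TI `2`-subgroup,
has a permutation action of the expected degree.  This is the core of Suzuki's determination of the
subgroups of the groups `Sz(q)`.
-/

set_option autoImplicit false
set_option linter.unusedSectionVars false
set_option linter.style.haveILetI false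

namespace Cfsg.Agent.SzT


lemma arith_Pz {X N C D Y TC TD : ℤ} (hx : X = 1 + N * Y) (hy : 1 ≤ Y) (hn : 4 ≤ N) (hc : 3 ≤ C)
    (hC : 2 * TC = X * N * (C - 1)) (hD : TD * (2 * D) = X * N * C * (D - 1))
    (hE1 : X * N * C = 1 + X * (N - 1) + TC + TD)
    (hE2 : X * C * (C * (N * Y)) = TC * C + TD * D) : Y = 1 := by
  have hXpos : 0 < X := by rw [hx]; positivity
  have hNpos : 0 < N := by linarith
  have hCpos : 0 < C := by linarith
  have ha : 2 * TD = X * N * (C - 1) + 2 * X - 2 := by linear_combination (-2) * hE1 - hC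
  have hb : N * (X * C - D * X + 2 * D * Y) = 0 := by
    have : D * (2 * TD) = X * N * C * (D - 1) := by linear_combination hD
    rw [ha] at this
    have h2 : X - 1 = N * Y := by rw [hx]; ring
    linear_combination this - 2 * D * h2
  have hb' : X * C - D * X + 2 * D * Y = 0 := by
    rcases mul_eq_zero.mp hb with h | h
    · exact absurd h hNpos.ne'
    · exact h
  have hc2 : X * N * C * (2 * C * Y - C - D + 2) = 0 := by
    have h3 : 2 * (TC * C) = X * N * (C - 1) * C := by linear_combination C * hC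
    have h4 : 2 * (TD * D) = X * N * C * (D - 1) := by linear_combination hD
    linear_combination 2 * hE2 + h3 + h4
  have hc2' : 2 * C * Y - C - D + 2 = 0 := by
    rcases mul_eq_zero.mp hc2 with h | h
    · exact absurd h (by positivity)
    · exact h
  have hDe : D = 2 * C * Y - C + 2 := by linarith
  by_contra hne
  have hy2 : (2 : ℤ) ≤ Y := by omega
  obtain ⟨t, rfl⟩ : ∃ t, Y = t + 1 := ⟨Y - 1, by ring⟩
  have ht : 1 ≤ t := by linarith
  have hDe' : D = C * (2 * t + 1) + 2 := by rw [hDe]; ring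
  have hCt : 0 < C * t + 1 := by nlinarith
  have h1 : X * (C * t + 1) = D * (t + 1) := by
    have : 2 * (X * (C * t + 1)) = 2 * (D * (t + 1)) := by
      rw [hDe'] at hb' ⊢
      linear_combination -hb'
    linarith
  have hX5 : 5 + 4 * t ≤ X := by
    rw [hx]
    nlinarith
  have h2 : (5 + 4 * t) * (C * t + 1) ≤ X * (C * t + 1) := mul_le_mul_of_nonneg_right hX5 hCt.le
  rw [h1, hDe'] at h2
  nlinarith [mul_pos hCpos (show (0 : ℤ) < t by linarith), mul_pos (mul_pos hCpos (show (0 : ℤ) < t by linarith)) (show (0 : ℤ) < t by linarith)]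

lemma arith_P {x n c d y tC tD : ℕ} (hx : x = 1 + n * y) (hy : 1 ≤ y) (hn : 4 ≤ n) (hc : 3 ≤ c) (hd : 3 ≤ d)
    (hC : 2 * tC = x * n * (c - 1)) (hD : tD * (2 * d) = x * n * c * (d - 1))
    (hE1 : x * n * c = 1 + x * (n - 1) + tC + tD)
    (hE2 : x * c * (x * c - c) = tC * c + tD * d) : y = 1 := by
  have hxc : x * c - c = c * (n * y) := by
    rw [hx]
    have : (1 + n * y) * c = c + c * (n * y) := by ring
    rw [this]; omega
  rw [hxc] at hE2
  obtain ⟨c', rfl⟩ : ∃ c', c = c' + 1 := ⟨c - 1, by omega⟩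
  obtain ⟨d', rfl⟩ : ∃ d', d = d' + 1 := ⟨d - 1, by omega⟩
  obtain ⟨n', rfl⟩ : ∃ n', n = n' + 1 := ⟨n - 1, by omega⟩
  simp only [Nat.add_sub_cancel] at hC hD hE1
  have := @arith_Pz (x : ℤ) (n' + 1 : ℕ) (c' + 1 : ℕ) (d' + 1 : ℕ) y tC tD
    (by exact_mod_cast hx) (by exact_mod_cast hy) (by exact_mod_cast hn) (by exact_mod_cast hc)
    (by push_cast; rw [← sub_eq_zero]; have : ((2 * tC : ℕ) : ℤ) = (x * (n' + 1) * c' : ℕ) := by rw [hC]
        push_cast at this; linear_combination this)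
    (by push_cast; have : ((tD * (2 * (d' + 1)) : ℕ) : ℤ) = (x * (n' + 1) * (c' + 1) * d' : ℕ) := by rw [hD]
        push_cast at this; linear_combination this)
    (by push_cast; have : ((x * (n' + 1) * (c' + 1) : ℕ) : ℤ) = (1 + x * n' + tC + tD : ℕ) := by rw [hE1]
        push_cast at this; linear_combination this)
    (by push_cast; have : ((x * (c' + 1) * ((c' + 1) * ((n' + 1) * y)) : ℕ) : ℤ) = (tC * (c' + 1) + tD * (d' + 1) : ℕ) := by rw [hE2]
        push_cast at this; linear_combination this)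
  exact_mod_cast this

lemma arith_Qz {X N C D₁ D₂ Y TC T₁ T₂ : ℤ} (hx : X = 1 + N * Y) (hy : 1 ≤ Y) (hn : N ≤ (C + 1) ^ 2) (hn4 : 4 ≤ N)
    (hc : 3 ≤ C)
    (hC : 2 * TC = X * N * (C - 1)) (h1 : T₁ * (4 * D₁) = X * N * C * (D₁ - 1)) (h2 : T₂ * (4 * D₂) = X * N * C * (D₂ - 1))
    (hE1 : X * N * C = 1 + X * (N - 1) + TC + T₁ + T₂)
    (hE2 : X * C * (C * (N * Y)) = TC * C + T₁ * D₁ + T₂ * D₂) (hdd : D₁ * D₂ ≤ X) : Y = 1 := by
  have hXpos : 0 < X := by rw [hx]; positivity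
  have hNpos : 0 < N := by linarith
  have hCpos : 0 < C := by linarith
  have ha : 2 * (T₁ + T₂) = X * N * (C - 1) + 2 * X - 2 := by linear_combination (-2) * hE1 - hC
  have hc2 : X * N * C * (4 * C * Y - 2 * C - D₁ - D₂ + 4) = 0 := by
    have h3 : 4 * (TC * C) = 2 * (X * N * (C - 1)) * C := by linear_combination 2 * C * hC
    linear_combination 4 * hE2 + h3 + h1 + h2
  have hc2' : 4 * C * Y - 2 * C - D₁ - D₂ + 4 = 0 := by
    rcases mul_eq_zero.mp hc2 with h | h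
    · exact absurd h (by positivity)
    · exact h
  have hQ1 : X * N * C * (D₁ + D₂) = D₁ * D₂ * (2 * X * N - 4 * X + 4) := by
    have h3 : 4 * (T₁ + T₂) * (D₁ * D₂) = X * N * C * (2 * (D₁ * D₂) - D₁ - D₂) := by
      linear_combination D₂ * h1 + D₁ * h2
    have h4 : 4 * (T₁ + T₂) = 2 * (X * N * (C - 1) + 2 * X - 2) := by linear_combination 2 * ha
    rw [h4] at h3
    linear_combination h3
  have hpos : 0 < 2 * X * N - 4 * X + 4 := by nlinarith
  have hPle : D₁ * D₂ * (2 * X * N - 4 * X + 4) ≤ X * (2 * X * N - 4 * X + 4) :=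
    mul_le_mul_of_nonneg_right hdd hpos.le
  have hle1 : N * C * (D₁ + D₂) ≤ 2 * X * N - 4 * X + 4 := by
    have : X * (N * C * (D₁ + D₂)) ≤ X * (2 * X * N - 4 * X + 4) := by
      calc X * (N * C * (D₁ + D₂)) = X * N * C * (D₁ + D₂) := by ring
        _ = _ := hQ1
        _ ≤ _ := hPle
    exact le_of_mul_le_mul_left this hXpos
  have hle2 : N * (C * (D₁ + D₂)) ≤ N * (2 * (1 + N * Y - 2 * Y)) := by
    have : 2 * X * N - 4 * X + 4 = N * (2 * (1 + N * Y - 2 * Y)) := by rw [hx]; ring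
    rw [← this]
    linarith
  have hle3 : C * (D₁ + D₂) ≤ 2 * (1 + N * Y - 2 * Y) := le_of_mul_le_mul_left hle2 hNpos
  have hsum : D₁ + D₂ = 4 * C * Y - 2 * C + 4 := by linarith
  rw [hsum] at hle3
  have hNY : N * Y ≤ (C + 1) ^ 2 * Y := mul_le_mul_of_nonneg_right hn (by linarith)
  have hcc : 0 < (C - 1) ^ 2 := by
    have : 0 < C - 1 := by linarith
    positivity
  have hfin : Y * (C - 1) ^ 2 ≤ 1 * (C - 1) ^ 2 := by nlinarith
  have : Y ≤ 1 := le_of_mul_le_mul_right hfin hcc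
  omega

lemma arith_Q {x n c d₁ d₂ y tC t₁ t₂ : ℕ} (hx : x = 1 + n * y) (hy : 1 ≤ y) (hn : n ≤ (c + 1) ^ 2) (hn4 : 4 ≤ n)
    (hc : 3 ≤ c) (hd₁ : 3 ≤ d₁) (hd₂ : 3 ≤ d₂)
    (hC : 2 * tC = x * n * (c - 1)) (h1 : t₁ * (4 * d₁) = x * n * c * (d₁ - 1)) (h2 : t₂ * (4 * d₂) = x * n * c * (d₂ - 1))
    (hE1 : x * n * c = 1 + x * (n - 1) + tC + t₁ + t₂)
    (hE2 : x * c * (x * c - c) = tC * c + t₁ * d₁ + t₂ * d₂) (hdd : d₁ * d₂ ≤ x) : y = 1 := by
  have hxc : x * c - c = c * (n * y) := by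
    rw [hx]
    have : (1 + n * y) * c = c + c * (n * y) := by ring
    rw [this]; omega
  rw [hxc] at hE2
  obtain ⟨c', rfl⟩ : ∃ c', c = c' + 1 := ⟨c - 1, by omega⟩
  obtain ⟨e₁, rfl⟩ : ∃ e₁, d₁ = e₁ + 1 := ⟨d₁ - 1, by omega⟩
  obtain ⟨e₂, rfl⟩ : ∃ e₂, d₂ = e₂ + 1 := ⟨d₂ - 1, by omega⟩
  obtain ⟨n', rfl⟩ : ∃ n', n = n' + 1 := ⟨n - 1, by omega⟩
  simp only [Nat.add_sub_cancel] at hC h1 h2 hE1
  have := @arith_Qz (x : ℤ) (n' + 1 : ℕ) (c' + 1 : ℕ) (e₁ + 1 : ℕ) (e₂ + 1 : ℕ) y tC t₁ t₂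
    (by exact_mod_cast hx) (by exact_mod_cast hy) (by exact_mod_cast hn) (by exact_mod_cast hn4) (by exact_mod_cast hc)
    (by push_cast; have : ((2 * tC : ℕ) : ℤ) = (x * (n' + 1) * c' : ℕ) := by rw [hC]
        push_cast at this; linear_combination this)
    (by push_cast; have : ((t₁ * (4 * (e₁ + 1)) : ℕ) : ℤ) = (x * (n' + 1) * (c' + 1) * e₁ : ℕ) := by rw [h1]
        push_cast at this; linear_combination this)
    (by push_cast; have : ((t₂ * (4 * (e₂ + 1)) : ℕ) : ℤ) = (x * (n' + 1) * (c' + 1) * e₂ : ℕ) := by rw [h2]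
        push_cast at this; linear_combination this)
    (by push_cast; have : ((x * (n' + 1) * (c' + 1) : ℕ) : ℤ) = (1 + x * n' + tC + t₁ + t₂ : ℕ) := by rw [hE1]
        push_cast at this; linear_combination this)
    (by push_cast; have : ((x * (c' + 1) * ((c' + 1) * ((n' + 1) * y)) : ℕ) : ℤ) = (tC * (c' + 1) + t₁ * (e₁ + 1) + t₂ * (e₂ + 1) : ℕ) := by rw [hE2]
        push_cast at this; linear_combination this)
    (by exact_mod_cast hdd)
  exact_mod_cast this


lemma num_k1 {x n c t S g : ℕ} (hg : g = x * (n * c)) (hn4 : 4 ≤ n) (hc3 : 3 ≤ c)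
    (ht : t * (1 * c) = g * (c - 1)) (hsplit : g = 1 + x * (n - 1) + (t + S)) : S + 1 = x := by
  obtain ⟨c', rfl⟩ : ∃ c', c = c' + 1 := ⟨c - 1, by omega⟩
  obtain ⟨n', rfl⟩ : ∃ n', n = n' + 1 := ⟨n - 1, by omega⟩
  simp only [Nat.add_sub_cancel] at ht hsplit
  subst hg
  have h1 : t = x * (n' + 1) * c' := by
    apply Nat.eq_of_mul_eq_mul_right (show 0 < c' + 1 by omega)
    rw [one_mul] at ht
    rw [ht]
    ring
  subst h1
  nlinarith

lemma num_S {x n c t S g : ℕ} (hg : g = x * (n * c)) (hn4 : 4 ≤ n) (hc3 : 3 ≤ c) (hx : 1 ≤ x)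
    (ht : 2 * t = x * n * (c - 1)) (hsplit : g = 1 + x * (n - 1) + (t + S)) : 2 * S < g ∧ g ≤ 3 * S := by
  obtain ⟨c', rfl⟩ : ∃ c', c = c' + 1 := ⟨c - 1, by omega⟩
  obtain ⟨n', rfl⟩ : ∃ n', n = n' + 1 := ⟨n - 1, by omega⟩
  obtain ⟨x', rfl⟩ : ∃ x', x = x' + 1 := ⟨x - 1, by omega⟩
  simp only [Nat.add_sub_cancel] at ht hsplit
  subst hg
  have hc2' : 2 ≤ c' := by omega
  have hn3' : 3 ≤ n' := by omega
  have e1 : 2 * S + 2 = (x' + 1) * (n' + 1) * c' + 2 * (x' + 1) := by nlinarith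
  have h1 : (x' + 1) * (n' + 1) * 2 ≤ (x' + 1) * (n' + 1) * c' := Nat.mul_le_mul_left _ hc2'
  have h2 : (x' + 1) * 3 ≤ (x' + 1) * n' := Nat.mul_le_mul_left _ hn3'
  constructor
  · nlinarith
  · nlinarith

lemma num_k2 {d g t : ℕ} (hd : 3 ≤ d) (ht : t * (2 * d) = g * (d - 1)) : g ≤ 3 * t := by
  obtain ⟨d', rfl⟩ : ∃ d', d = d' + 1 := ⟨d - 1, by omega⟩
  simp only [Nat.add_sub_cancel] at ht
  have h3 : g * (2 * (d' + 1)) ≤ (3 * t) * (2 * (d' + 1)) := by nlinarith
  exact Nat.le_of_mul_le_mul_right h3 (by omega)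

lemma num_k1' {d g t : ℕ} (hd : 3 ≤ d) (ht : t * (1 * d) = g * (d - 1)) : 2 * g ≤ 3 * t := by
  obtain ⟨d', rfl⟩ : ∃ d', d = d' + 1 := ⟨d - 1, by omega⟩
  simp only [Nat.add_sub_cancel, one_mul] at ht
  have h3 : (2 * g) * (d' + 1) ≤ (3 * t) * (d' + 1) := by nlinarith
  exact Nat.le_of_mul_le_mul_right h3 (by omega)

lemma num_k4 {d g t k : ℕ} (hd : 3 ≤ d) (hk : k ≤ 4) (ht : t * (k * d) = g * (d - 1)) : g ≤ 6 * t := by
  obtain ⟨d', rfl⟩ : ∃ d', d = d' + 1 := ⟨d - 1, by omega⟩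
  simp only [Nat.add_sub_cancel] at ht
  have h1 : t * (k * (d' + 1)) ≤ t * (4 * (d' + 1)) := Nat.mul_le_mul_left _ (Nat.mul_le_mul_right _ hk)
  rw [ht] at h1
  have h3 : g * (4 * (d' + 1)) ≤ (6 * t) * (4 * (d' + 1)) := by nlinarith
  exact Nat.le_of_mul_le_mul_right h3 (by omega)

lemma num_k4' {d g t : ℕ} (hd : 3 ≤ d) (hg : 0 < g) (ht : t * (4 * d) = g * (d - 1)) : 4 * t < g := by
  obtain ⟨d', rfl⟩ : ∃ d', d = d' + 1 := ⟨d - 1, by omega⟩
  simp only [Nat.add_sub_cancel] at ht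
  have : 4 * t * (d' + 1) < g * (d' + 1) := by nlinarith
  exact Nat.lt_of_mul_lt_mul_right this

section abs
variable {X : Type*} [Group X]

omit [Group X] in
lemma cc_conjX {X : Type*} [Group X] (k z : X) (c : X) : c ∈ CC (k * z * k⁻¹) ↔ k⁻¹ * c * k ∈ CC z := by
  rw [mem_CC, mem_CC]
  constructor
  · intro h
    calc k⁻¹ * c * k * z = k⁻¹ * (c * (k * z * k⁻¹)) * k := by group
      _ = k⁻¹ * ((k * z * k⁻¹) * c) * k := by rw [h]
      _ = _ := by group
  · intro h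
    calc c * (k * z * k⁻¹) = k * ((k⁻¹ * c * k) * z) * k⁻¹ := by group
      _ = k * (z * (k⁻¹ * c * k)) * k⁻¹ := by rw [h]
      _ = _ := by group

/-- The hypotheses on the centralisers of the non-`2`-elements. -/
structure CCHyp (X : Type*) [Group X] : Prop where
  odd : ∀ z : X, z ^ 4 ≠ 1 → ∀ c ∈ CC z, Odd (orderOf c)
  comm : ∀ z : X, z ^ 4 ≠ 1 → ∀ a ∈ CC z, ∀ b ∈ CC z, a * b = b * a
  ti : ∀ z : X, z ^ 4 ≠ 1 → ∀ w ∈ CC z, w ≠ 1 → CC w = CC z
  n4 : ∀ z : X, z ^ 4 ≠ 1 → Nat.card (Subgroup.normalizer ((CC z : Subgroup X) : Set X)) ∣ 4 * Nat.card (CC z)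

lemma pow4_ne_of_odd {c : X} (h : Odd (orderOf c)) (hc : c ≠ 1) : c ^ 4 ≠ 1 := by
  intro he
  have h1 : orderOf c ∣ 4 := orderOf_dvd_of_pow_eq_one he
  have h2 : Nat.Coprime (orderOf c) (2 ^ 2) := Nat.Coprime.pow_right 2 (Nat.coprime_two_right.mpr h)
  have h3 : orderOf c = 1 := Nat.Coprime.eq_one_of_dvd h2 h1
  exact hc (orderOf_eq_one_iff.mp h3)

variable [Finite X] (hX : CCHyp X)

include hX in
lemma cc_pow4 {z c : X} (hz : z ^ 4 ≠ 1) (hc : c ∈ CC z) (hc1 : c ≠ 1) : c ^ 4 ≠ 1 :=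
  pow4_ne_of_odd (hX.odd z hz c hc) hc1

include hX in
/-- conjugating a centraliser -/
lemma cc_conj_eq {z w k : X} (hz : z ^ 4 ≠ 1) (hw : w ∈ CC z) (hw1 : w ≠ 1) : CC (k * w * k⁻¹) = (CC z).map (MulAut.conj k).toMonoidHom := by
  ext c
  rw [cc_conjX, hX.ti z hz w hw hw1, Subgroup.mem_map]
  constructor
  · intro h
    exact ⟨_, h, by simp [MulAut.conj_apply]; group⟩
  · rintro ⟨y, hy, rfl⟩
    have : k⁻¹ * ((MulAut.conj k).toMonoidHom y) * k = y := by
      simp [MulAut.conj_apply]; group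
    rw [this]; exact hy

include hX in
lemma cc_ti_conj {z a k : X} (hz : z ^ 4 ≠ 1) (ha : a ∈ CC z) (ha1 : a ≠ 1) (hk : k * a * k⁻¹ ∈ CC z) :
    k ∈ Subgroup.normalizer ((CC z : Subgroup X) : Set X) := by
  have h1 : k * a * k⁻¹ ≠ 1 := by
    intro he
    apply ha1
    have : a = k⁻¹ * (k * a * k⁻¹) * k := by group
    rw [this, he]
    group
  have h2 := hX.ti z hz _ hk h1
  have h3 := cc_conj_eq hX (k := k) hz ha ha1
  rw [h2] at h3
  rw [Subgroup.mem_normalizer_iff]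
  intro y
  constructor
  · intro hy
    rw [h3]
    exact ⟨y, hy, rfl⟩
  · intro hy
    rw [h3] at hy
    obtain ⟨y', hy', hye⟩ := hy
    have : y' = y := by
      have h4 : k * y' * k⁻¹ = k * y * k⁻¹ := hye
      exact mul_left_cancel (mul_right_cancel h4)
    rwa [← this]

include hX in
lemma card_conj_cc {z w k : X} (hz : z ^ 4 ≠ 1) (hw : w ∈ CC z) (hw1 : w ≠ 1) :
    Nat.card (CC (k * w * k⁻¹)) = Nat.card (CC z) := by
  rw [cc_conj_eq hX hz hw hw1]
  exact Subgroup.card_map_of_injective (MulAut.conj k).injective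

include hX in
lemma tt_count_cc {z : X} (hz : z ^ 4 ≠ 1) :
    (TT (CC z)).ncard * Nat.card (Subgroup.normalizer ((CC z : Subgroup X) : Set X)) =
      Nat.card X * (Nat.card (CC z) - 1) := by
  rw [← Nat.card_coe_set_eq]
  exact ti_count _ (fun a ha ha1 x hx => cc_ti_conj hX hz ha ha1 hx)

omit [Finite X] in
lemma self_mem_TT {A : Subgroup X} {a : X} (ha : a ∈ A) (ha1 : a ≠ 1) : a ∈ TT A := ⟨1, a, ha, ha1, by group⟩

include hX in
lemma tt_pow4 {z y : X} (hz : z ^ 4 ≠ 1) (hy : y ∈ TT (CC z)) : y ^ 4 ≠ 1 := by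
  obtain ⟨k, a, ha, ha1, rfl⟩ := hy
  intro he
  apply cc_pow4 hX hz ha ha1
  rw [conj_pow] at he
  have : a ^ 4 = k⁻¹ * (k * a ^ 4 * k⁻¹) * k := by group
  rw [this, he]
  group

include hX in
lemma tt_cc_eq {z y : X} (hz : z ^ 4 ≠ 1) (hy : y ∈ TT (CC z)) : Nat.card (CC y) = Nat.card (CC z) := by
  obtain ⟨k, a, ha, ha1, rfl⟩ := hy
  exact card_conj_cc hX hz ha ha1

include hX in
/-- Two of the classes which meet are equal. -/
lemma tt_disj {z w y : X} (hz : z ^ 4 ≠ 1) (hw : w ^ 4 ≠ 1) (hyz : y ∈ TT (CC z)) (hyw : y ∈ TT (CC w)) :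
    w ∈ TT (CC z) := by
  obtain ⟨k, a, ha, ha1, e1⟩ := hyz
  obtain ⟨k', b, hb, hb1, e2⟩ := hyw
  have h1 := cc_conj_eq hX (k := k) hz ha ha1
  have h2 := cc_conj_eq hX (k := k') hw hb hb1
  rw [← e1] at h1
  rw [← e2] at h2
  have h3 : k' * w * k'⁻¹ ∈ CC y := by
    rw [h2]
    exact ⟨w, self_mem_CC w, rfl⟩
  rw [h1] at h3
  obtain ⟨c, hc, hce⟩ := h3
  have hce' : k * c * k⁻¹ = k' * w * k'⁻¹ := hce
  have hw1 : w ≠ 1 := by
    rintro rfl
    simp at hw
  refine ⟨k'⁻¹ * k, c, hc, ?_, ?_⟩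
  · rintro rfl
    apply hw1
    have : w = k'⁻¹ * (k' * w * k'⁻¹) * k' := by group
    rw [this, ← hce']
    group
  · have : k'⁻¹ * k * c * (k'⁻¹ * k)⁻¹ = k'⁻¹ * (k * c * k⁻¹) * k' := by group
    rw [this, hce']
    group

include hX in
/-- An involution normalising a centraliser inverts it. -/
lemma inv_inverts {z v a : X} (hz : z ^ 4 ≠ 1) (hv : v ∈ Subgroup.normalizer ((CC z : Subgroup X) : Set X))
    (hv2 : v * v = 1) (hv1 : v ≠ 1) (ha : a ∈ CC z) : v * a * v⁻¹ = a⁻¹ := by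
  have hvi : v⁻¹ = v := inv_eq_of_mul_eq_one_left hv2
  have hb : v * a * v⁻¹ ∈ CC z := (Subgroup.mem_normalizer_iff.mp hv a).mp ha
  set w := a * (v * a * v⁻¹) with hw
  have hwm : w ∈ CC z := mul_mem ha hb
  have hcomm : v * w = w * v := by
    have e1 : v * (v * a * v⁻¹) * v⁻¹ = a := by
      rw [hvi]
      calc v * (v * a * v) * v = (v * v) * a * (v * v) := by group
        _ = a := by rw [hv2]; group
    have e2 : v * w * v⁻¹ = w := by
      calc v * w * v⁻¹ = (v * a * v⁻¹) * (v * (v * a * v⁻¹) * v⁻¹) := by rw [hw]; group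
        _ = (v * a * v⁻¹) * a := by rw [e1]
        _ = w := (hX.comm z hz _ hb _ ha)
    calc v * w = v * w * v⁻¹ * v := by group
      _ = w * v := by rw [e2]
  by_cases hw1 : w = 1
  · exact eq_inv_of_mul_eq_one_right hw1
  · exfalso
    have hw4 := cc_pow4 hX hz hwm hw1
    have hodd := hX.odd w hw4 v (mem_CC.mpr hcomm)
    have ho2 : orderOf v = 2 := orderOf_eq_prime (by rw [pow_two, hv2]) hv1
    rw [ho2] at hodd
    exact absurd hodd (by decide)

include hX in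
/-- The involutions inverting a given non-`2`-element, as a coset. -/
lemma card_inverting {I : Set X} (hI : ∀ y, y ∈ I ↔ y * y = 1 ∧ y ≠ 1) {z v₀ : X} (hz : z ^ 4 ≠ 1)
    (hv : v₀ ∈ Subgroup.normalizer ((CC z : Subgroup X) : Set X)) (hv2 : v₀ * v₀ = 1) (hv1 : v₀ ≠ 1) :
    {v | v ∈ I ∧ v * z * v⁻¹ = z⁻¹}.ncard = Nat.card (CC z) := by
  have hvi : v₀⁻¹ = v₀ := inv_eq_of_mul_eq_one_left hv2
  have hinv : ∀ a ∈ CC z, v₀ * a * v₀⁻¹ = a⁻¹ := fun a ha => inv_inverts hX hz hv hv2 hv1 ha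
  have e : {v | v ∈ I ∧ v * z * v⁻¹ = z⁻¹} = (fun a : CC z => (a : X) * v₀) '' Set.univ := by
    ext v
    simp only [Set.mem_setOf_eq, Set.image_univ, Set.mem_range, Subtype.exists]
    constructor
    · rintro ⟨hvI, hvz⟩
      have hv2' : v * v = 1 := ((hI v).mp hvI).1
      have hvi' : v⁻¹ = v := inv_eq_of_mul_eq_one_left hv2'
      refine ⟨v * v₀⁻¹, ?_, by group⟩
      rw [mem_CC]
      have h1 : v₀ * z * v₀⁻¹ = z⁻¹ := hinv z (self_mem_CC z)
      have h2 : v₀⁻¹ * z * v₀ = z⁻¹ := by rw [hvi]; rw [hvi] at h1; exact h1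
      have h3 : v * z⁻¹ * v⁻¹ = z := by
        have : v * z⁻¹ * v⁻¹ = (v * z * v⁻¹)⁻¹ := by group
        rw [this, hvz, inv_inv]
      calc v * v₀⁻¹ * z = v * (v₀⁻¹ * z * v₀) * v₀⁻¹ := by group
        _ = v * z⁻¹ * v₀⁻¹ := by rw [h2]
        _ = (v * z⁻¹ * v⁻¹) * v * v₀⁻¹ := by group
        _ = z * (v * v₀⁻¹) := by rw [h3]; group
    · rintro ⟨a, ha, rfl⟩
      have ha' := hinv a ha
      constructor
      · rw [hI]
        constructor
        · calc a * v₀ * (a * v₀) = a * (v₀ * a * v₀⁻¹) * (v₀ * v₀) := by group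
            _ = 1 := by rw [ha', hv2]; group
        · intro he
          have : v₀ = a⁻¹ := eq_inv_of_mul_eq_one_right he
          have hm : v₀ ∈ CC z := by rw [this]; exact inv_mem ha
          have hodd := hX.odd z hz v₀ hm
          have ho2 : orderOf v₀ = 2 := orderOf_eq_prime (by rw [pow_two, hv2]) hv1
          rw [ho2] at hodd
          exact absurd hodd (by decide)
      · have h1 : v₀ * z * v₀⁻¹ = z⁻¹ := hinv z (self_mem_CC z)
        have h2 : a * z⁻¹ * a⁻¹ = z⁻¹ := by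
          have : a * z = z * a := mem_CC.mp ha
          have h3 : a * z⁻¹ = z⁻¹ * a := by
            rw [mul_inv_eq_iff_eq_mul, mul_assoc, this, ← mul_assoc, inv_mul_cancel, one_mul]
          rw [h3]; group
        calc a * v₀ * z * (a * v₀)⁻¹ = a * (v₀ * z * v₀⁻¹) * a⁻¹ := by group
          _ = z⁻¹ := by rw [h1, h2]
  rw [e, Set.ncard_image_of_injective, Set.ncard_univ]
  intro a b hab
  exact Subtype.ext (mul_right_cancel hab)

/-- The Sylow data. -/
structure SylData (T Z H : Subgroup X) : Prop where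
  zt : Z ≤ T
  t4 : ∀ y ∈ T, y ^ 4 = 1
  z2 : ∀ y ∈ Z, y * y = 1
  tall : ∀ y : X, y ^ 4 = 1 → y ≠ 1 → y ∈ TT T
  zall : ∀ y : X, y * y = 1 → y ≠ 1 → y ∈ TT Z
  nT : Subgroup.normalizer ((T : Subgroup X) : Set X) = H
  nZ : Subgroup.normalizer ((Z : Subgroup X) : Set X) = H
  ti : ∀ a ∈ T, a ≠ 1 → ∀ k, k * a * k⁻¹ ∈ T → k ∈ H
  hinv : ∀ h ∈ H, h * h = 1 → h ∈ Z

section pair
variable {T Z H : Subgroup X} (hD : SylData T Z H)

omit hX in
include hD in
lemma mem_I_iff (y : X) : y ∈ TT Z ↔ y * y = 1 ∧ y ≠ 1 := by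
  constructor
  · rintro ⟨k, a, ha, ha1, rfl⟩
    constructor
    · calc k * a * k⁻¹ * (k * a * k⁻¹) = k * (a * a) * k⁻¹ := by group
        _ = 1 := by rw [hD.z2 a ha]; group
    · intro he
      apply ha1
      have : a = k⁻¹ * (k * a * k⁻¹) * k := by group
      rw [this, he]
      group
  · rintro ⟨h1, h2⟩
    exact hD.zall y h1 h2

omit hX in
include hD in
/-- the `2`-point: two involutions with a `2`-element product lie in a common conjugate of `Z`. -/
lemma same_point {v v' : X} (hv : v * v = 1) (hv' : v' * v' = 1) (hy1 : v * v' ≠ 1) (hy4 : (v * v') ^ 4 = 1) :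
    ∃ m : X, m⁻¹ * v * m ∈ Z ∧ m⁻¹ * v' * m ∈ Z := by
  obtain ⟨m, t, ht, ht1, hyt⟩ := hD.tall _ hy4 hy1
  have hvi : v⁻¹ = v := inv_eq_of_mul_eq_one_left hv
  have hvi' : v'⁻¹ = v' := inv_eq_of_mul_eq_one_left hv'
  have key : ∀ u : X, u * u = 1 → u * (v * v') * u⁻¹ = (v * v')⁻¹ → m⁻¹ * u * m ∈ Z := by
    intro u hu hinv
    apply hD.hinv
    · apply hD.ti t ht ht1
      have : m⁻¹ * u * m * t * (m⁻¹ * u * m)⁻¹ = m⁻¹ * (u * (m * t * m⁻¹) * u⁻¹) * m := by group
      rw [this, ← hyt, hinv, hyt]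
      have : m⁻¹ * (m * t * m⁻¹)⁻¹ * m = t⁻¹ := by group
      rw [this]
      exact inv_mem ht
    · calc m⁻¹ * u * m * (m⁻¹ * u * m) = m⁻¹ * (u * u) * m := by group
        _ = 1 := by rw [hu]; group
  refine ⟨m, key v hv ?_, key v' hv' ?_⟩
  · calc v * (v * v') * v⁻¹ = (v * v) * v' * v⁻¹ := by group
      _ = v' * v := by rw [hv, hvi]; group
      _ = (v * v')⁻¹ := by rw [mul_inv_rev, hvi, hvi']
  · calc v' * (v * v') * v'⁻¹ = v' * v * (v' * v'⁻¹) := by group
      _ = v' * v := by simp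
      _ = (v * v')⁻¹ := by rw [mul_inv_rev, hvi, hvi']

omit hX in
include hD in
lemma conj_Z_mem {k : X} (hk : k ∈ H) {a : X} (ha : a ∈ Z) : k * a * k⁻¹ ∈ Z := by
  have : k ∈ Subgroup.normalizer ((Z : Subgroup X) : Set X) := by rw [hD.nZ]; exact hk
  exact (Subgroup.mem_normalizer_iff.mp this a).mp ha

include hD in
/-- For an involution `v`, the involutions `v'` with `(v v')⁴ = 1` number `|Z| - 1`. -/
lemma card_same {v : X} (hv : v ∈ TT Z) :
    {v' | v' ∈ TT Z ∧ (v * v') ^ 4 = 1}.ncard = Nat.card Z - 1 := by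
  classical
  haveI := Fintype.ofFinite X
  obtain ⟨k, z₁, hz₁, hz₁1, rfl⟩ := hv
  set v := k * z₁ * k⁻¹ with hvd
  have hv2 : v * v = 1 := ((mem_I_iff hD v).mp ⟨k, z₁, hz₁, hz₁1, rfl⟩).1
  have hvi : v⁻¹ = v := inv_eq_of_mul_eq_one_left hv2
  have e : {v' | v' ∈ TT Z ∧ (v * v') ^ 4 = 1} = (fun a : {a : Z // a ≠ 1} => k * (a.1 : X) * k⁻¹) '' Set.univ := by
    ext v'
    simp only [Set.mem_setOf_eq, Set.image_univ, Set.mem_range]
    constructor
    · rintro ⟨hv'I, h4⟩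
      obtain ⟨hv'2, hv'1⟩ := (mem_I_iff hD v').mp hv'I
      by_cases hy1 : v * v' = 1
      · have : v' = v⁻¹ := eq_inv_of_mul_eq_one_right hy1
        rw [this, hvi]
        exact ⟨⟨⟨z₁, hz₁⟩, fun h => hz₁1 (congrArg Subtype.val h)⟩, rfl⟩
      · obtain ⟨m, h1, h2⟩ := same_point hD hv2 hv'2 hy1 h4
        have hkm : k⁻¹ * m ∈ H := by
          apply hD.ti (m⁻¹ * v * m) (hD.zt h1)
          · intro he
            have hz : z₁ = 1 := by
              have : z₁ = k⁻¹ * m * (m⁻¹ * v * m) * (k⁻¹ * m)⁻¹ := by rw [hvd]; group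
              rw [this, he]; group
            exact hz₁1 hz
          · have : k⁻¹ * m * (m⁻¹ * v * m) * (k⁻¹ * m)⁻¹ = z₁ := by rw [hvd]; group
            rw [this]
            exact hD.zt hz₁
        have h3 := conj_Z_mem hD hkm h2
        have h4' : k⁻¹ * m * (m⁻¹ * v' * m) * (k⁻¹ * m)⁻¹ = k⁻¹ * v' * k := by group
        rw [h4'] at h3
        refine ⟨⟨⟨_, h3⟩, fun h => hv'1 ?_⟩, by simp only; group⟩
        have h5 : k⁻¹ * v' * k = 1 := congrArg Subtype.val h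
        have : v' = k * (k⁻¹ * v' * k) * k⁻¹ := by group
        rw [this, h5]; group
    · rintro ⟨⟨⟨a, ha⟩, ha1⟩, rfl⟩
      have ha1' : a ≠ 1 := fun h => ha1 (Subtype.ext h)
      refine ⟨⟨k, a, ha, ha1', rfl⟩, ?_⟩
      have hm : z₁ * a ∈ Z := mul_mem hz₁ ha
      have h2 := hD.z2 _ hm
      have e1 : v * (k * a * k⁻¹) = k * (z₁ * a) * k⁻¹ := by rw [hvd]; group
      simp only
      rw [e1, conj_pow]
      have : (z₁ * a) ^ 4 = 1 := by
        calc (z₁ * a) ^ 4 = ((z₁ * a) * (z₁ * a)) ^ 2 := by rw [← pow_two, ← pow_mul]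
          _ = 1 := by rw [h2, one_pow]
      rw [this]
      group
  rw [e, Set.ncard_image_of_injective, Set.ncard_univ]
  · rw [Nat.card_eq_fintype_card, Nat.card_eq_fintype_card, Fintype.card_subtype_compl]
    simp
  · intro a b hab
    have : (a.1 : X) = b.1 := mul_left_cancel (mul_right_cancel hab)
    exact Subtype.ext (Subtype.ext this)

include hD in
/-- The number of ordered pairs of involutions with non-`2`-element product. -/
lemma pair_sum (S₀ : Finset X) (hS₀ : ∀ z, z ∈ S₀ ↔ z ^ 4 ≠ 1) (I₀ : Finset X) (hI₀ : ∀ y, y ∈ I₀ ↔ y ∈ TT Z) :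
    ∑ z ∈ S₀, {v | v ∈ TT Z ∧ v * z * v⁻¹ = z⁻¹}.ncard =
      (TT Z).ncard * ((TT Z).ncard - (Nat.card Z - 1)) := by
  classical
  haveI := Fintype.ofFinite X
  have hcardI : (TT Z).ncard = I₀.card := by
    rw [Set.ncard_eq_toFinset_card' (TT Z)]
    congr 1
    ext y
    simp [hI₀]
  have hbi := Finset.sum_card_bipartiteAbove_eq_sum_card_bipartiteBelow (s := I₀) (t := S₀)
    (fun v z => v * z * v⁻¹ = z⁻¹)
  have hb : ∀ z ∈ S₀, {v | v ∈ TT Z ∧ v * z * v⁻¹ = z⁻¹}.ncard =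
      (Finset.bipartiteBelow (fun v z => v * z * v⁻¹ = z⁻¹) I₀ z).card := by
    intro z _
    rw [Set.ncard_eq_toFinset_card']
    congr 1
    ext v
    simp [Finset.mem_bipartiteBelow, hI₀]
  rw [Finset.sum_congr rfl hb, ← hbi]
  have ha : ∀ v ∈ I₀, (Finset.bipartiteAbove (fun v z => v * z * v⁻¹ = z⁻¹) S₀ v).card =
      (TT Z).ncard - (Nat.card Z - 1) := by
    intro v hv
    have hvI : v ∈ TT Z := (hI₀ v).mp hv
    obtain ⟨hv2, hv1⟩ := (mem_I_iff hD v).mp hvI
    have hvi : v⁻¹ = v := inv_eq_of_mul_eq_one_left hv2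
    -- compare with the involutions
    have e1 : (Finset.bipartiteAbove (fun v z => v * z * v⁻¹ = z⁻¹) S₀ v).card =
        (I₀.filter (fun v' => (v * v') ^ 4 ≠ 1)).card := by
      apply Finset.card_bij (fun z _ => v * z)
      · intro z hz
        rw [Finset.mem_bipartiteAbove] at hz
        obtain ⟨hz4, hzi⟩ := hz
        have hz4' := (hS₀ z).mp hz4
        rw [Finset.mem_filter]
        constructor
        · rw [hI₀, mem_I_iff hD]
          constructor
          · calc v * z * (v * z) = (v * z * v⁻¹) * (v * v) * z := by group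
              _ = 1 := by rw [hzi, hv2]; group
          · intro he
            apply hz4'
            have : z = v⁻¹ := eq_inv_of_mul_eq_one_right he
            rw [this, hvi]
            calc v ^ 4 = (v * v) * (v * v) := by simp only [pow_succ, pow_zero, one_mul, mul_assoc]
              _ = 1 := by rw [hv2]; group
        · rw [← mul_assoc, hv2, one_mul]
          exact hz4'
      · intro z _ z' _ he
        exact mul_left_cancel he
      · intro v' hv'
        rw [Finset.mem_filter] at hv'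
        obtain ⟨hv'I, h4⟩ := hv'
        obtain ⟨hv'2, -⟩ := (mem_I_iff hD v').mp ((hI₀ v').mp hv'I)
        have hvi' : v'⁻¹ = v' := inv_eq_of_mul_eq_one_left hv'2
        refine ⟨v * v', ?_, ?_⟩
        · rw [Finset.mem_bipartiteAbove]
          refine ⟨(hS₀ _).mpr h4, ?_⟩
          calc v * (v * v') * v⁻¹ = (v * v) * v' * v⁻¹ := by group
            _ = v' * v := by rw [hv2, hvi]; group
            _ = (v * v')⁻¹ := by rw [mul_inv_rev, hvi, hvi']
        · rw [← mul_assoc, hv2, one_mul]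
    have e2 : (I₀.filter (fun v' => (v * v') ^ 4 ≠ 1)).card + (I₀.filter (fun v' => (v * v') ^ 4 = 1)).card = I₀.card := by
      have := Finset.card_filter_add_card_filter_not (s := I₀) (fun v' => (v * v') ^ 4 = 1)
      simp only [ne_eq]
      omega
    have e3 : (I₀.filter (fun v' => (v * v') ^ 4 = 1)).card = Nat.card Z - 1 := by
      rw [← card_same hD hvI, Set.ncard_eq_toFinset_card']
      congr 1
      ext v'
      simp [hI₀]
    rw [e1]
    rw [← hcardI] at e2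
    omega
  rw [Finset.sum_congr rfl ha, Finset.sum_const, hcardI, smul_eq_mul]


include hX in
/-- Sylow argument: centralisers of non-conjugate classes have coprime orders. -/
lemma coprime_cc {z₁ z₂ : X} (h1 : z₁ ^ 4 ≠ 1) (h2 : z₂ ^ 4 ≠ 1) (hn : z₂ ∉ TT (CC z₁)) :
    Nat.Coprime (Nat.card (CC z₁)) (Nat.card (CC z₂)) := by
  classical
  by_contra hne
  obtain ⟨r, hr, hr1, hr2⟩ := Nat.Prime.not_coprime_iff_dvd.mp hne
  haveI : Fact r.Prime := ⟨hr⟩
  obtain ⟨y₁, hy₁⟩ := exists_prime_orderOf_dvd_card' r hr1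
  obtain ⟨y₂, hy₂⟩ := exists_prime_orderOf_dvd_card' r hr2
  have hy₁' : orderOf (y₁ : X) = r := by rw [Subgroup.orderOf_coe]; exact hy₁
  have hy₂' : orderOf (y₂ : X) = r := by rw [Subgroup.orderOf_coe]; exact hy₂
  have hne1 : (y₁ : X) ≠ 1 := by
    intro he
    rw [he, orderOf_one] at hy₁'
    exact hr.one_lt.ne hy₁'
  have hne2 : (y₂ : X) ≠ 1 := by
    intro he
    rw [he, orderOf_one] at hy₂'
    exact hr.one_lt.ne hy₂'
  have hpg : ∀ t : X, orderOf t = r → IsPGroup r (Subgroup.zpowers t) := by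
    intro t ht
    apply IsPGroup.of_card (n := 1)
    rw [Nat.card_zpowers, ht, pow_one]
  obtain ⟨P, hP⟩ := (hpg _ hy₁').exists_le_sylow
  obtain ⟨Q, hQ⟩ := (hpg _ hy₂').exists_le_sylow
  obtain ⟨x, hx⟩ := MulAction.exists_smul_eq X P Q
  have hyP : (y₁ : X) ∈ P := hP (Subgroup.mem_zpowers _)
  have hyQ : (y₂ : X) ∈ Q := hQ (Subgroup.mem_zpowers _)
  have hxy : x * (y₁ : X) * x⁻¹ ∈ Q := by
    rw [← hx]
    show _ ∈ ((x • P : Sylow r X) : Subgroup X)
    rw [Sylow.coe_subgroup_smul]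
    exact (Subgroup.mem_smul_pointwise_iff_exists _ _ _).mpr ⟨y₁, hyP, rfl⟩
  haveI : Nontrivial Q := ⟨⟨⟨_, hyQ⟩, 1, fun e => hne2 (congrArg Subtype.val e)⟩⟩
  haveI := Q.isPGroup'.center_nontrivial
  obtain ⟨t, ht1⟩ := exists_ne (1 : Subgroup.center Q)
  set t' : X := ((t : Q) : X) with ht'
  have ht'1 : t' ≠ 1 := fun e => ht1 (Subtype.ext (Subtype.ext e))
  have hcomm : ∀ a ∈ Q, t' * a = a * t' := by
    intro a ha
    have := (Subgroup.mem_center_iff.mp t.2 ⟨a, ha⟩).symm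
    exact congrArg Subtype.val this
  have e2 : CC t' = CC z₂ := by
    have : t' ∈ CC z₂ := by
      rw [← hX.ti z₂ h2 _ y₂.2 hne2, mem_CC]
      exact hcomm _ hyQ
    exact hX.ti z₂ h2 t' this ht'1
  have hw : x⁻¹ * t' * x ∈ CC z₁ := by
    rw [← hX.ti z₁ h1 _ y₁.2 hne1, ← cc_conjX, mem_CC]
    exact hcomm _ hxy
  have hw1 : x⁻¹ * t' * x ≠ 1 := by
    intro he
    apply ht'1
    have : t' = x * (x⁻¹ * t' * x) * x⁻¹ := by group
    rw [this, he]
    group
  have e1 := cc_conj_eq hX (k := x) h1 hw hw1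
  have e3 : x * (x⁻¹ * t' * x) * x⁻¹ = t' := by group
  rw [e3, e2] at e1
  have hmem : z₂ ∈ CC z₂ := self_mem_CC z₂
  rw [e1] at hmem
  obtain ⟨c, hc, hce⟩ := hmem
  apply hn
  refine ⟨x, c, hc, ?_, hce.symm⟩
  rintro rfl
  apply h2
  have : z₂ = 1 := by
    rw [← hce]
    simp
  rw [this, one_pow]

include hX hD in
lemma beta_of_even {z₁ z : X} (h1 : z₁ ^ 4 ≠ 1)
    (hev : 2 ∣ Nat.card (Subgroup.normalizer ((CC z₁ : Subgroup X) : Set X))) (hz : z ∈ TT (CC z₁)) :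
    {v | v ∈ TT Z ∧ v * z * v⁻¹ = z⁻¹}.ncard = Nat.card (CC z₁) := by
  haveI : Fact (Nat.Prime 2) := ⟨Nat.prime_two⟩
  obtain ⟨v, hv⟩ := exists_prime_orderOf_dvd_card' 2 hev
  have hvo : orderOf (v : X) = 2 := by rw [Subgroup.orderOf_coe]; exact hv
  have hv2 : (v : X) * v = 1 := by rw [← pow_two, ← hvo, pow_orderOf_eq_one]
  have hv1 : (v : X) ≠ 1 := by
    intro he
    rw [he, orderOf_one] at hvo
    omega
  have hz4 := tt_pow4 hX h1 hz
  obtain ⟨k, a, ha, ha1, rfl⟩ := hz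
  have hvn := v.2
  have hmem : (k * v * k⁻¹) * (k * a * k⁻¹) * (k * v * k⁻¹)⁻¹ ∈ CC (k * a * k⁻¹) := by
    rw [cc_conj_eq hX h1 ha ha1]
    refine ⟨(v : X) * a * (v : X)⁻¹, (Subgroup.mem_normalizer_iff.mp hvn a).mp ha, ?_⟩
    simp only [MulEquiv.coe_toMonoidHom, MulAut.conj_apply]
    group
  have hne : k * a * k⁻¹ ≠ 1 := by
    intro he
    apply ha1
    have : a = k⁻¹ * (k * a * k⁻¹) * k := by group
    rw [this, he]
    group
  have hN := cc_ti_conj hX hz4 (self_mem_CC _) hne hmem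
  rw [card_inverting hX (mem_I_iff hD) hz4 hN ?_ ?_, card_conj_cc hX h1 ha ha1]
  · calc k * v * k⁻¹ * (k * v * k⁻¹) = k * (v * v) * k⁻¹ := by group
      _ = 1 := by rw [hv2]; group
  · intro he
    apply hv1
    have : (v : X) = k⁻¹ * (k * v * k⁻¹) * k := by group
    rw [this, he]
    group

omit hX in
lemma card_filter_mem [Fintype X] [DecidableEq X] (A : Set X) [DecidablePred (· ∈ A)] :
    (Finset.univ.filter (· ∈ A)).card = A.ncard := by
  rw [Set.ncard_eq_toFinset_card']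
  congr 1
  ext y
  simp

include hX in
/-- the numerical data of a class. -/
lemma class_data {z : X} (hz : z ^ 4 ≠ 1) :
    3 ≤ Nat.card (CC z) ∧ ∃ k, (k = 1 ∨ k = 2 ∨ k = 4) ∧
      Nat.card (Subgroup.normalizer ((CC z : Subgroup X) : Set X)) = k * Nat.card (CC z) ∧
      (TT (CC z)).ncard * (k * Nat.card (CC z)) = Nat.card X * (Nat.card (CC z) - 1) := by
  have hz1 : z ≠ 1 := by
    rintro rfl
    simp at hz
  have h3 : 3 ≤ Nat.card (CC z) := by
    have hodd := hX.odd z hz z (self_mem_CC z)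
    have hne : orderOf z ≠ 1 := fun e => hz1 (orderOf_eq_one_iff.mp e)
    have hd : orderOf z ∣ Nat.card (CC z) := by
      rw [← Subgroup.orderOf_mk z (self_mem_CC z)]
      exact orderOf_dvd_natCard _
    have hle := Nat.le_of_dvd Nat.card_pos hd
    have hpos := orderOf_pos z
    obtain ⟨w, hw⟩ := hodd
    omega
  refine ⟨h3, ?_⟩
  obtain ⟨k, hk⟩ : Nat.card (CC z) ∣ Nat.card (Subgroup.normalizer ((CC z : Subgroup X) : Set X)) :=
    Subgroup.card_dvd_of_le Subgroup.le_normalizer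
  have h4 := hX.n4 z hz
  rw [hk, mul_comm 4, mul_dvd_mul_iff_left (by omega)] at h4
  have hle := Nat.le_of_dvd (by norm_num) h4
  refine ⟨k, ?_, by rw [hk, mul_comm], ?_⟩
  · interval_cases k <;> simp_all
  · rw [← tt_count_cc hX hz, hk, mul_comm k]

end pair

section main
variable {T Z H : Subgroup X} (hD : SylData T Z H)

include hX hD in
set_option maxHeartbeats 1000000 in
/-- the main count -/
theorem count_main {z₀ : X} (hz₀ : z₀ ^ 4 ≠ 1) (hZc : Nat.card Z = Nat.card (CC z₀) + 1)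
    (hH : Nat.card H = Nat.card T * Nat.card (CC z₀))
    (hC2 : Nat.card (Subgroup.normalizer ((CC z₀ : Subgroup X) : Set X)) ∣ 2 * Nat.card (CC z₀))
    (hfree : ∀ z : X, z ^ 4 ≠ 1 → z ∉ TT (CC z₀) → Nat.card (CC z) ∣ H.index)
    (hnx : Nat.card T ∣ H.index - 1) (hx2 : 2 ≤ H.index) (hnle : Nat.card T ≤ Nat.card Z ^ 2) :
    H.index = 1 + Nat.card T ∧ Nat.card (Subgroup.normalizer ((CC z₀ : Subgroup X) : Set X)) = 2 * Nat.card (CC z₀) := by
  classical
  haveI := Fintype.ofFinite X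
  obtain ⟨hc3, kC, hkC, hNC, htC⟩ := class_data hX hz₀
  set c := Nat.card (CC z₀) with hc
  set n := Nat.card T with hn
  set x := H.index with hx
  set g := Nat.card X with hg'
  have hg : g = x * (n * c) := by rw [← hH, hx, hg', Subgroup.index_mul_card]
  have hnpos : 0 < n := Nat.card_pos
  have hn4 : 4 ≤ n := by
    have := Nat.le_of_dvd hnpos (Subgroup.card_dvd_of_le hD.zt)
    omega
  have hxpos : 0 < x := by omega
  have hgpos : 0 < g := Nat.card_pos
  have hcard_T : (TT T).ncard = x * (n - 1) := by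
    have e := ti_count T (fun a ha ha1 k hk => by rw [hD.nT]; exact hD.ti a ha ha1 k hk)
    rw [hD.nT, Nat.card_coe_set_eq, hH] at e
    change (TT T).ncard * (n * c) = g * (n - 1) at e
    rw [hg] at e
    exact Nat.eq_of_mul_eq_mul_right (show 0 < n * c by positivity) (by rw [e]; ring)
  have hcard_Z : (TT Z).ncard = x * c := by
    have e := ti_count Z (fun a ha ha1 k hk => by rw [hD.nZ]; exact hD.ti a (hD.zt ha) ha1 k (hD.zt hk))
    rw [hD.nZ, Nat.card_coe_set_eq, hH, hZc, Nat.add_sub_cancel] at e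
    change (TT Z).ncard * (n * c) = g * c at e
    rw [hg] at e
    exact Nat.eq_of_mul_eq_mul_right (show 0 < n * c by positivity) (by rw [e]; ring)
  -- the partition
  set OT : Finset X := Finset.univ.filter (fun z => z ^ 4 ≠ 1) with hOT
  set FT : Finset X := Finset.univ.filter (· ∈ TT T) with hFT
  set FC : Finset X := Finset.univ.filter (· ∈ TT (CC z₀)) with hFC
  set S : Finset X := OT.filter (· ∉ TT (CC z₀)) with hS
  have hFTcard : FT.card = x * (n - 1) := by rw [hFT, card_filter_mem, hcard_T]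
  have hFCcard : FC.card = (TT (CC z₀)).ncard := by rw [hFC, card_filter_mem]
  have htt4 : ∀ y ∈ TT T, y ^ 4 = 1 := by
    rintro y ⟨k, a, ha, -, rfl⟩
    rw [conj_pow, hD.t4 a ha]
    group
  have htt1 : ∀ y ∈ TT T, y ≠ 1 := by
    rintro y ⟨k, a, -, ha1, rfl⟩ he
    apply ha1
    have : a = k⁻¹ * (k * a * k⁻¹) * k := by group
    rw [this, he]
    group
  have hsplit : g = 1 + x * (n - 1) + OT.card := by
    have e : (Finset.univ : Finset X) = ({1} ∪ FT) ∪ OT := by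
      ext y
      simp only [Finset.mem_univ, Finset.mem_union, Finset.mem_singleton, hFT, hOT, Finset.mem_filter, true_and, true_iff]
      by_cases h4 : y ^ 4 = 1
      · by_cases h1 : y = 1
        · exact Or.inl (Or.inl h1)
        · exact Or.inl (Or.inr (hD.tall y h4 h1))
      · exact Or.inr h4
    have d1 : Disjoint ({1} : Finset X) FT := by
      rw [Finset.disjoint_singleton_left, hFT, Finset.mem_filter]
      exact fun h => htt1 1 h.2 rfl
    have d2 : Disjoint ({1} ∪ FT) OT := by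
      rw [Finset.disjoint_left]
      intro y hy hy'
      rw [hOT, Finset.mem_filter] at hy'
      rw [Finset.mem_union, Finset.mem_singleton, hFT, Finset.mem_filter] at hy
      rcases hy with rfl | ⟨-, hy⟩
      · exact hy'.2 (one_pow 4)
      · exact hy'.2 (htt4 y hy)
    have := congrArg Finset.card e
    rw [Finset.card_union_of_disjoint d2, Finset.card_union_of_disjoint d1, Finset.card_singleton, hFTcard,
      Finset.card_univ, ← Nat.card_eq_fintype_card] at this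
    exact this
  have hFCsub : FC ⊆ OT := by
    intro y hy
    rw [hFC, Finset.mem_filter] at hy
    rw [hOT, Finset.mem_filter]
    exact ⟨Finset.mem_univ _, tt_pow4 hX hz₀ hy.2⟩
  have hOTsplit : OT = FC ∪ S := by
    ext y
    simp only [hS, hFC, Finset.mem_union, Finset.mem_filter, Finset.mem_univ, true_and]
    constructor
    · intro hy
      by_cases h : y ∈ TT (CC z₀)
      · exact Or.inl h
      · exact Or.inr ⟨hy, h⟩
    · rintro (h | h)
      · exact hFCsub (by rw [hFC, Finset.mem_filter]; exact ⟨Finset.mem_univ _, h⟩)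
      · exact h.1
  have hdFS : Disjoint FC S := by
    rw [Finset.disjoint_left]
    intro y hy hy'
    rw [hFC, Finset.mem_filter] at hy
    rw [hS, Finset.mem_filter] at hy'
    exact hy'.2 hy.2
  have hOTcard : OT.card = FC.card + S.card := by
    rw [hOTsplit, Finset.card_union_of_disjoint hdFS]
  have hmemS : ∀ z, z ∈ S ↔ z ^ 4 ≠ 1 ∧ z ∉ TT (CC z₀) := by
    intro z
    rw [hS, hOT, Finset.mem_filter, Finset.mem_filter]
    simp
  -- classes inside `S`
  have hclassS : ∀ z ∈ S, ∀ w ∈ TT (CC z), w ∈ S := by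
    intro z hz w hw
    rw [hmemS] at hz ⊢
    refine ⟨tt_pow4 hX hz.1 hw, fun hw' => hz.2 ?_⟩
    exact tt_disj hX hz₀ hz.1 hw' hw
  have hFz : ∀ z : X, (Finset.univ.filter (· ∈ TT (CC z))).card = (TT (CC z)).ncard := fun z => card_filter_mem _
  have hbound : ∀ z : X, z ^ 4 ≠ 1 → g ≤ 6 * (TT (CC z)).ncard := by
    intro z hz
    obtain ⟨hd3, k, hk, -, ht⟩ := class_data hX hz
    exact num_k4 hd3 (by omega) ht
  -- total
  have hsum0 := pair_sum hD OT (by intro z; rw [hOT, Finset.mem_filter]; simp) (Finset.univ.filter (· ∈ TT Z))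
    (by intro y; simp)
  rw [hcard_Z, hZc, Nat.add_sub_cancel] at hsum0
  have hsumC : ∀ z₁ : X, z₁ ^ 4 ≠ 1 → 2 ∣ Nat.card (Subgroup.normalizer ((CC z₁ : Subgroup X) : Set X)) →
      ∑ w ∈ Finset.univ.filter (· ∈ TT (CC z₁)), {v | v ∈ TT Z ∧ v * w * v⁻¹ = w⁻¹}.ncard =
        (TT (CC z₁)).ncard * Nat.card (CC z₁) := by
    intro z₁ h1 hev
    rw [Finset.sum_congr rfl (fun w hw => beta_of_even hX hD h1 hev (Finset.mem_filter.mp hw).2), Finset.sum_const,
      card_filter_mem, smul_eq_mul]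
  -- the cases of `k`
  obtain ⟨y, hy⟩ := hnx
  have hx1 : x = 1 + n * y := by omega
  have hy1 : 1 ≤ y := by
    by_contra hcon
    have : y = 0 := by omega
    subst this
    omega
  have hsplit' : g = 1 + x * (n - 1) + ((TT (CC z₀)).ncard + S.card) := by
    rw [hsplit, hOTcard, hFCcard]
  have hk2 : kC = 2 := by
    have hdv : kC ∣ 2 := by
      rw [hNC] at hC2
      exact Nat.dvd_of_mul_dvd_mul_right (show 0 < c by omega) hC2
    rcases hkC with rfl | rfl | rfl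
    · exfalso
      have hS1 : S.card + 1 = x := num_k1 hg hn4 hc3 htC hsplit'
      have hSne : S.Nonempty := by
        rw [← Finset.card_pos]
        omega
      obtain ⟨z, hz⟩ := hSne
      have h2 := hbound z ((hmemS z).mp hz).1
      have h3 : (TT (CC z)).ncard ≤ S.card := by
        rw [← hFz]
        apply Finset.card_le_card
        intro w hw
        exact hclassS z hz w (Finset.mem_filter.mp hw).2
      have h6 : 12 * x ≤ g := by
        rw [hg]
        have : 4 * 3 ≤ n * c := Nat.mul_le_mul hn4 hc3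
        nlinarith
      omega
    · rfl
    · exfalso
      omega
  subst hk2
  refine ⟨?_, hNC⟩
  -- the numerical facts
  have htC2 : 2 * (TT (CC z₀)).ncard = x * n * (c - 1) := by
    apply Nat.eq_of_mul_eq_mul_right (show 0 < c by omega)
    calc 2 * (TT (CC z₀)).ncard * c = (TT (CC z₀)).ncard * (2 * c) := by ring
      _ = g * (c - 1) := htC
      _ = _ := by rw [hg]; ring
  obtain ⟨hSlt, hSge⟩ := num_S hg hn4 hc3 hxpos htC2 hsplit'
  have hSne : S.Nonempty := by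
    rw [← Finset.card_pos]
    omega
  have hle_class : ∀ z ∈ S, (TT (CC z)).ncard ≤ S.card := by
    intro z hz
    rw [← hFz]
    apply Finset.card_le_card
    intro w hw
    exact hclassS z hz w (Finset.mem_filter.mp hw).2
  have hk_ne1 : ∀ z ∈ S, ∀ k, Nat.card (Subgroup.normalizer ((CC z : Subgroup X) : Set X)) = k * Nat.card (CC z) →
      (TT (CC z)).ncard * (k * Nat.card (CC z)) = g * (Nat.card (CC z) - 1) → k ≠ 1 := by
    rintro z hz k - ht rfl
    have hd3 := (class_data hX ((hmemS z).mp hz).1).1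
    have h1 := hle_class z hz
    have h3 := num_k1' hd3 ht
    omega
  have hdisjF : ∀ z w : X, z ^ 4 ≠ 1 → w ^ 4 ≠ 1 → w ∉ TT (CC z) →
      Disjoint (Finset.univ.filter (· ∈ TT (CC z))) (Finset.univ.filter (· ∈ TT (CC w))) := by
    intro z w hz hw hn
    rw [Finset.disjoint_left]
    intro y hy hy'
    exact hn (tt_disj hX hz hw (Finset.mem_filter.mp hy).2 (Finset.mem_filter.mp hy').2)
  have hsubS : ∀ z ∈ S, Finset.univ.filter (· ∈ TT (CC z)) ⊆ S := by
    intro z hz w hw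
    exact hclassS z hz w (Finset.mem_filter.mp hw).2
  have hselfT : ∀ z : X, z ^ 4 ≠ 1 → z ∈ TT (CC z) := by
    intro z hz
    refine self_mem_TT (self_mem_CC z) ?_
    rintro rfl
    simp at hz
  have hOTsum : ∑ w ∈ OT, {v | v ∈ TT Z ∧ v * w * v⁻¹ = w⁻¹}.ncard =
      (TT (CC z₀)).ncard * c + ∑ w ∈ S, {v | v ∈ TT Z ∧ v * w * v⁻¹ = w⁻¹}.ncard := by
    rw [hOTsplit, Finset.sum_union hdFS, hFC, hsumC z₀ hz₀ (by rw [hNC]; exact dvd_mul_right _ _)]
  obtain ⟨z₁, hz₁S⟩ := hSne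
  have hz₁ := ((hmemS z₁).mp hz₁S)
  -- general `xc` relation
  have hxc0 : x * c * (x * c - c) = (TT (CC z₀)).ncard * c + ∑ w ∈ S, {v | v ∈ TT Z ∧ v * w * v⁻¹ = w⁻¹}.ncard := by
    rw [← hOTsum, hsum0]
  have hP : ∀ z₁ ∈ S, Nat.card (Subgroup.normalizer ((CC z₁ : Subgroup X) : Set X)) = 2 * Nat.card (CC z₁) → x = 1 + n := by
    intro z₁ hz₁S hN₁
    have hz₁ := ((hmemS z₁).mp hz₁S)
    obtain ⟨hd₁3, k₁, hk₁, hN₁', ht₁⟩ := class_data hX hz₁.1
    have hk₁2 : k₁ = 2 := by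
      rw [hN₁] at hN₁'
      exact (Nat.eq_of_mul_eq_mul_right (by omega) hN₁').symm
    subst hk₁2
    rw [← hg'] at ht₁
    have hSeqF : S = Finset.univ.filter (· ∈ TT (CC z₁)) := by
      apply Finset.Subset.antisymm _ (hsubS z₁ hz₁S)
      intro z₂ hz₂S
      rw [Finset.mem_filter]
      refine ⟨Finset.mem_univ _, ?_⟩
      by_contra hnot
      have hz₂ := (hmemS z₂).mp hz₂S
      have hd := hdisjF z₁ z₂ hz₁.1 hz₂.1 hnot
      have hsub : (Finset.univ.filter (· ∈ TT (CC z₁))) ∪ (Finset.univ.filter (· ∈ TT (CC z₂))) ⊆ S :=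
        Finset.union_subset (hsubS z₁ hz₁S) (hsubS z₂ hz₂S)
      have hcardle := Finset.card_le_card hsub
      rw [Finset.card_union_of_disjoint hd, hFz, hFz] at hcardle
      have h6 := hbound z₂ hz₂.1
      have h4 := num_k2 hd₁3 ht₁
      omega
    have hsum1 : ∑ w ∈ S, {v | v ∈ TT Z ∧ v * w * v⁻¹ = w⁻¹}.ncard = (TT (CC z₁)).ncard * Nat.card (CC z₁) := by
      rw [hSeqF]
      exact hsumC z₁ hz₁.1 (by rw [hN₁]; exact dvd_mul_right _ _)
    have hScard : S.card = (TT (CC z₁)).ncard := by rw [hSeqF, hFz]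
    have hy' := arith_P (x := x) (n := n) (c := c) (d := Nat.card (CC z₁)) (y := y) (tC := (TT (CC z₀)).ncard)
      (tD := (TT (CC z₁)).ncard) hx1 hy1 hn4 hc3 hd₁3 htC2 (by rw [ht₁, hg]; ring)
      (by
        have := hsplit
        rw [hOTcard, hFCcard, hScard, hg] at this
        rw [show x * n * c = x * (n * c) by ring, this]
        ring)
      (by rw [hxc0, hsum1])
    rw [hy', mul_one] at hx1
    exact hx1
  by_cases hex : ∃ z ∈ S, Nat.card (Subgroup.normalizer ((CC z : Subgroup X) : Set X)) = 2 * Nat.card (CC z)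
  · obtain ⟨z, hz, h⟩ := hex
    exact hP z hz h
  push Not at hex
  have hall4 : ∀ z ∈ S, 3 ≤ Nat.card (CC z) ∧
      Nat.card (Subgroup.normalizer ((CC z : Subgroup X) : Set X)) = 4 * Nat.card (CC z) ∧
      (TT (CC z)).ncard * (4 * Nat.card (CC z)) = g * (Nat.card (CC z) - 1) := by
    intro z hz
    obtain ⟨hd3, k, hk, hN, ht⟩ := class_data hX ((hmemS z).mp hz).1
    rw [← hg'] at ht
    have h1 := hk_ne1 z hz k hN ht
    have h2 : k ≠ 2 := by
      rintro rfl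
      exact hex z hz hN
    have h4 : k = 4 := by omega
    subst h4
    exact ⟨hd3, hN, ht⟩
  obtain ⟨hd₁3, hN₁, ht₁⟩ := hall4 z₁ hz₁S
  have ht₁lt : 4 * (TT (CC z₁)).ncard < g := num_k4' hd₁3 hgpos ht₁
  have hcardlt : (Finset.univ.filter (· ∈ TT (CC z₁))).card < S.card := by
    rw [hFz]
    omega
  obtain ⟨z₂, hz₂S, hz₂n⟩ := Finset.exists_mem_notMem_of_card_lt_card hcardlt
  have hz₂ := (hmemS z₂).mp hz₂S
  have hz₂n' : z₂ ∉ TT (CC z₁) := fun h => hz₂n (Finset.mem_filter.mpr ⟨Finset.mem_univ _, h⟩)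
  obtain ⟨hd₂3, hN₂, ht₂⟩ := hall4 z₂ hz₂S
  have h12 := hdisjF z₁ z₂ hz₁.1 hz₂.1 hz₂n'
  have hSeq2 : S = (Finset.univ.filter (· ∈ TT (CC z₁))) ∪ (Finset.univ.filter (· ∈ TT (CC z₂))) := by
    apply Finset.Subset.antisymm _ (Finset.union_subset (hsubS z₁ hz₁S) (hsubS z₂ hz₂S))
    intro z₃ hz₃S
    by_contra hnot
    rw [Finset.mem_union, not_or, Finset.mem_filter, Finset.mem_filter] at hnot
    have hz₃ := (hmemS z₃).mp hz₃S
    have hn1 : z₃ ∉ TT (CC z₁) := fun h => hnot.1 ⟨Finset.mem_univ _, h⟩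
    have hn2 : z₃ ∉ TT (CC z₂) := fun h => hnot.2 ⟨Finset.mem_univ _, h⟩
    have h13 := hdisjF z₁ z₃ hz₁.1 hz₃.1 hn1
    have h23 := hdisjF z₂ z₃ hz₂.1 hz₃.1 hn2
    have hd : Disjoint ((Finset.univ.filter (· ∈ TT (CC z₁))) ∪ (Finset.univ.filter (· ∈ TT (CC z₂))))
        (Finset.univ.filter (· ∈ TT (CC z₃))) := by
      rw [Finset.disjoint_union_left]
      exact ⟨h13, h23⟩
    have hsub := Finset.union_subset (Finset.union_subset (hsubS z₁ hz₁S) (hsubS z₂ hz₂S)) (hsubS z₃ hz₃S)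
    have hcardle := Finset.card_le_card hsub
    rw [Finset.card_union_of_disjoint hd, Finset.card_union_of_disjoint h12, hFz, hFz, hFz] at hcardle
    have b1 := hbound z₁ hz₁.1
    have b2 := hbound z₂ hz₂.1
    have b3 := hbound z₃ hz₃.1
    omega
  have hsum2 : ∑ w ∈ S, {v | v ∈ TT Z ∧ v * w * v⁻¹ = w⁻¹}.ncard =
      (TT (CC z₁)).ncard * Nat.card (CC z₁) + (TT (CC z₂)).ncard * Nat.card (CC z₂) := by
    rw [hSeq2, Finset.sum_union h12, hsumC z₁ hz₁.1 (by rw [hN₁]; exact ⟨2 * _, by ring⟩),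
      hsumC z₂ hz₂.1 (by rw [hN₂]; exact ⟨2 * _, by ring⟩)]
  have hScard : S.card = (TT (CC z₁)).ncard + (TT (CC z₂)).ncard := by
    rw [hSeq2, Finset.card_union_of_disjoint h12, hFz, hFz]
  have hcop := coprime_cc hX hz₁.1 hz₂.1 hz₂n'
  have hdd : Nat.card (CC z₁) * Nat.card (CC z₂) ≤ x :=
    Nat.le_of_dvd hxpos (hcop.mul_dvd_of_dvd_of_dvd (hfree z₁ hz₁.1 hz₁.2) (hfree z₂ hz₂.1 hz₂.2))
  have hy' := arith_Q (x := x) (n := n) (c := c) (d₁ := Nat.card (CC z₁)) (d₂ := Nat.card (CC z₂)) (y := y)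
    (tC := (TT (CC z₀)).ncard) (t₁ := (TT (CC z₁)).ncard) (t₂ := (TT (CC z₂)).ncard) hx1 hy1
    (by rw [hZc] at hnle; exact hnle) hn4 hc3 hd₁3 hd₂3 htC2 (by rw [ht₁, hg]; ring) (by rw [ht₂, hg]; ring)
    (by
      have := hsplit
      rw [hOTcard, hFCcard, hScard, hg] at this
      rw [show x * n * c = x * (n * c) by ring, this]
      ring)
    (by rw [hxc0, hsum2]; ring) hdd
  rw [hy', mul_one] at hx1
  exact hx1

end main

end abs

end Cfsg.Agent.SzT
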