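import Mathlib
import Cfsg.Agent.Lib.Sz.SubCount
import Cfsg.Agent.S2238

/-!
Subgroups of the Suzuki groups: the local analysis.  Every subgroup of the Suzuki group inherits the
hypotheses of the counting theorem in `SubCount`; the `2`-local data are those of the intersections with
the unipotent and Borel subgroups.
-/

set_option autoImplicit false
set_option linter.unusedSectionVars false
set_option linter.style.haveILetI false

namespace Cfsg.Agent.SzSub

open Cfsg.Agent.SzT Cfsg.Agent.S3391 Cfsg.Agent.S2238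

/-- the quotient of a normaliser embeds -/
lemma card_dvd_quot {X G : Type*} [Group X] [Group G] [Finite X] [Finite G] (ι : X →* G) (N A : Subgroup G)
    (hAN : A ≤ N) (hAn : ∀ n ∈ N, ∀ a ∈ A, n * a * n⁻¹ ∈ A) (Y D : Subgroup X) (hY : ∀ y ∈ Y, ι y ∈ N)
    (hD : ∀ y ∈ Y, y ∈ D ↔ ι y ∈ A) (hDY : D ≤ Y) {k : ℕ} (hk : Nat.card N ∣ k * Nat.card A) :
    Nat.card Y ∣ k * Nat.card D := by
  let A' : Subgroup N := A.subgroupOf N
  haveI : A'.Normal := ⟨fun a ha n => by
    show ((n * a * n⁻¹ : N) : G) ∈ A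
    exact hAn n n.2 a ha⟩
  let ρ : Y →* N := MonoidHom.codRestrict (ι.comp Y.subtype) N (fun y => hY y y.2)
  let φ : Y →* N ⧸ A' := (QuotientGroup.mk' A').comp ρ
  have hker : φ.ker = D.subgroupOf Y := by
    ext y
    rw [MonoidHom.mem_ker, Subgroup.mem_subgroupOf]
    show (QuotientGroup.mk' A') (ρ y) = 1 ↔ _
    rw [QuotientGroup.mk'_apply, QuotientGroup.eq_one_iff, hD y y.2]
    exact Iff.rfl
  have h1 : Nat.card Y = Nat.card D * Nat.card φ.range := by
    rw [← Subgroup.index_ker, ← Subgroup.card_mul_index φ.ker, hker, Nat.card_congr (Subgroup.subgroupOfEquivOfLe hDY).toEquiv]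
  have h2 : Nat.card φ.range ∣ A'.index := by
    rw [Subgroup.index]
    exact Subgroup.card_subgroup_dvd_card _
  have h3 : A'.index * Nat.card A = Nat.card N := by
    rw [← Subgroup.index_mul_card A', Nat.card_congr (Subgroup.subgroupOfEquivOfLe hAN).toEquiv]
  have h4 : A'.index ∣ k := by
    rw [← h3] at hk
    exact Nat.dvd_of_mul_dvd_mul_right Nat.card_pos hk
  rw [h1, mul_comm]
  exact mul_dvd_mul (h2.trans h4) dvd_rfl

/-- free actions on cosets -/
lemma free_index {X : Type*} [Group X] [Finite X] (A H : Subgroup X)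
    (hfree : ∀ a ∈ A, ∀ k : X, k⁻¹ * a * k ∈ H → a = 1) : Nat.card A ∣ H.index := by
  have hst : ∀ q : X ⧸ H, MulAction.stabilizer A q = ⊥ := by
    intro q
    induction q using QuotientGroup.induction_on with
    | H k =>
      rw [eq_bot_iff]
      intro a ha
      have ha' : ((a : X) * k : X ⧸ H) = (k : X ⧸ H) := ha
      rw [QuotientGroup.eq] at ha'
      have e : k⁻¹ * (a : X)⁻¹ * k ∈ H := by
        have := ha'
        rwa [mul_inv_rev] at this
      have h1 := hfree _ (A.inv_mem a.2) k e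
      rw [Subgroup.mem_bot]
      apply Subtype.ext
      simpa using h1
  have e := Nat.card_congr (MulAction.selfEquivOrbitsQuotientProd hst)
  rw [Nat.card_prod] at e
  rw [Subgroup.index, e]
  exact dvd_mul_left _ _

/-- free actions on the other cosets -/
lemma free_index' {X : Type*} [Group X] [Finite X] (A H : Subgroup X) (hAH : A ≤ H)
    (hfree : ∀ a ∈ A, ∀ k : X, k ∉ H → k⁻¹ * a * k ∈ H → a = 1) : Nat.card A ∣ H.index - 1 := by
  classical
  haveI := Fintype.ofFinite (X ⧸ H)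
  let W : SubMulAction A (X ⧸ H) :=
    { carrier := {q | q ≠ ((1 : X) : X ⧸ H)}
      smul_mem' := by
        intro a q hq he
        apply hq
        have h1 : a⁻¹ • (a • q) = q := inv_smul_smul a q
        rw [← h1, he]
        show ((((a⁻¹ : A) : X) * 1 : X) : X ⧸ H) = _
        rw [QuotientGroup.eq]
        simpa using hAH a.2 }
  have hst : ∀ q : W, MulAction.stabilizer A q = ⊥ := by
    rintro ⟨q, hq⟩
    induction q using QuotientGroup.induction_on with
    | H k =>
      rw [eq_bot_iff]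
      intro a ha
      have ha' : ((a : X) * k : X ⧸ H) = (k : X ⧸ H) := congrArg Subtype.val ha
      rw [QuotientGroup.eq] at ha'
      have hkH : k ∉ H := by
        intro hk
        apply hq
        show (k : X ⧸ H) = ((1 : X) : X ⧸ H)
        rw [QuotientGroup.eq]
        simpa using H.inv_mem hk
      have e : k⁻¹ * (a : X)⁻¹ * k ∈ H := by
        have := ha'
        rwa [mul_inv_rev] at this
      have h1 := hfree _ (A.inv_mem a.2) k hkH e
      rw [Subgroup.mem_bot]
      apply Subtype.ext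
      simpa using h1
  have e := Nat.card_congr (MulAction.selfEquivOrbitsQuotientProd hst)
  rw [Nat.card_prod] at e
  have hW : Nat.card W = H.index - 1 := by
    rw [Subgroup.index]
    have : Nat.card W = Nat.card {q : X ⧸ H // q ≠ ((1 : X) : X ⧸ H)} := rfl
    rw [this, Nat.card_eq_fintype_card, Nat.card_eq_fintype_card, Fintype.card_subtype_compl]
    simp
  rw [← hW, e]
  exact dvd_mul_left _ _

/-- a group whose squares lie in a subgroup -/
lemma card_le_sq {G : Type*} [Group G] [Finite G] (T Z : Subgroup G) (hsq : ∀ t ∈ T, t * t ∈ Z)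
    (hZ : ∀ t ∈ T, ∀ t' ∈ T, t * t = t' * t' → t * t'⁻¹ ∈ Z) : Nat.card T ≤ Nat.card Z ^ 2 := by
  classical
  let r : G → G := fun z => if h : ∃ t ∈ T, t * t = z then h.choose else 1
  have hr : ∀ t ∈ T, r (t * t) ∈ T ∧ r (t * t) * r (t * t) = t * t := by
    intro t ht
    have h : ∃ t' ∈ T, t' * t' = t * t := ⟨t, ht, rfl⟩
    simp only [r, dif_pos h]
    exact h.choose_spec
  let f : T → Z × Z := fun t => (⟨t * t, hsq t t.2⟩,
    ⟨t * (r (t * t))⁻¹, hZ t t.2 _ (hr t t.2).1 (hr t t.2).2.symm⟩)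
  have hf : Function.Injective f := by
    intro t t' he
    have e1 : (t : G) * t = t' * t' := congrArg (fun p => ((p.1 : Z) : G)) he
    have e2 : (t : G) * (r (t * t))⁻¹ = t' * (r (t' * t'))⁻¹ := congrArg (fun p => ((p.2 : Z) : G)) he
    rw [e1] at e2
    exact Subtype.ext (mul_right_cancel e2)
  have := Nat.card_le_card_of_injective f hf
  rwa [Nat.card_prod, ← pow_two] at this

section sz
variable {F : Type*} [Field F] [Fintype F] {s : ℕ} [h : SzF F s]

lemma p00_ne : pI F ≠ p00 s F := fun e => pP_ne_pI (s := s) (0 : F) 0 e.symm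

/-- the action on the two fixed points of a split torus -/
lemma norm_pts {y : GG s F} {l t : Fˣ} (hl : l ≠ 1) (hyt : y * dG s l * y⁻¹ = dG s t) :
    (y • pI F = pI F ∧ y • p00 s F = p00 s F) ∨ (y • pI F = p00 s F ∧ y • p00 s F = pI F) := by
  have ht1 : t ≠ 1 := by
    rintro rfl
    apply hl
    rw [dG_one] at hyt
    have h2 : dG s l = 1 := by
      have e : dG s l = y⁻¹ * (y * dG s l * y⁻¹) * y := by group
      rw [e, hyt]
      group
    exact dG_inj (h2.trans dG_one.symm)
  have hfx : ∀ p : P3 F, dG s l • p = p → dG s t • (y • p) = y • p := by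
    intro p hp
    rw [← hyt, mul_smul, mul_smul, inv_smul_smul, hp]
  have hd0 : dG s l • p00 s F = p00 s F := (dG_smul_pP l 0 0).trans (by simp)
  have h1 := fix_dG ht1 (smul_mem_Ov' y (pI_mem (s := s) (F := F))) (hfx _ (dG_smul_pI l))
  have h2 := fix_dG ht1 (smul_mem_Ov' y (pP_mem (s := s) (0 : F) 0)) (hfx _ hd0)
  have hne : y • pI F ≠ y • p00 s F := fun e => p00_ne (s := s) (smul_left_cancel y e)
  rcases h1 with e1 | e1 <;> rcases h2 with e2 | e2
  · exact (hne (e1.trans e2.symm)).elim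
  · exact Or.inl ⟨e1, e2⟩
  · exact Or.inr ⟨e1, e2⟩
  · exact (hne (e1.trans e2.symm)).elim

lemma mem_Tor_of_fix {y : GG s F} (h1 : y • pI F = pI F) (h2 : y • p00 s F = p00 s F) : y ∈ TorA s F := by
  obtain ⟨r, hr⟩ := stab2G h1 h2
  rw [hr]
  exact dG_mem_TorA r

lemma norm_TorA_card :
    Nat.card (Subgroup.normalizer ((TorA s F : Subgroup (GG s F)) : Set (GG s F))) ∣ 2 * Nat.card (TorA s F) := by
  classical
  obtain ⟨l, hl⟩ := exists_unit_ne_one (F := F) (s := s)
  obtain ⟨k, hk⟩ : Nat.card (TorA s F) ∣ Nat.card (Subgroup.normalizer ((TorA s F : Subgroup (GG s F)) : Set (GG s F))) :=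
    Subgroup.card_dvd_of_le Subgroup.le_normalizer
  have hsub : (Subgroup.normalizer ((TorA s F : Subgroup (GG s F)) : Set (GG s F)) : Set (GG s F)) ⊆
      (TorA s F : Set (GG s F)) ∪ (fun t => wG s F * t) '' (TorA s F : Set (GG s F)) := by
    intro y hy
    have h1 : y * dG s l * y⁻¹ ∈ TorA s F := (Subgroup.mem_normalizer_iff.mp hy _).mp (dG_mem_TorA l)
    obtain ⟨t, ht⟩ := mem_TorA.mp h1
    rcases norm_pts hl ht.symm with ⟨e1, e2⟩ | ⟨e1, e2⟩
    · exact Or.inl (mem_Tor_of_fix e1 e2)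
    · right
      refine ⟨wG s F * y, mem_Tor_of_fix ?_ ?_, ?_⟩
      · rw [mul_smul, e1, wG_smul_p00]
      · rw [mul_smul, e2, wG_smul_pI]
      · show wG s F * (wG s F * y) = y
        rw [← mul_assoc, wG_mul_self, one_mul]
  have hle := Set.ncard_le_ncard hsub (Set.toFinite _)
  have hle2 := Set.ncard_union_le (TorA s F : Set (GG s F)) ((fun t => wG s F * t) '' (TorA s F : Set (GG s F)))
  have hle3 := Set.ncard_image_le (f := fun t => wG s F * t) (Set.toFinite (TorA s F : Set (GG s F)))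
  have c1 : ((Subgroup.normalizer ((TorA s F : Subgroup (GG s F)) : Set (GG s F)) : Subgroup (GG s F)) : Set (GG s F)).ncard =
      Nat.card (Subgroup.normalizer ((TorA s F : Subgroup (GG s F)) : Set (GG s F))) := (Nat.card_coe_set_eq _).symm
  have c2 : ((TorA s F : Subgroup (GG s F)) : Set (GG s F)).ncard = Nat.card (TorA s F) := (Nat.card_coe_set_eq _).symm
  rw [c1] at hle
  rw [c2] at hle2 hle3
  rw [hk] at hle ⊢
  have hpos : 0 < Nat.card (TorA s F) := Nat.card_pos
  have hk2 : k ≤ 2 := by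
    by_contra hcon
    have : 3 * Nat.card (TorA s F) ≤ Nat.card (TorA s F) * k := by nlinarith
    omega
  rw [mul_comm]
  refine mul_dvd_mul ?_ dvd_rfl
  interval_cases k <;> simp_all

lemma norm_cc_card {z : GG s F} (hz : z ^ 4 ≠ 1) :
    Nat.card (Subgroup.normalizer ((CC z : Subgroup (GG s F)) : Set (GG s F))) ∣ 4 * Nat.card (CC z) := by
  rcases dich hz with hF | ⟨g, l, hl, rfl⟩
  · rw [fpf_index hF]
  · rw [cc_conj, cc_dG hl]
    have e2 : Subgroup.normalizer ((cj g (TorA s F) : Subgroup (GG s F)) : Set (GG s F)) =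
        (Subgroup.normalizer ((TorA s F : Subgroup (GG s F)) : Set (GG s F))).map (MulAut.conj g).toMonoidHom :=
      (Subgroup.map_equiv_normalizer_eq _ _).symm
    rw [e2, Subgroup.card_map_of_injective (MulAut.conj g).injective, card_cj]
    exact norm_TorA_card.trans (by
      rw [show 4 * Nat.card (TorA s F) = 2 * (2 * Nat.card (TorA s F)) by ring]
      exact dvd_mul_left _ _)

lemma ccHypG : CCHyp (GG s F) where
  odd z hz c hc := cc_odd hz (mem_CC.mp hc)
  comm z hz a ha b hb := by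
    haveI := (cc_family hz).1
    have e := (IsCyclic.commGroup (α := CC z)).mul_comm (⟨a, ha⟩ : CC z) ⟨b, hb⟩
    exact congrArg Subtype.val e
  ti z hz w hw hw1 := cc_ti hz hw hw1
  n4 z hz := norm_cc_card hz

lemma mem_CC_sub {M : Subgroup (GG s F)} {z c : M} : c ∈ CC z ↔ (c : GG s F) ∈ CC (z : GG s F) := by
  rw [mem_CC, mem_CC]
  exact Subtype.ext_iff

lemma coe_pow4 {M : Subgroup (GG s F)} {z : M} (hz : z ^ 4 ≠ 1) : (z : GG s F) ^ 4 ≠ 1 := by
  intro he
  apply hz
  apply Subtype.ext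
  simpa using he

/-- Every subgroup inherits the hypotheses of the counting theorem. -/
lemma ccHypM (M : Subgroup (GG s F)) : CCHyp M where
  odd z hz c hc := by
    have := cc_odd (coe_pow4 hz) (mem_CC.mp (mem_CC_sub.mp hc))
    rwa [Subgroup.orderOf_coe] at this
  comm z hz a ha b hb := Subtype.ext (ccHypG.comm _ (coe_pow4 hz) _ (mem_CC_sub.mp ha) _ (mem_CC_sub.mp hb))
  ti z hz w hw hw1 := by
    have hw1' : (w : GG s F) ≠ 1 := fun e => hw1 (Subtype.ext e)
    ext c
    rw [mem_CC_sub, mem_CC_sub, cc_ti (coe_pow4 hz) (mem_CC_sub.mp hw) hw1']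
  n4 z hz := by
    have hz1 : (z : GG s F) ≠ 1 := by
      intro he
      apply coe_pow4 hz
      rw [he, one_pow]
    refine card_dvd_quot M.subtype _ _ Subgroup.le_normalizer
      (fun n hn a ha => (Subgroup.mem_normalizer_iff.mp hn a).mp ha) _ _ ?_ ?_ Subgroup.le_normalizer
      (norm_cc_card (coe_pow4 hz))
    · intro y hy
      have h1 := (Subgroup.mem_normalizer_iff.mp hy z).mp (self_mem_CC z)
      exact cc_ti_conj ccHypG (coe_pow4 hz) (self_mem_CC _) hz1 (mem_CC_sub.mp h1)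
    · intro y _
      exact mem_CC_sub

/-! ### The `2`-local data -/

/-- The centre of the unipotent subgroup. -/
def ZcS (s : ℕ) (F : Type*) [Field F] [Fintype F] [SzF F s] : Subgroup (GG s F) where
  carrier := {g | ∃ b : F, g = uG s 0 b}
  mul_mem' := by
    rintro _ _ ⟨b, rfl⟩ ⟨c, rfl⟩
    refine ⟨b + c, ?_⟩
    rw [uG_mul, s_zero (F := F) (s := s)]
    simp
  one_mem' := ⟨0, uG_zero.symm⟩
  inv_mem' := by
    rintro _ ⟨b, rfl⟩
    refine ⟨b, ?_⟩
    rw [uG_inv, s_zero (F := F) (s := s)]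
    simp

lemma mem_ZcS {g : GG s F} : g ∈ ZcS s F ↔ ∃ b : F, g = uG s 0 b := Iff.rfl

lemma ZcS_le_Uni : ZcS s F ≤ Uni s F := by
  rintro _ ⟨b, rfl⟩
  exact ⟨0, b, rfl⟩

/-- The Sylow `2`-subgroups of `M` are in the standard unipotent subgroup. -/
def Std (M : Subgroup (GG s F)) : Prop := ∀ y ∈ M, y ^ 4 = 1 → ∃ k ∈ M, k⁻¹ * y * k ∈ Uni s F

lemma uni_ti {a k : GG s F} (ha : a ∈ Uni s F) (ha1 : a ≠ 1) (hk : k * a * k⁻¹ ∈ Uni s F) : k ∈ Bor s F := by
  obtain ⟨A, B, rfl⟩ := ha
  obtain ⟨C, D, e⟩ := hk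
  have hfix : uG s A B • (k⁻¹ • pI F) = k⁻¹ • pI F := by
    have e1 : uG s A B = k⁻¹ * uG s C D * k := by
      rw [← e]
      group
    rw [e1, mul_smul, mul_smul, smul_inv_smul, uG_smul_pI]
  have hk' : k⁻¹ ∈ Bor s F := by
    rw [mem_Bor]
    rcases smul_mem_Ov' k⁻¹ (pI_mem (s := s) (F := F)) with h1 | ⟨X, Y, h1⟩
    · exact h1
    · rw [h1] at hfix
      obtain ⟨rfl, rfl⟩ := uG_fix hfix
      exact (ha1 uG_zero).elim
  simpa using (Bor s F).inv_mem hk'

lemma bor_sq' {z : GG s F} (hz : z ∈ Bor s F) (h2 : z * z = 1) : z ∈ ZcS s F := by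
  by_cases h1 : z = 1
  · rw [h1]
    exact (ZcS s F).one_mem
  · obtain ⟨c, -, rfl⟩ := bor_sq (mem_Bor.mp hz) h1 h2
    exact ⟨c, rfl⟩

lemma ZcS_le_Bor : ZcS s F ≤ Bor s F := ZcS_le_Uni.trans Uni_le_Bor

lemma bor_conj_zc {k y : GG s F} (hk : k ∈ Bor s F) (hy : y ∈ ZcS s F) : k * y * k⁻¹ ∈ ZcS s F := by
  apply bor_sq'
  · exact mul_mem (mul_mem hk (ZcS_le_Bor hy)) (inv_mem hk)
  · obtain ⟨b, rfl⟩ := hy
    calc k * uG s 0 b * k⁻¹ * (k * uG s 0 b * k⁻¹) = k * (uG s 0 b * uG s 0 b) * k⁻¹ := by group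
      _ = 1 := by rw [uG_zero_sq]; group

/-- the intersections with the standard subgroups, inside `M` -/
abbrev TX (M : Subgroup (GG s F)) : Subgroup M := (Uni s F).subgroupOf M
/-- the intersections with the standard subgroups, inside `M` -/
abbrev ZX (M : Subgroup (GG s F)) : Subgroup M := (ZcS s F).subgroupOf M
/-- the intersections with the standard subgroups, inside `M` -/
abbrev HX (M : Subgroup (GG s F)) : Subgroup M := (Bor s F).subgroupOf M

lemma sylData {M : Subgroup (GG s F)} (hS : Std M) {b : F} (hb0 : b ≠ 0) (hb : uG s 0 b ∈ M) :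
    SylData (TX M) (ZX M) (HX M) := by
  have hne : uG s 0 b ≠ 1 := by
    intro he
    exact hb0 (uG_inj (he.trans uG_zero.symm)).2
  have key : ∀ y : M, y ^ 4 = 1 → ∃ (k a : M), (a : GG s F) ∈ Uni s F ∧ y = k * a * k⁻¹ := by
    intro y hy
    obtain ⟨k, hk, hU⟩ := hS y y.2 (by simpa using congrArg Subtype.val hy)
    refine ⟨⟨k, hk⟩, ⟨_, M.mul_mem (M.mul_mem (M.inv_mem hk) y.2) hk⟩, hU, ?_⟩
    apply Subtype.ext
    simp only [Subgroup.coe_mul, InvMemClass.coe_inv]
    group
  have hne_conj : ∀ {k a : M}, k * a * k⁻¹ ≠ 1 → a ≠ 1 := by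
    rintro k a h1 rfl
    apply h1
    group
  have hti : ∀ a ∈ TX M, a ≠ 1 → ∀ k : M, k * a * k⁻¹ ∈ TX M → k ∈ HX M := by
    intro a ha ha1 k hk
    exact uni_ti ha (fun e => ha1 (Subtype.ext e)) hk
  have hbz : (⟨uG s 0 b, hb⟩ : M) ∈ ZX M := ⟨b, rfl⟩
  have hbne : (⟨uG s 0 b, hb⟩ : M) ≠ 1 := fun e => hne (congrArg Subtype.val e)
  have hzt : ZX M ≤ TX M := fun y hy => ZcS_le_Uni hy
  refine ⟨hzt, ?_, ?_, ?_, ?_, ?_, ?_, hti, ?_⟩
  · rintro y ⟨a, b, e⟩
    change (y : GG s F) = _ at e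
    apply Subtype.ext
    push_cast
    rw [e, uG_pow4]
  · rintro y ⟨c, e⟩
    change (y : GG s F) = _ at e
    apply Subtype.ext
    push_cast
    rw [e, uG_zero_sq]
  · intro y h4 h1
    obtain ⟨k, a, ha, rfl⟩ := key y h4
    exact ⟨k, a, ha, hne_conj h1, rfl⟩
  · intro y h2 h1
    have h4 : y ^ 4 = 1 := by
      calc y ^ 4 = (y * y) * (y * y) := by simp only [pow_succ, pow_zero, one_mul, mul_assoc]
        _ = 1 := by rw [h2]; group
    obtain ⟨k, a, ha, rfl⟩ := key y h4
    refine ⟨k, a, ?_, hne_conj h1, rfl⟩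
    apply bor_sq' (Uni_le_Bor ha)
    have e : a * a = 1 := by
      have e1 : a * a = k⁻¹ * (k * a * k⁻¹ * (k * a * k⁻¹)) * k := by group
      rw [e1, h2]
      group
    exact congrArg Subtype.val e
  · apply le_antisymm
    · intro k hk
      exact hti _ (hzt hbz) hbne k ((Subgroup.mem_normalizer_iff.mp hk _).mp (hzt hbz))
    · intro k hk
      rw [Subgroup.mem_normalizer_iff]
      intro y
      have hk' : (k : GG s F) ∈ Subgroup.normalizer ((Uni s F : Subgroup (GG s F)) : Set (GG s F)) := by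
        rw [norm_Uni]
        exact hk
      exact (Subgroup.mem_normalizer_iff.mp hk' y)
  · apply le_antisymm
    · intro k hk
      exact hti _ (hzt hbz) hbne k (hzt ((Subgroup.mem_normalizer_iff.mp hk _).mp hbz))
    · intro k hk
      rw [Subgroup.mem_normalizer_iff]
      intro y
      constructor
      · intro hy
        exact bor_conj_zc hk hy
      · intro hy
        have hk2 : (k : GG s F)⁻¹ ∈ Bor s F := inv_mem hk
        have hy' : ((k * y * k⁻¹ : M) : GG s F) ∈ ZcS s F := hy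
        have := bor_conj_zc hk2 hy'
        have e : (k : GG s F)⁻¹ * ((k * y * k⁻¹ : M) : GG s F) * ((k : GG s F)⁻¹)⁻¹ = y := by
          simp only [Subgroup.coe_mul, InvMemClass.coe_inv]
          group
        rw [e] at this
        exact this
  · intro y hy h2
    exact bor_sq' hy (congrArg Subtype.val h2)

end sz

end Cfsg.Agent.SzSub
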