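import Mathlib
import Cfsg.Agent.Lib.Sz.SubA

/-!
Subgroups of the Suzuki groups: the torus attached to a subgroup of even order, transitivity on the central
involutions, subgroups of odd order, and the case of a small centre (Burnside's transfer theorem).
-/

set_option autoImplicit false
set_option linter.unusedSectionVars false
set_option linter.style.haveILetI false

namespace Cfsg.Agent.SzSub

open Cfsg.Agent.SzT Cfsg.Agent.S3391 Cfsg.Agent.S2238

/-- an element normalising a centraliser has its fourth power in it -/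
lemma pow4_of_norm {X : Type*} [Group X] [Finite X] (hX : CCHyp X) {z b : X} (hz : z ^ 4 ≠ 1)
    (hb : b ∈ Subgroup.normalizer ((CC z : Subgroup X) : Set X)) : b ^ 4 ∈ CC z := by
  set A := CC z with hA
  set N := Subgroup.normalizer ((A : Subgroup X) : Set X) with hN
  haveI : (A.subgroupOf N).Normal := Subgroup.normal_in_normalizer
  have hle : A ≤ N := Subgroup.le_normalizer
  have hcard : (A.subgroupOf N).index ∣ 4 := by
    have e1 := Subgroup.index_mul_card (A.subgroupOf N)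
    rw [Nat.card_congr (Subgroup.subgroupOfEquivOfLe hle).toEquiv] at e1
    have h4 := hX.n4 z hz
    rw [← e1] at h4
    exact Nat.dvd_of_mul_dvd_mul_right Nat.card_pos h4
  obtain ⟨k, hk⟩ := hcard
  have := Subgroup.pow_index_mem (A.subgroupOf N) (⟨b, hb⟩ : N)
  have h2 := (A.subgroupOf N).pow_mem this k
  rw [← pow_mul, ← hk] at h2
  exact h2

/-- Burnside's transfer theorem, in the form needed -/
lemma burnside_abs {X : Type*} [Group X] [Finite X] (T : Subgroup X) (hTp : IsPGroup 2 T) (hodd : ¬ 2 ∣ T.index)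
    (hcomm : ∀ a b : T, a * b = b * a) (hN : Subgroup.normalizer ((T : Subgroup X) : Set X) ≤ T) (hTX : T ≠ ⊤) :
    ∃ K : Subgroup X, K.Normal ∧ K ≠ ⊥ ∧ ∀ y ∈ K, y * y = 1 → y = 1 := by
  haveI : Fact (Nat.Prime 2) := ⟨Nat.prime_two⟩
  let P : Sylow 2 X := hTp.toSylow hodd
  have hPc : (P : Subgroup X) = T := hTp.toSylow_coe hodd
  have hN' : Subgroup.normalizer ((P : Subgroup X) : Set X) ≤ Subgroup.centralizer ((P : Subgroup X) : Set X) := by
    rw [hPc]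
    intro k hk
    have hk' := hN hk
    rw [Subgroup.mem_centralizer_iff]
    intro c hc
    exact congrArg Subtype.val (hcomm ⟨c, hc⟩ ⟨k, hk'⟩)
  have hC := MonoidHom.ker_transferSylow_isComplement' P hN'
  have hnd := MonoidHom.not_dvd_card_ker_transferSylow P hN'
  refine ⟨(MonoidHom.transferSylow P hN').ker, MonoidHom.normal_ker _, ?_, ?_⟩
  · intro he
    rw [he, Subgroup.isComplement'_bot_left, hPc] at hC
    exact hTX hC
  · intro y hy h2
    by_contra hy1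
    apply hnd
    have ho : orderOf (⟨y, hy⟩ : (MonoidHom.transferSylow P hN').ker) = 2 := by
      apply orderOf_eq_prime
      · apply Subtype.ext
        show y ^ 2 = 1
        rw [pow_two, h2]
      · intro he
        exact hy1 (congrArg Subtype.val he)
    have := orderOf_dvd_natCard (⟨y, hy⟩ : (MonoidHom.transferSylow P hN').ker)
    rwa [ho] at this

lemma comm_of_card_le {G : Type*} [Group G] [Finite G] (hp : IsPGroup 2 G) (hc : Nat.card G ≤ 4) (a b : G) :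
    a * b = b * a := by
  haveI : Fact (Nat.Prime 2) := ⟨Nat.prime_two⟩
  obtain ⟨j, hj⟩ := IsPGroup.iff_card.mp hp
  have hj2 : j ≤ 2 := by
    by_contra hcon
    have h1 : 2 ^ 3 ≤ 2 ^ j := Nat.pow_le_pow_right (by norm_num) (by omega)
    rw [hj] at hc
    omega
  interval_cases j
  · have : Subsingleton G := (Nat.card_eq_one_iff_unique.mp (by simpa using hj)).1
    exact Subsingleton.elim _ _
  · have : IsCyclic G := isCyclic_of_prime_card (p := 2) (by simpa using hj)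
    exact (IsCyclic.commGroup (α := G)).mul_comm a b
  · exact IsPGroup.commutative_of_card_eq_prime_sq (p := 2) hj a b

section sz
variable {F : Type*} [Field F] [Fintype F] {s : ℕ} [h : SzF F s]

lemma mu_one {x : F} (e : x ^ s * x * x = 1) : x = 1 := by
  have e1 : (x ^ s) ^ s * x ^ s * x ^ s = 1 := by
    have := congrArg (· ^ s) e
    simpa only [mul_pow, one_pow] using this
  rw [h.sq] at e1
  have e2 : x ^ s = 1 := by
    calc x ^ s = (x ^ s * x * x) * x ^ s := by rw [e, one_mul]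
      _ = x ^ 2 * x ^ s * x ^ s := by ring
      _ = 1 := e1
  apply s_inj (s := s)
  rw [e2, one_pow]

lemma mu_inj {l l' : Fˣ} (e : (l : F) ^ s * l * l = (l' : F) ^ s * l' * l') : l = l' := by
  have h1 : ((l : F) / l') ^ s * ((l : F) / l') * ((l : F) / l') = 1 := by
    rw [div_pow]
    have h2 : (l' : F) ^ s ≠ 0 := pow_ne_zero _ l'.ne_zero
    field_simp
    linear_combination e
  have h2 := mu_one (s := s) h1
  apply Units.ext
  rwa [div_eq_one_iff_eq l'.ne_zero] at h2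

lemma sq_inj_U {a a' : F} (e : a ^ s * a = a' ^ s * a') : a = a' := by
  have h1 : ∀ x : F, (x ^ s * x) ^ (s - 1) = x := by
    intro x
    have := pow_s_add_one_surj (s := s) x
    rw [← pow_mul, mul_comm, pow_mul, pow_succ] at this
    exact this
  rw [← h1 a, e, h1 a']

lemma conj_zc (a b : F) (l : Fˣ) (c : F) :
    (uG s a b * dG s l) * uG s 0 c * (uG s a b * dG s l)⁻¹ = uG s 0 ((l : F) ^ s * l * l * c) := by
  calc (uG s a b * dG s l) * uG s 0 c * (uG s a b * dG s l)⁻¹ =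
      uG s a b * (dG s l * uG s 0 c * (dG s l)⁻¹) * (uG s a b)⁻¹ := by group
    _ = uG s a b * uG s 0 ((l : F) ^ s * l * l * c) * (uG s a b)⁻¹ := by rw [dG_conj_uG, mul_zero]
    _ = uG s 0 ((l : F) ^ s * l * l * c) := by rw [uG_comm_center]; group

/-- The image of the Borel part of `M` in the torus. -/
def Lam (M : Subgroup (GG s F)) : Subgroup Fˣ where
  carrier := {l | ∃ a b : F, uG s a b * dG s l ∈ M}
  mul_mem' := by
    rintro l l' ⟨a, b, h1⟩ ⟨c, d, h2⟩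
    obtain ⟨x, y, e⟩ := uG_dG_mul (s := s) a b c d l l'
    exact ⟨x, y, e ▸ M.mul_mem h1 h2⟩
  one_mem' := ⟨0, 0, by rw [uG_zero, dG_one, one_mul]; exact M.one_mem⟩
  inv_mem' := by
    rintro l ⟨a, b, h1⟩
    have e := dG_conj_uG (s := s) l⁻¹ a (b + a ^ s * a)
    refine ⟨((l⁻¹ : Fˣ) : F) ^ s * a, ((l⁻¹ : Fˣ) : F) ^ s * (l⁻¹ : Fˣ) * (l⁻¹ : Fˣ) * (b + a ^ s * a), ?_⟩
    rw [← e]
    have e2 : dG s l⁻¹ * uG s a (b + a ^ s * a) * (dG s l⁻¹)⁻¹ * dG s l⁻¹ = (uG s a b * dG s l)⁻¹ := by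
      rw [mul_inv_rev, uG_inv, ← dG_inv]
      group
    rw [e2]
    exact M.inv_mem h1

lemma mem_Lam {M : Subgroup (GG s F)} {l : Fˣ} : l ∈ Lam M ↔ ∃ a b : F, uG s a b * dG s l ∈ M := Iff.rfl

/-- transitivity on the central involutions -/
theorem trans_inv {M : Subgroup (GG s F)} (hS : Std M) (hnb : ¬ M ≤ Bor s F) {b₁ b₂ : F} (hb₁ : b₁ ≠ 0) (hb₂ : b₂ ≠ 0)
    (m₁ : uG s 0 b₁ ∈ M) (m₂ : uG s 0 b₂ ∈ M) : ∃ l ∈ Lam M, (l : F) ^ s * l * l * b₁ = b₂ := by
  have hD := sylData hS hb₁ m₁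
  rw [SetLike.not_le_iff_exists] at hnb
  obtain ⟨g, hg, hgB⟩ := hnb
  have hu₁ : uG s 0 b₁ ∈ Uni s F := ⟨0, b₁, rfl⟩
  have hu₂ : uG s 0 b₂ ∈ Uni s F := ⟨0, b₂, rfl⟩
  have hne₁ : uG s 0 b₁ ≠ 1 := fun he => hb₁ (uG_inj (he.trans uG_zero.symm)).2
  have hne₂ : uG s 0 b₂ ≠ 1 := fun he => hb₂ (uG_inj (he.trans uG_zero.symm)).2
  set v₁ := uG s 0 b₁ with hv₁
  set v' := g * uG s 0 b₂ * g⁻¹ with hv'
  have hv'M : v' ∈ M := M.mul_mem (M.mul_mem hg m₂) (M.inv_mem hg)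
  have hv₁2 : v₁ * v₁ = 1 := uG_zero_sq b₁
  have hv'2 : v' * v' = 1 := by
    calc v' * v' = g * (uG s 0 b₂ * uG s 0 b₂) * g⁻¹ := by rw [hv']; group
      _ = 1 := by rw [uG_zero_sq]; group
  have hw1 : v₁ * v' ≠ 1 := by
    intro he
    have e : v' = v₁ := by
      have := eq_inv_of_mul_eq_one_right he
      rw [this, inv_eq_of_mul_eq_one_left hv₁2]
    apply hgB
    apply uni_ti hu₂ hne₂
    rw [← hv', e]
    exact hu₁
  have hw4 : (v₁ * v') ^ 4 ≠ 1 := by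
    intro he
    obtain ⟨m, h1, h2⟩ := same_point (v := ⟨v₁, m₁⟩) (v' := ⟨v', hv'M⟩) hD (Subtype.ext hv₁2) (Subtype.ext hv'2)
      (fun e => hw1 (congrArg Subtype.val e)) (Subtype.ext (by simpa using he))
    have h1' : (m : GG s F)⁻¹ * v₁ * m ∈ Uni s F := ZcS_le_Uni h1
    have h2' : (m : GG s F)⁻¹ * v' * m ∈ Uni s F := ZcS_le_Uni h2
    have hmB : (m : GG s F)⁻¹ ∈ Bor s F := by
      apply uni_ti hu₁ hne₁
      simpa using h1'
    have hmg : (m : GG s F)⁻¹ * g ∈ Bor s F := by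
      apply uni_ti hu₂ hne₂
      have : (m : GG s F)⁻¹ * g * uG s 0 b₂ * ((m : GG s F)⁻¹ * g)⁻¹ = (m : GG s F)⁻¹ * v' * m := by
        rw [hv']
        group
      rw [this]
      exact h2'
    apply hgB
    have := (Bor s F).mul_mem ((Bor s F).inv_mem hmB) hmg
    simpa using this
  -- odd order
  set w := v₁ * v' with hw
  have hodd := cc_odd hw4 (c := w) rfl
  obtain ⟨k, hk⟩ := hodd
  set y := w ^ (k + 1) with hy
  have hyy : y * y = w := by
    rw [hy, ← pow_add]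
    have : k + 1 + (k + 1) = orderOf w + 1 := by omega
    rw [this, pow_succ, pow_orderOf_eq_one, one_mul]
  have hyM : y ∈ M := M.pow_mem (M.mul_mem m₁ hv'M) _
  have hinvw : v₁ * w * v₁⁻¹ = w⁻¹ := by
    have hi₁ : v₁⁻¹ = v₁ := inv_eq_of_mul_eq_one_left hv₁2
    have hi' : v'⁻¹ = v' := inv_eq_of_mul_eq_one_left hv'2
    rw [hw, mul_inv_rev, hi₁, hi']
    calc v₁ * (v₁ * v') * v₁ = (v₁ * v₁) * v' * v₁ := by group
      _ = v' * v₁ := by rw [hv₁2]; group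
  have hinvy : v₁ * y * v₁⁻¹ = y⁻¹ := by
    rw [hy, ← conj_pow, hinvw, inv_pow]
  have hconj : y⁻¹ * v₁ * y = v' := by
    have h1 : y⁻¹ * v₁ = v₁ * y := by
      rw [← hinvy]
      group
    rw [h1, mul_assoc, hyy, hw, ← mul_assoc, hv₁2, one_mul]
  set hh := g⁻¹ * y⁻¹ with hhd
  have hhconj : hh * v₁ * hh⁻¹ = uG s 0 b₂ := by
    have : hh * v₁ * hh⁻¹ = g⁻¹ * (y⁻¹ * v₁ * y) * g := by
      rw [hhd]
      group
    rw [this, hconj, hv']
    group
  have hhB : hh ∈ Bor s F := by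
    apply uni_ti hu₁ hne₁
    rw [hhconj]
    exact hu₂
  have hhM : hh ∈ M := M.mul_mem (M.inv_mem hg) (M.inv_mem hyM)
  obtain ⟨a, b, l, e⟩ := stab1G (mem_Bor.mp hhB)
  refine ⟨l, ⟨a, b, e ▸ hhM⟩, ?_⟩
  rw [e, hv₁, conj_zc] at hhconj
  exact (uG_inj hhconj).2

theorem card_Lam {M : Subgroup (GG s F)} (hS : Std M) (hnb : ¬ M ≤ Bor s F) {b : F} (hb0 : b ≠ 0) (hb : uG s 0 b ∈ M) :
    Nat.card (Lam M) + 1 = Nat.card (ZX M) := by
  classical
  have hm : ∀ l : Lam M, uG s 0 (((l : Fˣ) : F) ^ s * (l : Fˣ) * (l : Fˣ) * b) ∈ M := by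
    rintro ⟨l, a, b', hl⟩
    rw [← conj_zc a b' l b]
    exact M.mul_mem (M.mul_mem hl hb) (M.inv_mem hl)
  have hne : ∀ l : Lam M, ((l : Fˣ) : F) ^ s * (l : Fˣ) * (l : Fˣ) * b ≠ 0 := by
    intro l
    have h1 : ((l : Fˣ) : F) ≠ 0 := (l : Fˣ).ne_zero
    exact mul_ne_zero (mul_ne_zero (mul_ne_zero (pow_ne_zero _ h1) h1) h1) hb0
  let ψ : Lam M → {z : ZX M // z ≠ 1} := fun l =>
    ⟨⟨⟨uG s 0 (((l : Fˣ) : F) ^ s * (l : Fˣ) * (l : Fˣ) * b), hm l⟩, ⟨_, rfl⟩⟩, fun he => by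
      have e1 : uG s 0 (((l : Fˣ) : F) ^ s * (l : Fˣ) * (l : Fˣ) * b) = 1 :=
        congrArg (fun z : ZX M => ((z : M) : GG s F)) he
      exact hne l (uG_inj (e1.trans uG_zero.symm)).2⟩
  have hψ : Function.Bijective ψ := by
    constructor
    · intro l l' he
      have e1 : uG s 0 (((l : Fˣ) : F) ^ s * (l : Fˣ) * (l : Fˣ) * b) = uG s 0 (((l' : Fˣ) : F) ^ s * (l' : Fˣ) * (l' : Fˣ) * b) :=
        congrArg (fun z : {z : ZX M // z ≠ 1} => (((z : ZX M) : M) : GG s F)) he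
      have e2 := mul_right_cancel₀ hb0 (uG_inj e1).2
      exact Subtype.ext (mu_inj e2)
    · rintro ⟨⟨⟨z, hzM⟩, c, hc⟩, hz1⟩
      change z = uG s 0 c at hc
      subst hc
      have hc0 : c ≠ 0 := by
        rintro rfl
        apply hz1
        apply Subtype.ext
        apply Subtype.ext
        exact uG_zero
      obtain ⟨l, hl, e⟩ := trans_inv hS hnb hb0 hc0 hb hzM
      refine ⟨⟨l, hl⟩, ?_⟩
      apply Subtype.ext
      apply Subtype.ext
      apply Subtype.ext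
      show uG s 0 ((l : F) ^ s * l * l * b) = _
      rw [e]
  have e1 := Nat.card_congr (Equiv.ofBijective ψ hψ)
  have e2 : Nat.card {z : ZX M // z ≠ 1} = Nat.card (ZX M) - 1 := by
    rw [Nat.card_eq_fintype_card, Nat.card_eq_fintype_card, Fintype.card_subtype_compl]
    simp
  have hpos : 0 < Nat.card (ZX M) := Nat.card_pos
  omega

lemma T_card_le (M : Subgroup (GG s F)) : Nat.card (TX M) ≤ Nat.card (ZX M) ^ 2 := by
  apply card_le_sq
  · rintro t ⟨a, b, e⟩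
    change (t : GG s F) = _ at e
    refine ⟨a ^ s * a, ?_⟩
    show (t : GG s F) * t = _
    rw [e, uG_sq]
  · rintro t ⟨a, b, e⟩ t' ⟨a', b', e'⟩ he
    change (t : GG s F) = _ at e
    change (t' : GG s F) = _ at e'
    have he' : (t : GG s F) * t = t' * t' := congrArg Subtype.val he
    rw [e, e', uG_sq, uG_sq] at he'
    have ha : a = a' := sq_inj_U (uG_inj he').2
    subst ha
    refine ⟨b + b', ?_⟩
    show (t : GG s F) * (t' : GG s F)⁻¹ = _
    rw [e, e', uG_inv, uG_mul, add_self' (s := s)]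
    congr 1
    have : a ^ s * a + a ^ s * a = 0 := add_self' (s := s) _
    linear_combination this

/-! ### Subgroups of odd order -/

/-- A subgroup without involutions lies in the centraliser of each of its non-identity elements. -/
theorem odd_le_cc {K : Subgroup (GG s F)} (hodd : ∀ y ∈ K, y * y = 1 → y = 1) {x : GG s F} (hx : x ∈ K) (hx1 : x ≠ 1) :
    K ≤ CC x := by
  have hoddo : ∀ x ∈ K, Odd (orderOf x) := by
    intro x hx
    apply odd_order_of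
    intro k hk
    exact hodd _ (K.pow_mem hx k) hk
  have h4 : ∀ x : K, x ≠ 1 → x ^ 4 ≠ 1 := by
    intro x hx1 e
    apply hx1
    apply Subtype.ext
    exact eq_one_of_pow4 hodd x.2 (by simpa using congrArg Subtype.val e)
  have hone := one_class (X := K)
    (fun x hx w hw hw1 => (ccHypM K).ti x (h4 x hx) w hw hw1)
    (fun x hx b hb => by
      have h1 := hb x (self_mem_CC x)
      have hx4 := h4 x hx
      have hN := cc_ti_conj (ccHypM K) hx4 (self_mem_CC x) hx h1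
      have hb4 := pow4_of_norm (ccHypM K) hx4 hN
      have h2 : ((b * b) * (b * b) : K) ∈ CC x := by
        have e : (b * b) * (b * b) = b ^ 4 := by
          simp only [pow_succ, pow_zero, one_mul, mul_assoc]
        rw [e]
        exact hb4
      have hob : ∀ c : K, Odd (orderOf c) := by
        intro c
        have := hoddo c c.2
        rwa [Subgroup.orderOf_coe] at this
      exact mem_of_sq (hob b) (mem_of_sq (hob _) h2))
    (fun x hx => (class_data (ccHypM K) (h4 x hx)).1) ⟨x, hx⟩ (fun e => hx1 (congrArg Subtype.val e))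
  intro y hy
  have : (⟨y, hy⟩ : K) ∈ CC (⟨x, hx⟩ : K) := by
    rw [hone]
    trivial
  exact mem_CC_sub.mp this

/-- The normaliser conclusion for a normal subgroup of odd order. -/
theorem norm_of_normal_odd {M K : Subgroup (GG s F)} (hodd : ∀ y ∈ K, y * y = 1 → y = 1) {x : GG s F} (hx : x ∈ K) (hx1 : x ≠ 1)
    (hn : ∀ k ∈ M, ∀ y ∈ K, k * y * k⁻¹ ∈ K) :
    x ^ 4 ≠ 1 ∧ M ≤ Subgroup.normalizer ((CC x : Subgroup (GG s F)) : Set (GG s F)) := by
  have hx4 : x ^ 4 ≠ 1 := fun e => hx1 (eq_one_of_pow4 hodd hx e)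
  refine ⟨hx4, ?_⟩
  intro k hk
  exact cc_ti_conj ccHypG hx4 (self_mem_CC x) hx1 (odd_le_cc hodd hx hx1 (hn k hk x hx))

/-! ### A subgroup with a small centre -/

include h in
lemma unit_sq_one {l : Fˣ} (e : l * l = 1) : l = 1 := by
  apply Units.ext
  apply sq_inj (s := s)
  have := congrArg Units.val e
  simp only [Units.val_mul, Units.val_one] at this
  rw [pow_two, this]
  simp

lemma bor_pow4 {y : GG s F} (hy : y ∈ Bor s F) (h4 : y ^ 4 = 1) : y ∈ Uni s F := by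
  obtain ⟨a, b, l, rfl⟩ := stab1G (mem_Bor.mp hy)
  obtain ⟨x, y, e⟩ := uG_dG_mul (s := s) a b a b l l
  obtain ⟨x', y', e'⟩ := uG_dG_mul (s := s) x y x y (l * l) (l * l)
  have e1 : uG s x' y' * dG s (l * l * (l * l)) = uG s 0 0 * dG s 1 := by
    rw [← e', ← e, uG_zero, dG_one, one_mul, ← h4]
    simp only [pow_succ, pow_zero, one_mul, mul_assoc]
  obtain ⟨-, -, e4⟩ := uG_dG_inj e1
  have hl : l = 1 := unit_sq_one (s := s) (unit_sq_one (s := s) e4)
  subst hl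
  rw [dG_one, mul_one]
  exact ⟨a, b, rfl⟩

/-- The unipotent part acts freely on the other cosets. -/
theorem T_dvd (M : Subgroup (GG s F)) : Nat.card (TX M) ∣ (HX M).index - 1 := by
  apply free_index' (TX M) (HX M) (fun y hy => Uni_le_Bor hy)
  intro a ha k hk h
  by_contra ha1
  apply hk
  have ha' : (a : GG s F) ∈ Uni s F := ha
  have ha1' : (a : GG s F) ≠ 1 := fun e => ha1 (Subtype.ext e)
  have h4 : (a : GG s F) ^ 4 = 1 := by
    obtain ⟨c, d, e⟩ := ha'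
    rw [e, uG_pow4]
  have h' : (k : GG s F)⁻¹ * a * k ∈ Bor s F := h
  have h1 : (k : GG s F)⁻¹ * a * k ∈ Uni s F := by
    apply bor_pow4 h'
    have e : (k : GG s F)⁻¹ * a * k = (k : GG s F)⁻¹ * a * ((k : GG s F)⁻¹)⁻¹ := by simp
    rw [e, conj_pow, h4]
    group
  have h2 : (k : GG s F)⁻¹ ∈ Bor s F := by
    apply uni_ti ha' ha1'
    simpa using h1
  show (k : GG s F) ∈ Bor s F
  simpa using (Bor s F).inv_mem h2

lemma index_ge_two {M : Subgroup (GG s F)} (hnb : ¬ M ≤ Bor s F) : 2 ≤ (HX M).index := by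
  have hne1 : (HX M).index ≠ 1 := by
    intro he
    rw [Subgroup.index_eq_one] at he
    apply hnb
    intro y hy
    have : (⟨y, hy⟩ : M) ∈ HX M := by rw [he]; trivial
    exact this
  have hpos : 0 < (HX M).index := Nat.pos_of_ne_zero Subgroup.FiniteIndex.index_ne_zero
  omega

lemma two_dvd_T {M : Subgroup (GG s F)} {b : F} (hb0 : b ≠ 0) (hb : uG s 0 b ∈ M) : 2 ∣ Nat.card (TX M) := by
  have hne : uG s 0 b ≠ 1 := fun he => hb0 (uG_inj (he.trans uG_zero.symm)).2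
  have hm : (⟨uG s 0 b, hb⟩ : M) ∈ TX M := ZcS_le_Uni ⟨b, rfl⟩
  have ho : orderOf (⟨⟨uG s 0 b, hb⟩, hm⟩ : TX M) = 2 := by
    apply orderOf_eq_prime
    · apply Subtype.ext
      apply Subtype.ext
      show uG s 0 b ^ 2 = 1
      rw [pow_two, uG_zero_sq]
    · intro he
      exact hne (congrArg (fun z : TX M => ((z : M) : GG s F)) he)
  have := orderOf_dvd_natCard (⟨⟨uG s 0 b, hb⟩, hm⟩ : TX M)
  rwa [ho] at this

lemma T_isP {M : Subgroup (GG s F)} : IsPGroup 2 (TX M) := by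
  rintro ⟨⟨t, htM⟩, a, b, e⟩
  refine ⟨2, ?_⟩
  apply Subtype.ext
  apply Subtype.ext
  show t ^ 2 ^ 2 = 1
  change t = _ at e
  rw [e]
  exact uG_pow4 a b

lemma T_top {M : Subgroup (GG s F)} (hnb : ¬ M ≤ Bor s F) : TX M ≠ ⊤ := by
  intro hC
  apply hnb
  intro y hy
  have : (⟨y, hy⟩ : M) ∈ TX M := by rw [hC]; trivial
  exact Uni_le_Bor this

lemma lam_triv {M : Subgroup (GG s F)} (hL : Nat.card (Lam M) = 1) {l : Fˣ} (hl : l ∈ Lam M) : l = 1 := by
  obtain ⟨h1, -⟩ := Nat.card_eq_one_iff_unique.mp hL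
  have := h1.elim (⟨l, hl⟩ : Lam M) 1
  exact congrArg Subtype.val this

lemma T_eq_H {M : Subgroup (GG s F)} (hL : Nat.card (Lam M) = 1) : TX M = HX M := by
  apply le_antisymm (fun y hy => Uni_le_Bor hy)
  intro y hy
  obtain ⟨a, b', l, e⟩ := stab1G (mem_Bor.mp hy)
  have hl : l = 1 := lam_triv hL ⟨a, b', e ▸ y.2⟩
  subst hl
  rw [dG_one, mul_one] at e
  exact ⟨a, b', e⟩

theorem case_small {M : Subgroup (GG s F)} (hS : Std M) (hnb : ¬ M ≤ Bor s F) {b : F} (hb0 : b ≠ 0) (hb : uG s 0 b ∈ M)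
    (hL : Nat.card (Lam M) = 1) :
    ∃ x : GG s F, x ^ 4 ≠ 1 ∧ M ≤ Subgroup.normalizer ((CC x : Subgroup (GG s F)) : Set (GG s F)) := by
  have hD := sylData hS hb0 hb
  have hZ2 : Nat.card (ZX M) = 2 := by
    rw [← card_Lam hS hnb hb0 hb, hL]
  have hTH := T_eq_H hL
  have hT4 : Nat.card (TX M) ≤ 4 := by
    have := T_card_le M
    rw [hZ2] at this
    omega
  have hTp : IsPGroup 2 (TX M) := T_isP
  have hcomm : ∀ a b : TX M, a * b = b * a := comm_of_card_le hTp hT4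
  have h2T := two_dvd_T hb0 hb
  have hdvd := T_dvd M
  have hx2 := index_ge_two hnb
  have hodd : ¬ 2 ∣ (TX M).index := by
    rw [hTH]
    intro h2
    have h3 : 2 ∣ (HX M).index - 1 := h2T.trans hdvd
    omega
  obtain ⟨K, hKn, hneb, hKodd⟩ := burnside_abs (TX M) hTp hodd hcomm
    (by rw [hD.nT, hTH]) (T_top hnb)
  obtain ⟨x, hxK, hx1⟩ := (K.bot_or_exists_ne_one).resolve_left hneb
  have hoddK : ∀ y ∈ K.map M.subtype, y * y = 1 → y = 1 := by
    rintro _ ⟨y, hy, rfl⟩ h2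
    have h3 : y = 1 := hKodd y hy (Subtype.ext h2)
    subst h3
    exact M.subtype.map_one
  have hx1' : (x : GG s F) ≠ 1 := fun e => hx1 (Subtype.ext e)
  have hxm : (x : GG s F) ∈ K.map M.subtype := ⟨x, hxK, rfl⟩
  have hn : ∀ k ∈ M, ∀ y ∈ K.map M.subtype, k * y * k⁻¹ ∈ K.map M.subtype := by
    rintro k hk _ ⟨y, hy, rfl⟩
    have h3 : (⟨k, hk⟩ : M) * y * (⟨k, hk⟩ : M)⁻¹ ∈ K := hKn.conj_mem y hy (⟨k, hk⟩ : M)
    refine ⟨_, h3, ?_⟩
    simp only [map_mul, map_inv, Subgroup.coe_subtype]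
  obtain ⟨h1, h2⟩ := norm_of_normal_odd hoddK hxm hx1' hn
  exact ⟨x, h1, h2⟩

/-! ### Conjugation -/

lemma exists_std (M : Subgroup (GG s F)) : ∃ g : GG s F, Std (cj g M) := by
  haveI : Fact (Nat.Prime 2) := ⟨Nat.prime_two⟩
  obtain ⟨P⟩ : Nonempty (Sylow 2 M) := inferInstance
  have hmap : IsPGroup 2 ((P : Subgroup M).map M.subtype) := P.2.map _
  obtain ⟨Q, hQ⟩ := hmap.exists_le_sylow
  obtain ⟨g₀, hg₀⟩ := sylow_eq Q
  refine ⟨g₀⁻¹, ?_⟩
  intro y' hy' h4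
  rw [mem_cj] at hy'
  set y : M := ⟨(g₀⁻¹)⁻¹ * y' * g₀⁻¹, hy'⟩ with hy
  have hy4 : y ^ 4 = 1 := by
    apply Subtype.ext
    show ((g₀⁻¹)⁻¹ * y' * g₀⁻¹) ^ 4 = 1
    have e : (g₀⁻¹)⁻¹ * y' * g₀⁻¹ = g₀ * y' * g₀⁻¹ := by simp
    rw [e, conj_pow, h4]
    group
  have hp : IsPGroup 2 (Subgroup.zpowers y) := by
    have hd : orderOf y ∣ 2 ^ 4 := by
      apply orderOf_dvd_of_pow_eq_one
      rw [show 2 ^ 4 = 4 * 4 by norm_num, pow_mul, hy4, one_pow]
    obtain ⟨j, hj, e⟩ := (Nat.dvd_prime_pow Nat.prime_two).mp hd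
    exact IsPGroup.of_card (n := j) (by rw [Nat.card_zpowers, e])
  obtain ⟨R, hR⟩ := hp.exists_le_sylow
  obtain ⟨κ, hκ⟩ := MulAction.exists_smul_eq M P R
  have hyR : y ∈ R := hR (Subgroup.mem_zpowers y)
  have hyP : κ⁻¹ * y * κ ∈ (P : Subgroup M) := by
    rw [← hκ] at hyR
    have h1 : y ∈ ((κ • P : Sylow 2 M) : Subgroup M) := hyR
    rw [Sylow.coe_subgroup_smul] at h1
    obtain ⟨p, hp, e⟩ := (Subgroup.mem_smul_pointwise_iff_exists _ _ _).mp h1
    have e' : κ * p * κ⁻¹ = y := e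
    rw [← e']
    have : κ⁻¹ * (κ * p * κ⁻¹) * κ = p := by group
    rw [this]
    exact hp
  have hU : (κ : GG s F)⁻¹ * y * κ ∈ (Q : Subgroup (GG s F)) := hQ ⟨_, hyP, by simp⟩
  rw [hg₀, mem_cj] at hU
  refine ⟨g₀⁻¹ * κ * g₀, ?_, ?_⟩
  · rw [mem_cj]
    have : (g₀⁻¹)⁻¹ * (g₀⁻¹ * κ * g₀) * g₀⁻¹ = κ := by group
    rw [this]
    exact κ.2
  · have : (g₀⁻¹ * κ * g₀)⁻¹ * y' * (g₀⁻¹ * κ * g₀) = g₀⁻¹ * ((κ : GG s F)⁻¹ * y * κ) * g₀ := by
      simp only [hy]
      group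
    rw [this]
    exact hU

lemma std_cj {M : Subgroup (GG s F)} {b : GG s F} (hb : b ∈ Bor s F) (hS : Std M) : Std (cj b M) := by
  intro y' hy' h4
  rw [mem_cj] at hy'
  obtain ⟨k, hk, hU⟩ := hS _ hy' (by
    have e : b⁻¹ * y' * b = b⁻¹ * y' * (b⁻¹)⁻¹ := by simp
    rw [e, conj_pow, h4]
    group)
  refine ⟨b * k * b⁻¹, ?_, ?_⟩
  · rw [mem_cj]
    have : b⁻¹ * (b * k * b⁻¹) * b = k := by group
    rw [this]
    exact hk
  · have : (b * k * b⁻¹)⁻¹ * y' * (b * k * b⁻¹) = b * (k⁻¹ * (b⁻¹ * y' * b) * k) * b⁻¹ := by group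
    rw [this]
    exact conj_Uni hb hU

lemma cj_le_iff {g : GG s F} {M N : Subgroup (GG s F)} : cj g M ≤ N ↔ M ≤ cj g⁻¹ N := by
  constructor
  · intro h y hy
    rw [mem_cj]
    apply h
    rw [mem_cj]
    have e : g⁻¹ * ((g⁻¹)⁻¹ * y * g⁻¹) * g = y := by group
    rw [e]
    exact hy
  · intro h y hy
    rw [mem_cj] at hy
    have := h hy
    rw [mem_cj] at this
    have e : (g⁻¹)⁻¹ * (g⁻¹ * y * g) * g⁻¹ = y := by group
    rwa [e] at this

/-- Transport of the normaliser conclusion. -/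
lemma c2_cj {g : GG s F} {M : Subgroup (GG s F)} {x : GG s F} (hx : x ^ 4 ≠ 1)
    (h2 : cj g M ≤ Subgroup.normalizer ((CC x : Subgroup (GG s F)) : Set (GG s F))) :
    ∃ x' : GG s F, x' ^ 4 ≠ 1 ∧ M ≤ Subgroup.normalizer ((CC x' : Subgroup (GG s F)) : Set (GG s F)) := by
  have hx' : (g⁻¹ * x * g) ^ 4 ≠ 1 := by
    have e : g⁻¹ * x * g = g⁻¹ * x * (g⁻¹)⁻¹ := by simp
    rw [e, conj_pow]
    intro he
    apply hx
    have : x ^ 4 = g * (g⁻¹ * x ^ 4 * (g⁻¹)⁻¹) * g⁻¹ := by group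
    rw [this, he]
    group
  have hx1 : g⁻¹ * x * g ≠ 1 := by
    intro he
    apply hx'
    rw [he, one_pow]
  refine ⟨_, hx', ?_⟩
  intro k hk
  have h1 : g * k * g⁻¹ ∈ cj g M := by
    rw [mem_cj]
    have : g⁻¹ * (g * k * g⁻¹) * g = k := by group
    rw [this]
    exact hk
  have h3 := (Subgroup.mem_normalizer_iff.mp (h2 h1) x).mp (self_mem_CC x)
  apply cc_ti_conj ccHypG hx' (self_mem_CC _) hx1
  rw [mem_CC] at h3 ⊢
  have h4 : g * (k * (g⁻¹ * x * g) * k⁻¹) * g⁻¹ = g * k * g⁻¹ * x * (g * k * g⁻¹)⁻¹ := by group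
  have h5 : k * (g⁻¹ * x * g) * k⁻¹ = g⁻¹ * (g * k * g⁻¹ * x * (g * k * g⁻¹)⁻¹) * g := by
    rw [← h4]
    group
  rw [h5]
  calc g⁻¹ * (g * k * g⁻¹ * x * (g * k * g⁻¹)⁻¹) * g * (g⁻¹ * x * g) =
      g⁻¹ * ((g * k * g⁻¹ * x * (g * k * g⁻¹)⁻¹) * x) * g := by group
    _ = g⁻¹ * (x * (g * k * g⁻¹ * x * (g * k * g⁻¹)⁻¹)) * g := by rw [h3]
    _ = _ := by group

end sz

end Cfsg.Agent.SzSub
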