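import Mathlib
import Cfsg.Agent.Lib.Sz.SubB

/-!
Subgroups of the Suzuki groups: application of the counting theorem.  A subgroup of even order, not in a
point stabiliser, with a torus part of order at least three and containing its torus part, has a doubly
transitive action of the expected degree.
-/

set_option autoImplicit false
set_option linter.unusedSectionVars false
set_option linter.style.haveILetI false

namespace Cfsg.Agent.SzSub

open Cfsg.Agent.SzT Cfsg.Agent.S3391 Cfsg.Agent.S2238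

section sz
variable {F : Type*} [Field F] [Fintype F] {s : ℕ} [h : SzF F s]

lemma uG_eq_dG {a b : F} {t : Fˣ} (e : uG s a b = dG s t) : a = 0 ∧ b = 0 ∧ t = 1 := by
  have e1 : uG s a b * dG s 1 = uG s 0 0 * dG s t := by
    rw [dG_one, mul_one, uG_zero, one_mul, e]
  obtain ⟨h1, h2, h3⟩ := uG_dG_inj e1
  exact ⟨h1, h2, h3.symm⟩

lemma dG_ne_one {l : Fˣ} (hl : l ≠ 1) : dG s l ≠ 1 := fun e => hl (dG_inj (e.trans dG_one.symm))

lemma dG_pow4 {l : Fˣ} (hl : l ≠ 1) : dG s l ^ 4 ≠ 1 := by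
  intro he
  obtain ⟨a, b, e⟩ := bor_pow4 (dG_mem_Bor l) he
  exact hl (uG_eq_dG e.symm).2.2

/-- the elements of a coset of the unipotent part are conjugate -/
lemma conj_to_torus {M : Subgroup (GG s F)} {l : Fˣ} (hl : l ≠ 1) (hd : dG s l ∈ M) {A B : F} (hu : uG s A B ∈ M) :
    ∃ v ∈ M, v ∈ Uni s F ∧ v * dG s l * v⁻¹ = uG s A B * dG s l := by
  let φ : TX M → TX M := fun v =>
    ⟨⟨((v : M) : GG s F) * (dG s l * ((v : M) : GG s F)⁻¹ * (dG s l)⁻¹),
      M.mul_mem v.1.2 (M.mul_mem (M.mul_mem hd (M.inv_mem v.1.2)) (M.inv_mem hd))⟩,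
      (Uni s F).mul_mem v.2 (conj_Uni (dG_mem_Bor l) ((Uni s F).inv_mem v.2))⟩
  have hinj : Function.Injective φ := by
    intro v v' he
    have e0 : ((v : M) : GG s F) * (dG s l * ((v : M) : GG s F)⁻¹ * (dG s l)⁻¹) =
        ((v' : M) : GG s F) * (dG s l * ((v' : M) : GG s F)⁻¹ * (dG s l)⁻¹) :=
      congrArg (fun z : TX M => ((z : M) : GG s F)) he
    set x := ((v : M) : GG s F) with hx
    set y := ((v' : M) : GG s F) with hy
    have e1 : x * dG s l * x⁻¹ = y * dG s l * y⁻¹ := by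
      have e2 : x * dG s l * x⁻¹ = x * (dG s l * x⁻¹ * (dG s l)⁻¹) * dG s l := by group
      have e3 : y * dG s l * y⁻¹ = y * (dG s l * y⁻¹ * (dG s l)⁻¹) * dG s l := by group
      rw [e2, e3, e0]
    have hc : (y⁻¹ * x) * dG s l = dG s l * (y⁻¹ * x) := by
      calc (y⁻¹ * x) * dG s l = y⁻¹ * (x * dG s l * x⁻¹) * x := by group
        _ = y⁻¹ * (y * dG s l * y⁻¹) * x := by rw [e1]
        _ = _ := by group
    obtain ⟨t, ht⟩ := cent_d hl hc
    have hU : y⁻¹ * x ∈ Uni s F := (Uni s F).mul_mem ((Uni s F).inv_mem v'.2) v.2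
    obtain ⟨a, b, e⟩ := hU
    rw [e] at ht
    obtain ⟨rfl, rfl, -⟩ := uG_eq_dG ht
    rw [uG_zero] at e
    have hxy : x = y := by
      rw [inv_mul_eq_one] at e
      exact e.symm
    exact Subtype.ext (Subtype.ext hxy)
  obtain ⟨v, hv⟩ := (Finite.injective_iff_surjective.mp hinj) ⟨⟨uG s A B, hu⟩, ⟨A, B, rfl⟩⟩
  have e : ((v : M) : GG s F) * (dG s l * ((v : M) : GG s F)⁻¹ * (dG s l)⁻¹) = uG s A B :=
    congrArg (fun z : TX M => ((z : M) : GG s F)) hv
  refine ⟨v, v.1.2, v.2, ?_⟩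
  rw [← e]
  group

variable {M : Subgroup (GG s F)} {l₀ : Fˣ} {z₀ : M}

lemma C_mem (hl₀ : l₀ ≠ 1) (hz : (z₀ : GG s F) = dG s l₀) (c : M) : c ∈ CC z₀ ↔ (c : GG s F) ∈ TorA s F := by
  rw [mem_CC_sub, hz, cc_dG hl₀]

lemma card_C (hd : ∀ l ∈ Lam M, dG s l ∈ M) (hl₀ : l₀ ≠ 1) (hz : (z₀ : GG s F) = dG s l₀) :
    Nat.card (CC z₀) = Nat.card (Lam M) := by
  symm
  let ψ : Lam M → CC z₀ := fun l =>
    ⟨⟨dG s (l : Fˣ), hd _ l.2⟩, (C_mem hl₀ hz _).mpr (dG_mem_TorA _)⟩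
  have hψ : Function.Bijective ψ := by
    constructor
    · intro l l' he
      have e : dG s (l : Fˣ) = dG s (l' : Fˣ) := congrArg (fun z : CC z₀ => ((z : M) : GG s F)) he
      exact Subtype.ext (dG_inj e)
    · rintro ⟨c, hc⟩
      obtain ⟨t, ht⟩ := mem_TorA.mp ((C_mem hl₀ hz _).mp hc)
      have hm : uG s 0 0 * dG s t ∈ M := by
        rw [uG_zero, one_mul, ht]
        exact c.2
      refine ⟨⟨t, 0, 0, hm⟩, ?_⟩
      apply Subtype.ext
      apply Subtype.ext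
      exact ht
  exact Nat.card_congr (Equiv.ofBijective ψ hψ)

lemma card_H (hd : ∀ l ∈ Lam M, dG s l ∈ M) (hl₀ : l₀ ≠ 1) (hz : (z₀ : GG s F) = dG s l₀) :
    Nat.card (HX M) = Nat.card (TX M) * Nat.card (CC z₀) := by
  rw [← Nat.card_prod]
  symm
  let φ : TX M × CC z₀ → HX M := fun p =>
    ⟨(p.1 : M) * (p.2 : M), (Bor s F).mul_mem (Uni_le_Bor p.1.2) (TorA_le_Bor ((C_mem hl₀ hz _).mp p.2.2))⟩
  have hφ : Function.Bijective φ := by
    constructor
    · rintro ⟨t, c⟩ ⟨t', c'⟩ he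
      have e : ((t : M) : GG s F) * ((c : M) : GG s F) = ((t' : M) : GG s F) * ((c' : M) : GG s F) :=
        congrArg (fun z : HX M => ((z : M) : GG s F)) he
      have hU : ((t' : M) : GG s F)⁻¹ * ((t : M) : GG s F) ∈ Uni s F := (Uni s F).mul_mem ((Uni s F).inv_mem t'.2) t.2
      have hT : ((c' : M) : GG s F) * ((c : M) : GG s F)⁻¹ ∈ TorA s F :=
        (TorA s F).mul_mem ((C_mem hl₀ hz _).mp c'.2) ((TorA s F).inv_mem ((C_mem hl₀ hz _).mp c.2))
      have e2 : ((t' : M) : GG s F)⁻¹ * ((t : M) : GG s F) = ((c' : M) : GG s F) * ((c : M) : GG s F)⁻¹ := by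
        calc ((t' : M) : GG s F)⁻¹ * ((t : M) : GG s F) =
            ((t' : M) : GG s F)⁻¹ * (((t : M) : GG s F) * ((c : M) : GG s F)) * ((c : M) : GG s F)⁻¹ := by group
          _ = ((t' : M) : GG s F)⁻¹ * (((t' : M) : GG s F) * ((c' : M) : GG s F)) * ((c : M) : GG s F)⁻¹ := by rw [e]
          _ = _ := by group
      obtain ⟨a, b, e3⟩ := hU
      obtain ⟨r, e4⟩ := mem_TorA.mp hT
      rw [e3, ← e4] at e2
      obtain ⟨rfl, rfl, rfl⟩ := uG_eq_dG e2
      rw [uG_zero] at e3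
      rw [dG_one] at e4
      have h1 : ((t : M) : GG s F) = ((t' : M) : GG s F) := by
        rw [inv_mul_eq_one] at e3
        exact e3.symm
      have h2 : ((c : M) : GG s F) = ((c' : M) : GG s F) := by
        have := e4.symm
        rw [mul_inv_eq_one] at this
        exact this.symm
      exact Prod.ext (Subtype.ext (Subtype.ext h1)) (Subtype.ext (Subtype.ext h2))
    · rintro ⟨y, hy⟩
      obtain ⟨a, b, l, e⟩ := stab1G (mem_Bor.mp hy)
      change (y : GG s F) = _ at e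
      have hl : l ∈ Lam M := ⟨a, b, e ▸ y.2⟩
      have hdl := hd l hl
      have hu : uG s a b ∈ M := by
        have : uG s a b = (y : GG s F) * (dG s l)⁻¹ := by
          rw [e]
          group
        rw [this]
        exact M.mul_mem y.2 (M.inv_mem hdl)
      refine ⟨(⟨⟨uG s a b, hu⟩, ⟨a, b, rfl⟩⟩, ⟨⟨dG s l, hdl⟩, (C_mem hl₀ hz _).mpr (dG_mem_TorA l)⟩), ?_⟩
      apply Subtype.ext
      apply Subtype.ext
      exact e.symm
  exact Nat.card_congr (Equiv.ofBijective φ hφ)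

lemma C2_dvd (hl₀ : l₀ ≠ 1) (hz : (z₀ : GG s F) = dG s l₀) :
    Nat.card (Subgroup.normalizer ((CC z₀ : Subgroup M) : Set M)) ∣ 2 * Nat.card (CC z₀) := by
  refine card_dvd_quot M.subtype _ (TorA s F) Subgroup.le_normalizer
    (fun n hn a ha => (Subgroup.mem_normalizer_iff.mp hn a).mp ha) _ _ ?_ ?_ Subgroup.le_normalizer norm_TorA_card
  · intro y hy
    have h1 := (Subgroup.mem_normalizer_iff.mp hy z₀).mp (self_mem_CC z₀)
    have h2 := (C_mem hl₀ hz _).mp h1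
    have h3 : (y : GG s F) * dG s l₀ * (y : GG s F)⁻¹ ∈ CC (dG s l₀) := by
      rw [cc_dG hl₀, ← hz]
      exact h2
    have h4 := cc_ti_conj ccHypG (dG_pow4 hl₀) (self_mem_CC _) (dG_ne_one hl₀) h3
    rw [cc_dG hl₀] at h4
    exact h4
  · intro y _
    exact C_mem hl₀ hz y

lemma free_C (hd : ∀ l ∈ Lam M, dG s l ∈ M) (hl₀ : l₀ ≠ 1) (hz : (z₀ : GG s F) = dG s l₀) :
    ∀ z : M, z ^ 4 ≠ 1 → z ∉ TT (CC z₀) → Nat.card (CC z) ∣ (HX M).index := by
  intro z hz4 hzn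
  have hX := ccHypM M
  have hz₀4 : z₀ ^ 4 ≠ 1 := by
    intro he
    apply dG_pow4 (s := s) hl₀
    rw [← hz]
    exact congrArg Subtype.val he
  apply free_index (CC z) (HX M)
  intro a ha k hk
  by_contra ha1
  have hodd := hX.odd z hz4 a ha
  have hh : ((k⁻¹ * a * k : M) : GG s F) ∈ Bor s F := hk
  obtain ⟨A, B, l, e⟩ := stab1G (mem_Bor.mp hh)
  have hl : l ≠ 1 := by
    rintro rfl
    rw [dG_one, mul_one] at e
    apply pow4_ne_of_odd hodd ha1
    have e2 : (k⁻¹ * a * k) ^ 4 = 1 := by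
      apply Subtype.ext
      show ((k⁻¹ * a * k : M) : GG s F) ^ 4 = 1
      rw [e, uG_pow4]
    have e3 : k⁻¹ * a * k = k⁻¹ * a * k⁻¹⁻¹ := by simp
    rw [e3, conj_pow] at e2
    have e4 : a ^ 4 = k * (k⁻¹ * a ^ 4 * k⁻¹⁻¹) * k⁻¹ := by group
    rw [e4, e2]
    group
  have hlL : l ∈ Lam M := ⟨A, B, e ▸ (k⁻¹ * a * k).2⟩
  have hdl := hd l hlL
  have huM : uG s A B ∈ M := by
    have : uG s A B = ((k⁻¹ * a * k : M) : GG s F) * (dG s l)⁻¹ := by
      rw [e]
      group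
    rw [this]
    exact M.mul_mem (k⁻¹ * a * k).2 (M.inv_mem hdl)
  obtain ⟨v, hvM, -, hv⟩ := conj_to_torus hl hdl huM
  set κ : M := k * ⟨v, hvM⟩ with hκ
  set d : M := ⟨dG s l, hdl⟩ with hdd
  have hae : a = κ * d * κ⁻¹ := by
    apply Subtype.ext
    have e5 : (a : GG s F) = (k : GG s F) * ((k⁻¹ * a * k : M) : GG s F) * (k : GG s F)⁻¹ := by
      push_cast
      group
    rw [e5, e, ← hv]
    show _ = (k : GG s F) * v * dG s l * ((k : GG s F) * v)⁻¹
    group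
  have hdC : d ∈ CC z₀ := (C_mem hl₀ hz _).mpr (dG_mem_TorA l)
  have hd1 : d ≠ 1 := fun he => dG_ne_one (s := s) hl (congrArg Subtype.val he)
  have hza : z ∈ CC a := by
    rw [mem_CC]
    exact (mem_CC.mp ha).symm
  rw [hae, cc_conjX, hX.ti z₀ hz₀4 d hdC hd1] at hza
  apply hzn
  refine ⟨κ, κ⁻¹ * z * κ, hza, ?_, by group⟩
  intro he
  apply hz4
  have : z = κ * (κ⁻¹ * z * κ) * κ⁻¹ := by group
  rw [this, he]
  simp

/-- Application of the counting theorem. -/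
theorem stage2 (hS : Std M) (hnb : ¬ M ≤ Bor s F) {b : F} (hb0 : b ≠ 0) (hb : uG s 0 b ∈ M)
    (hd : ∀ l ∈ Lam M, dG s l ∈ M) (hl₀ : l₀ ≠ 1) (hl₀L : l₀ ∈ Lam M) :
    (HX M).index = 1 + Nat.card (TX M) ∧ ∃ v ∈ M, v • pI F = p00 s F ∧ v • p00 s F = pI F := by
  have hD := sylData hS hb0 hb
  set z : M := ⟨dG s l₀, hd _ hl₀L⟩ with hzd
  have hz : (z : GG s F) = dG s l₀ := rfl
  have hz₀4 : z ^ 4 ≠ 1 := by
    intro he
    apply dG_pow4 (s := s) hl₀
    exact congrArg Subtype.val he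
  have hcC := card_C hd hl₀ hz
  have hZc : Nat.card (ZX M) = Nat.card (CC z) + 1 := by
    rw [hcC, card_Lam hS hnb hb0 hb]
  obtain ⟨hx, hN⟩ := count_main (ccHypM M) hD hz₀4 hZc (card_H hd hl₀ hz) (C2_dvd hl₀ hz) (free_C hd hl₀ hz)
    (T_dvd M) (index_ge_two hnb) (T_card_le M)
  refine ⟨hx, ?_⟩
  haveI : Fact (Nat.Prime 2) := ⟨Nat.prime_two⟩
  obtain ⟨v, hv⟩ := exists_prime_orderOf_dvd_card' 2 (by rw [hN]; exact dvd_mul_right _ _ :
    2 ∣ Nat.card (Subgroup.normalizer ((CC z : Subgroup M) : Set M)))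
  have hvo : orderOf ((v : M) : GG s F) = 2 := by
    rw [Subgroup.orderOf_coe, Subgroup.orderOf_coe]
    exact hv
  have h1 := (Subgroup.mem_normalizer_iff.mp v.2 z).mp (self_mem_CC z)
  obtain ⟨t, ht⟩ := mem_TorA.mp ((C_mem hl₀ hz _).mp h1)
  have ht' : ((v : M) : GG s F) * dG s l₀ * ((v : M) : GG s F)⁻¹ = dG s t := by
    rw [ht]
    rfl
  rcases norm_pts hl₀ ht' with ⟨e1, e2⟩ | ⟨e1, e2⟩
  · exfalso
    have hT := mem_Tor_of_fix e1 e2
    have hvC : (v : M) ∈ CC z := (C_mem hl₀ hz _).mpr hT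
    have := (ccHypM M).odd z hz₀4 _ hvC
    rw [← Subgroup.orderOf_coe, hvo] at this
    exact absurd this (by decide)
  · exact ⟨v, (v : M).2, e1, e2⟩

/-- The orbit of the point at infinity. -/
lemma omega_of_index {v : GG s F} (hvM : v ∈ M) (hv : v • pI F = p00 s F)
    (hx : (HX M).index = 1 + Nat.card (TX M)) :
    ∀ k ∈ M, k • pI F = pI F ∨ ∃ a b, uG s a b ∈ M ∧ k • pI F = pP s a b := by
  classical
  have hst : MulAction.stabilizer M (pI F) = HX M := by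
    ext y
    rw [MulAction.mem_stabilizer_iff]
    exact Iff.rfl
  have hc : (MulAction.orbit M (pI F)).ncard = (HX M).index := by
    rw [← hst, MulAction.index_stabilizer]
  have hval : ∀ t : TX M, ∃ a b, uG s a b ∈ M ∧ ((t : M) : GG s F) • p00 s F = pP s a b := by
    rintro ⟨⟨t, htM⟩, a, b, e⟩
    change t = _ at e
    subst e
    exact ⟨a, b, htM, uG_smul_p00 a b⟩
  let f : TX M → P3 F := fun t => ((t : M) : GG s F) • p00 s F
  have hf : Function.Injective f := by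
    rintro ⟨⟨t, htM⟩, a, b, e⟩ ⟨⟨t', htM'⟩, a', b', e'⟩ he
    change t = _ at e
    change t' = _ at e'
    subst e
    subst e'
    have e1 : uG s a b • p00 s F = uG s a' b' • p00 s F := he
    rw [uG_smul_p00, uG_smul_p00] at e1
    obtain ⟨rfl, rfl⟩ := pP_inj e1
    rfl
  have hfin : (MulAction.orbit M (pI F)).Finite := Set.finite_range _
  have hsub : insert (pI F) (Set.range f) ⊆ MulAction.orbit M (pI F) := by
    rintro p (rfl | ⟨t, rfl⟩)
    · exact ⟨1, one_smul _ _⟩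
    · refine ⟨(t : M) * ⟨v, hvM⟩, ?_⟩
      show (((t : M) : GG s F) * v) • pI F = _
      rw [mul_smul, hv]
  have hcard : (insert (pI F) (Set.range f)).ncard = 1 + Nat.card (TX M) := by
    have hnot : pI F ∉ Set.range f := by
      rintro ⟨t, ht⟩
      obtain ⟨a, b, -, e⟩ := hval t
      have : f t = pP s a b := e
      rw [this] at ht
      exact pP_ne_pI _ _ ht
    have hfin2 : (Set.range f).Finite := Set.finite_range _
    rw [Set.ncard_insert_of_notMem hnot hfin2, ← Set.image_univ, Set.ncard_image_of_injective _ hf, Set.ncard_univ]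
    ring
  have heq := Set.eq_of_subset_of_ncard_le hsub (by rw [hcard, hc, hx]) hfin
  intro k hk
  have hmem : k • pI F ∈ MulAction.orbit M (pI F) := ⟨⟨k, hk⟩, rfl⟩
  rw [← heq] at hmem
  rcases hmem with e | ⟨t, ht⟩
  · exact Or.inl e
  · right
    obtain ⟨a, b, hab, e⟩ := hval t
    refine ⟨a, b, hab, ?_⟩
    rw [← ht]
    exact e

end sz

end Cfsg.Agent.SzSub
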