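import Mathlib
import Cfsg.Prelude.Def_LieExceptional
import Cfsg.Agent.Lib.Sz.Syl2
import Cfsg.Agent.Lib.Sz.Cent
import Cfsg.Agent.Lib.Sz.Coset

/-!
Subfield subgroups of the Suzuki groups: the embedding attached to a field embedding, and the
characterisation of its image as the stabiliser of the orbit of the point at infinity.
-/

set_option autoImplicit false
set_option linter.unusedSectionVars false
set_option linter.style.haveILetI false

namespace Cfsg.Agent.SzT

open Matrix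
open scoped Pointwise LinearAlgebra.Projectivization

section sub
variable {F K : Type*} [Field F] [Fintype F] [Field K] [Fintype K] {s t : ℕ} [hF : SzF F s] [hK : SzF K t]

/-- Compatibility of a field embedding with the two power maps. -/
def Compat (s t : ℕ) (ι : K →+* F) : Prop := ∀ x : K, (ι x) ^ s = ι (x ^ t)

/-- The map on `SL₄`. -/
def mapSL (ι : K →+* F) : SL4 K →* SL4 F := Matrix.SpecialLinearGroup.map ι

variable {ι : K →+* F} (hι : Compat s t ι)

include hι in
lemma iota_ff (x y : K) : ι (ff t x y) = ff s (ι x) (ι y) := by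
  simp only [ff, map_add, map_mul, map_pow, ← hι x, ← hι y]

include hι in
lemma map_uS (a b : K) : mapSL ι (uS t a b) = uS s (ι a) (ι b) := by
  apply Subtype.ext
  show (ι.mapMatrix (uM t a b)) = uM s (ι a) (ι b)
  have h1 := hι a
  ext i j
  fin_cases i <;> fin_cases j <;> simp [uM, iota_ff hι, h1]

include hι in
lemma map_dS (l : Kˣ) : mapSL ι (dS t l) = dS s (Units.map (ι : K →* F) l) := by
  apply Subtype.ext
  show (ι.mapMatrix (dM t (l : K))) = dM s (ι l)
  have h1 := hι (l : K)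
  ext i j
  fin_cases i <;> fin_cases j <;> simp [dM, h1]

lemma map_wS : mapSL ι (wS K) = wS F := by
  apply Subtype.ext
  show (ι.mapMatrix (wM K)) = wM F
  ext i j
  fin_cases i <;> fin_cases j <;> simp [wM]

/-- Every element of the group has one of the two Bruhat forms. -/
lemma bruhat (g : GG t K) : (∃ (a b : K) (l : Kˣ), g = uG t a b * dG t l) ∨
    ∃ (a b c d : K) (l : Kˣ), g = uG t a b * wG t K * uG t c d * dG t l := by
  by_cases h : g • pI K = pI K
  · exact Or.inl (stab1G h)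
  · exact Or.inr (stab0G h)

include hι in
lemma map_mem (g : GG t K) : mapSL ι g.1 ∈ GG s F := by
  rcases bruhat g with ⟨a, b, l, rfl⟩ | ⟨a, b, c, d, l, rfl⟩
  · show mapSL ι (uS t a b * dS t l) ∈ GG s F
    rw [map_mul, map_uS hι, map_dS hι]
    exact mul_mem (uS_mem _ _) (dS_mem _)
  · show mapSL ι (uS t a b * wS K * uS t c d * dS t l) ∈ GG s F
    rw [map_mul, map_mul, map_mul, map_uS hι, map_uS hι, map_dS hι, map_wS]
    exact mul_mem (mul_mem (mul_mem (uS_mem _ _) wS_mem) (uS_mem _ _)) (dS_mem _)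

/-- The embedding of Suzuki groups. -/
def embG (hι : Compat s t ι) : GG t K →* GG s F :=
  ((mapSL ι).comp (GG t K).subtype).codRestrict (GG s F) (fun g => map_mem hι g)

lemma embG_uG (a b : K) : embG hι (uG t a b) = uG s (ι a) (ι b) :=
  Subtype.ext (map_uS hι a b)

lemma embG_dG (l : Kˣ) : embG hι (dG t l) = dG s (Units.map (ι : K →* F) l) :=
  Subtype.ext (map_dS hι l)

lemma embG_wG : embG hι (wG t K) = wG s F :=
  Subtype.ext map_wS

lemma embG_inj : Function.Injective (embG hι) := by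
  intro x y he
  apply Subtype.ext
  apply Subtype.ext
  have h1 : (mapSL ι x.1) = mapSL ι y.1 := congrArg Subtype.val he
  have h2 : ι.mapMatrix (x.1 : Matrix (Fin 4) (Fin 4) K) = ι.mapMatrix (y.1 : Matrix (Fin 4) (Fin 4) K) :=
    congrArg Subtype.val h1
  ext i j
  have := congrFun (congrFun h2 i) j
  exact ι.injective this

/-- The orbit of the point at infinity under a subgroup. -/
def orbI (S : Subgroup (GG s F)) : Set (P3 F) := {p | ∃ g ∈ S, g • pI F = p}

lemma pI_mem_orbI (S : Subgroup (GG s F)) : pI F ∈ orbI S := ⟨1, one_mem _, one_smul _ _⟩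

lemma orbI_smul {S : Subgroup (GG s F)} {g : GG s F} (hg : g ∈ S) {p : P3 F} (hp : p ∈ orbI S) :
    g • p ∈ orbI S := by
  obtain ⟨x, hx, rfl⟩ := hp
  exact ⟨g * x, mul_mem hg hx, mul_smul _ _ _⟩

lemma uG_mem_range (a b : K) : uG s (ι a) (ι b) ∈ (embG hι).range := ⟨uG t a b, embG_uG hι a b⟩

lemma wG_mem_range : wG s F ∈ (embG hι).range := ⟨wG t K, embG_wG hι⟩

lemma embG_orbit (g : GG t K) : (embG hι g) • pI F = pI F ∨
    ∃ a b : K, (embG hι g) • pI F = pP s (ι a) (ι b) := by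
  rcases bruhat g with ⟨a, b, l, rfl⟩ | ⟨a, b, c, d, l, rfl⟩
  · left
    rw [map_mul, embG_uG, embG_dG, mul_smul, dG_smul_pI, uG_smul_pI]
  · right
    refine ⟨a, b, ?_⟩
    rw [map_mul, map_mul, map_mul, embG_uG, embG_uG, embG_dG, embG_wG, mul_smul, dG_smul_pI, mul_smul,
      uG_smul_pI, mul_smul, wG_smul_pI, uG_smul_p00]

lemma orbI_range_iff {p : P3 F} : p ∈ orbI (embG hι).range ↔ p = pI F ∨ ∃ a b : K, p = pP s (ι a) (ι b) := by
  constructor
  · rintro ⟨_, ⟨g, rfl⟩, rfl⟩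
    rcases embG_orbit hι g with h1 | ⟨a, b, h1⟩
    · exact Or.inl h1
    · exact Or.inr ⟨a, b, h1⟩
  · rintro (rfl | ⟨a, b, rfl⟩)
    · exact pI_mem_orbI _
    · refine ⟨uG s (ι a) (ι b) * wG s F, mul_mem (uG_mem_range hι a b) (wG_mem_range hι), ?_⟩
      rw [mul_smul, wG_smul_pI, uG_smul_p00]

include hι in
/-- An element of the image when the scalar lies in the subfield. -/
lemma dG_mem_range {l : Fˣ} {c : K} (hc : (l : F) = ι c) : dG s l ∈ (embG hι).range := by
  have hc0 : c ≠ 0 := by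
    rintro rfl
    rw [map_zero] at hc
    exact l.ne_zero hc
  refine ⟨dG t (Units.mk0 c hc0), ?_⟩
  rw [embG_dG]
  congr 1
  ext
  simp [hc]

/-- The stabiliser of the orbit is the image. -/
theorem mem_range_of_stab {g : GG s F}
    (hg : ∀ p ∈ orbI (embG hι).range, g • p ∈ orbI (embG hι).range) : g ∈ (embG hι).range := by
  set S := (embG hι).range with hS
  obtain ⟨h₁, hh₁, e₁⟩ := hg _ (pI_mem_orbI S)
  set g₁ := h₁⁻¹ * g with hg₁
  have hg₁fix : g₁ • pI F = pI F := by
    rw [hg₁, mul_smul, ← e₁, inv_smul_smul]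
  have hg₁S : ∀ p ∈ orbI S, g₁ • p ∈ orbI S := by
    intro p hp
    rw [hg₁, mul_smul]
    exact orbI_smul (inv_mem hh₁) (hg p hp)
  have h0mem : p00 s F ∈ orbI S := (orbI_range_iff hι).mpr (Or.inr ⟨0, 0, by simp⟩)
  have hg₁0 : g₁ • p00 s F ≠ pI F := by
    intro he
    have h2 : g₁ • p00 s F = g₁ • pI F := by rw [he, hg₁fix]
    exact pP_ne_pI _ _ (smul_left_cancel g₁ h2)
  rcases (orbI_range_iff hι).mp (hg₁S _ h0mem) with h3 | ⟨a, b, h3⟩
  · exact absurd h3 hg₁0
  set u := uG s (ι a) (ι b) with hu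
  have huS : u ∈ S := uG_mem_range hι a b
  set g₂ := u⁻¹ * g₁ with hg₂
  have hg₂1 : g₂ • pI F = pI F := by
    rw [hg₂, mul_smul, hg₁fix, hu, uG_inv, uG_smul_pI]
  have hg₂2 : g₂ • p00 s F = p00 s F := by
    rw [hg₂, mul_smul, h3, ← uG_smul_p00, inv_smul_smul]
  have hg₂S : ∀ p ∈ orbI S, g₂ • p ∈ orbI S := by
    intro p hp
    rw [hg₂, mul_smul]
    exact orbI_smul (inv_mem huS) (hg₁S p hp)
  obtain ⟨l, hl⟩ := stab2G hg₂1 hg₂2
  have h4 : pP s (ι 1) (ι 0) ∈ orbI S := (orbI_range_iff hι).mpr (Or.inr ⟨1, 0, rfl⟩)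
  have h5 := hg₂S _ h4
  rw [hl, dG_smul_pP] at h5
  rcases (orbI_range_iff hι).mp h5 with h6 | ⟨c, d, h6⟩
  · exact absurd h6 (pP_ne_pI _ _)
  obtain ⟨e1, -⟩ := pP_inj h6
  rw [map_one, mul_one] at e1
  -- `l` lies in the subfield
  have e2 : ((l : F)) ^ 2 = ι (c ^ t) := by
    rw [← hF.sq, e1, hι c]
  obtain ⟨c', hc'⟩ := sq_surj (s := t) (c ^ t)
  have e3 : (l : F) = ι c' := by
    apply sq_inj (s := s)
    rw [e2, ← hc', map_pow]
  have hg₂m : g₂ ∈ S := by
    rw [hl]
    exact dG_mem_range hι e3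
  have hg₁m : g₁ ∈ S := by
    have : g₁ = u * g₂ := by rw [hg₂]; group
    rw [this]
    exact mul_mem huS hg₂m
  have : g = h₁ * g₁ := by rw [hg₁]; group
  rw [this]
  exact mul_mem hh₁ hg₁m

end sub

end Cfsg.Agent.SzT
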