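import Mathlib
import Cfsg.Prelude.Def_LieExceptional
import Cfsg.Agent.Lib.Sz.Subfield
import Cfsg.Agent.Lib.Sz.Aut

/-!
Any injective homomorphism between Suzuki groups has image conjugate to the standard subfield subgroup.
-/

set_option autoImplicit false
set_option linter.unusedSectionVars false
set_option linter.style.haveILetI false

namespace Cfsg.Agent.SzT

open Matrix Polynomial
open scoped Pointwise LinearAlgebra.Projectivization

lemma mem_range_of_pow_card_hom {F K : Type*} [Field F] [Fintype F] [Field K] [Fintype K] (ι : K →+* F) {y : F}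
    (hy : y ^ Fintype.card K = y) : ∃ x, ι x = y := by
  classical
  set r := Fintype.card K with hr
  have h1 : 1 < r := Fintype.one_lt_card
  set P : F[X] := X ^ r - X with hP
  have hP0 : P ≠ 0 := FiniteField.X_pow_card_sub_X_ne_zero F h1
  have hdeg : P.natDegree = r := FiniteField.X_pow_card_sub_X_natDegree_eq F h1
  have hcard : (Finset.univ.image ι).card = r := by
    rw [Finset.card_image_of_injective _ ι.injective, Finset.card_univ]
  have hsub : Finset.univ.image ι ⊆ P.roots.toFinset := by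
    intro z hz
    obtain ⟨x, -, rfl⟩ := Finset.mem_image.mp hz
    rw [Multiset.mem_toFinset, Polynomial.mem_roots hP0]
    simp only [IsRoot.def, hP, eval_sub, eval_pow, eval_X]
    rw [← map_pow, hr, FiniteField.pow_card, sub_self]
  have hle : P.roots.toFinset.card ≤ r :=
    (Multiset.toFinset_card_le _).trans ((Polynomial.card_roots' P).trans_eq hdeg)
  have he := Finset.eq_of_subset_of_card_le hsub (by omega)
  have hmem : y ∈ P.roots.toFinset := by
    rw [Multiset.mem_toFinset, Polynomial.mem_roots hP0]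
    simp only [IsRoot.def, hP, eval_sub, eval_pow, eval_X, hy, sub_self]
  rw [← he] at hmem
  obtain ⟨x, -, hx⟩ := Finset.mem_image.mp hmem
  exact ⟨x, hx⟩

section sub
variable {F K : Type*} [Field F] [Fintype F] [Field K] [Fintype K] {s t : ℕ} [hF : SzF F s] [hK : SzF K t]

/-- `ψ` takes the unipotent and diagonal elements to elements of the same shape. -/
structure StdHom (ψ : GG t K →* GG s F) : Prop where
  uni : ∀ a b : K, ∃ x y : F, ψ (uG t a b) = uG s x y
  tor : ∀ l : Kˣ, ∃ e : Fˣ, ψ (dG t l) = dG s e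
  one : ∃ y : F, ψ (uG t 1 0) = uG s 1 y

variable {ι : K →+* F} (hι : Compat s t ι)

omit hK in
lemma fix_dG' {e : Fˣ} (he : e ≠ 1) {p : P3 F} (hp : p ∈ Ov s F) (hf : dG s e • p = p) :
    p = pI F ∨ p = p00 s F := by
  rcases hp with rfl | ⟨x, y, rfl⟩
  · exact Or.inl rfl
  right
  rw [dG_smul_pP] at hf
  obtain ⟨e1, e2⟩ := pP_inj hf
  have h3 : (e : F) ^ s ≠ 1 := pow_s_ne_one he
  have h4 : (e : F) ^ s * e * e ≠ 1 := pow_s2_ne_one he
  have hx : x = 0 := by
    by_contra hx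
    apply h3
    exact mul_right_cancel₀ hx (by rw [one_mul]; exact e1)
  have hy : y = 0 := by
    by_contra hy
    apply h4
    exact mul_right_cancel₀ hy (by rw [one_mul]; exact e2)
  rw [hx, hy]

section core
variable {ψ : GG t K →* GG s F} (hinj : Function.Injective ψ) (hstd : StdHom ψ)

include hinj hstd hι in
theorem std_range_le : ψ.range ≤ (embG hι).range := by
  classical
  have h2F := two_eq_zero' (F := F) (s := s)
  have hsq : ∀ x : F, (x ^ s) ^ s = x ^ 2 := hF.sq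
  have hadd : ∀ x y : F, (x + y) ^ s = x ^ s + y ^ s := hF.add
  have h0s : (0 : F) ^ s = 0 := s_zero (F := F) (s := s)
  have h1s : (1 : F) ^ s = 1 := one_pow _
  choose A B hAB using hstd.uni
  choose τ hτ using hstd.tor
  obtain ⟨y1, hy1⟩ := hstd.one
  -- multiplication
  have hmul : ∀ a b c d : K, A (a + c) (b + d + a ^ t * c) = A a b + A c d ∧
      B (a + c) (b + d + a ^ t * c) = B a b + B c d + (A a b) ^ s * A c d := by
    intro a b c d
    have e : ψ (uG t a b * uG t c d) = ψ (uG t a b) * ψ (uG t c d) := map_mul _ _ _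
    rw [uG_mul, hAB, hAB, hAB, uG_mul] at e
    exact uG_inj e
  have hA0 : ∀ b : K, A 0 b = 0 := by
    intro b
    have e : ψ (uG t 0 b * uG t 0 b) = ψ (uG t 0 b) * ψ (uG t 0 b) := map_mul _ _ _
    rw [uG_zero_sq, map_one, hAB, uG_sq, ← uG_zero (s := s) (F := F)] at e
    have e2 := (uG_inj e).2
    have : (A 0 b) ^ s * A 0 b = 0 := e2.symm
    rcases mul_eq_zero.mp this with h | h
    · exact pow_eq_zero_iff (s_ne_zero (F := F) (s := s)) |>.mp h
    · exact h
  have hAa : ∀ a b : K, A a b = A a 0 := by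
    intro a b
    have e := (hmul a 0 0 b).1
    rw [add_zero, zero_add, mul_zero, add_zero, hA0, add_zero] at e
    exact e
  set α : K → F := fun a => A a 0 with hα
  set β : K → F := fun b => B 0 b with hβ
  set γ : K → F := fun a => B a 0 with hγ
  have hform : ∀ a b : K, ψ (uG t a b) = uG s (α a) (γ a + β b) := by
    intro a b
    have e : uG t a b = uG t a 0 * uG t 0 b := by
      rw [uG_mul, add_zero, zero_add, mul_zero, add_zero]
    rw [e, map_mul, hAB, hAB, hA0, uG_mul, add_zero, mul_zero, add_zero]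
  have hαadd : ∀ a c : K, α (a + c) = α a + α c := by
    intro a c
    have e := (hmul a 0 c 0).1
    rw [hAa] at e
    exact e
  have hB00 : B 0 0 = 0 := by
    have e3 : ψ (uG t 0 0) = 1 := by rw [uG_zero, map_one]
    rw [hAB, ← uG_zero (s := s) (F := F)] at e3
    exact (uG_inj e3).2
  have hβ0 : β 0 = 0 := hB00
  have hγ0 : γ 0 = 0 := hB00
  have hα0 : α 0 = 0 := hA0 0
  have hG1 : ∀ a c : K, γ (a + c) + β (a ^ t * c) = γ a + γ c + (α a) ^ s * α c := by
    intro a c
    have e : ψ (uG t a 0 * uG t c 0) = ψ (uG t a 0) * ψ (uG t c 0) := map_mul _ _ _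
    rw [uG_mul, hform, hform, hform, uG_mul] at e
    have e2 := (uG_inj e).2
    simp only [zero_add, hβ0, add_zero] at e2
    exact e2
  have hE : ∀ (l : Kˣ) (a b : K), uG s (α ((l : K) ^ t * a)) (γ ((l : K) ^ t * a) + β ((l : K) ^ t * l * l * b)) =
      uG s ((τ l : F) ^ s * α a) ((τ l : F) ^ s * τ l * τ l * (γ a + β b)) := by
    intro l a b
    have e : ψ (dG t l * uG t a b * (dG t l)⁻¹) = ψ (dG t l) * ψ (uG t a b) * (ψ (dG t l))⁻¹ := by
      rw [map_mul, map_mul, map_inv]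
    rw [dG_conj_uG, hform, hτ, hform, dG_conj_uG] at e
    exact e
  have hE1 : ∀ (l : Kˣ) (a : K), α ((l : K) ^ t * a) = (τ l : F) ^ s * α a :=
    fun l a => (uG_inj (hE l a 0)).1
  have hE2 : ∀ (l : Kˣ) (a : K), γ ((l : K) ^ t * a) = (τ l : F) ^ s * τ l * τ l * γ a := by
    intro l a
    have e := (uG_inj (hE l a 0)).2
    simpa only [mul_zero, hβ0, add_zero] using e
  have hS : ∀ a : K, β (a ^ t * a) = (α a) ^ s * α a := by
    intro a
    have e : ψ (uG t a 0 * uG t a 0) = ψ (uG t a 0) * ψ (uG t a 0) := map_mul _ _ _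
    rw [uG_sq, hform, hform, uG_sq, hα0, hγ0, zero_add] at e
    exact (uG_inj e).2
  have hα1 : α 1 = 1 := by
    have e := hform 1 0
    rw [hy1] at e
    exact (uG_inj e).1.symm
  -- the torus lies over the subfield
  have hτmul : ∀ l l' : Kˣ, τ (l * l') = τ l * τ l' := by
    intro l l'
    apply dG_inj (s := s)
    rw [← hτ, ← dG_mul, ← dG_mul, map_mul, hτ, hτ]
  have hτone : τ 1 = 1 := by
    apply dG_inj (s := s)
    rw [← hτ, dG_one, dG_one, map_one]
  have hτpow : ∀ (l : Kˣ) (n : ℕ), τ (l ^ n) = τ l ^ n := by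
    intro l n
    induction n with
    | zero => simpa using hτone
    | succ n ih => rw [pow_succ, pow_succ, hτmul, ih]
  have hτroot : ∀ l : Kˣ, (τ l : F) ^ Fintype.card K = τ l := by
    intro l
    have h1 : l ^ (Fintype.card K - 1) = 1 := by
      rw [← Fintype.card_units]
      exact pow_card_eq_one
    have h2 : τ l ^ (Fintype.card K - 1) = 1 := by
      rw [← hτpow, h1, hτone]
    have h3 : 1 ≤ Fintype.card K := Fintype.card_pos
    have h4 : Fintype.card K = (Fintype.card K - 1) + 1 := by omega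
    conv_lhs => rw [h4, pow_succ]
    have h5 : ((τ l : F)) ^ (Fintype.card K - 1) = 1 := by
      have := congrArg (Units.val) h2
      simpa using this
    rw [h5, one_mul]
  -- the subfield
  let R : F → Prop := fun y => ∃ c : K, ι c = y
  have Rτ : ∀ l : Kˣ, R (τ l) := fun l => mem_range_of_pow_card_hom ι (hτroot l)
  have Rmul : ∀ {x y : F}, R x → R y → R (x * y) := by
    rintro _ _ ⟨a, rfl⟩ ⟨b, rfl⟩
    exact ⟨a * b, map_mul _ _ _⟩
  have Radd : ∀ {x y : F}, R x → R y → R (x + y) := by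
    rintro _ _ ⟨a, rfl⟩ ⟨b, rfl⟩
    exact ⟨a + b, map_add _ _ _⟩
  have Rs : ∀ {x : F}, R x → R (x ^ s) := by
    rintro _ ⟨a, rfl⟩
    exact ⟨a ^ t, (hι a).symm⟩
  have hunit : ∀ x : K, x ≠ 0 → ∃ l : Kˣ, (l : K) ^ t = x := by
    intro x hx
    obtain ⟨y, hy⟩ := s_surj (s := t) x
    have hy0 : y ≠ 0 := by
      rintro rfl
      rw [s_zero (F := K) (s := t)] at hy
      exact hx hy.symm
    exact ⟨Units.mk0 y hy0, by simpa using hy⟩
  have Rα : ∀ x : K, R (α x) := by
    intro x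
    by_cases hx : x = 0
    · rw [hx, hα0]
      exact ⟨0, map_zero _⟩
    · obtain ⟨l, rfl⟩ := hunit x hx
      have e := hE1 l 1
      rw [mul_one, hα1, mul_one] at e
      rw [e]
      exact Rs (Rτ l)
  have Rβ : ∀ x : K, R (β x) := by
    intro x
    have e : (x ^ (t - 1)) ^ t * x ^ (t - 1) = x := by
      rw [← pow_succ]
      exact pow_s_add_one_surj (s := t) x
    rw [← e, hS]
    exact Rmul (Rs (Rα _)) (Rα _)
  have hγform : ∀ x : K, γ x = (α x) ^ s * α x * γ 1 := by
    intro x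
    by_cases hx : x = 0
    · rw [hx, hγ0, hα0, h0s]
      ring
    · obtain ⟨l, rfl⟩ := hunit x hx
      have e1 := hE1 l 1
      have e2 := hE2 l 1
      rw [mul_one] at e1 e2
      rw [hα1, mul_one] at e1
      rw [e1, e2, hsq]
      ring
  have hkey : ∀ c : K, ((α c) ^ s + α c) * γ 1 = α c + β c := by
    intro c
    have hG := hG1 1 c
    rw [one_pow, one_mul, hγform (1 + c), hγform c, hαadd, hα1, hadd, h1s] at hG
    linear_combination hG - (β c) * h2F
  have hαne : ∀ c : K, α c = 0 → c = 0 := by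
    intro c hc
    have e : ψ (uG t c 0 * uG t c 0) = ψ (uG t c 0) * ψ (uG t c 0) := map_mul _ _ _
    rw [hform c 0, hc, uG_zero_sq, uG_sq, ← map_one ψ] at e
    have e2 := hinj e
    rw [← uG_zero (s := t) (F := K)] at e2
    have e3 := (uG_inj e2).2
    rcases mul_eq_zero.mp e3 with h | h
    · exact pow_eq_zero_iff (s_ne_zero (F := K) (s := t)) |>.mp h
    · exact h
  obtain ⟨l₁, hl₁⟩ := exists_unit_ne_one (F := K) (s := t)
  have hc0 : α (l₁ : K) ≠ 0 := fun h => l₁.ne_zero (hαne _ h)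
  have hc1 : α (l₁ : K) ≠ 1 := by
    intro h
    have e := hαadd (l₁ : K) 1
    rw [h, hα1, add_self' (s := s)] at e
    have := hαne _ e
    apply hl₁
    ext
    exact eq_of_add_eq_zero' (s := t) this
  have hw : (α (l₁ : K)) ^ s + α (l₁ : K) ≠ 0 := by
    intro h
    rcases s_fix (s := s) (eq_of_add_eq_zero' (s := s) h) with h' | h'
    · exact hc0 h'
    · exact hc1 h'
  have Rc : R (γ 1) := by
    obtain ⟨u, hu⟩ := Radd (Rs (Rα l₁)) (Rα l₁)
    obtain ⟨v, hv⟩ := Radd (Rα l₁) (Rβ l₁)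
    refine ⟨v / u, ?_⟩
    rw [map_div₀, hu, hv, ← hkey, mul_div_cancel_left₀ _ hw]
  have Rγ : ∀ x : K, R (γ x) := by
    intro x
    rw [hγform]
    exact Rmul (Rmul (Rs (Rα x)) (Rα x)) Rc
  -- unipotent elements
  have hU : ∀ a b : K, ∃ a' b' : K, ψ (uG t a b) = uG s (ι a') (ι b') := by
    intro a b
    obtain ⟨a', ha'⟩ := Rα a
    obtain ⟨b', hb'⟩ := Radd (Rγ a) (Rβ b)
    exact ⟨a', b', by rw [hform, ha', hb']⟩
  choose f₁ f₂ hf using hU
  have hfs : Function.Surjective (fun p : K × K => (f₁ p.1 p.2, f₂ p.1 p.2)) := by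
    apply Finite.injective_iff_surjective.mp
    rintro ⟨a, b⟩ ⟨c, d⟩ he
    simp only [Prod.mk.injEq] at he
    have e : ψ (uG t a b) = ψ (uG t c d) := by rw [hf, hf, he.1, he.2]
    obtain ⟨e1, e2⟩ := uG_inj (hinj e)
    rw [e1, e2]
  -- the image of the involution
  set y := ψ (wG t K) with hy
  have hyy : y * y = 1 := by
    rw [hy, ← map_mul, wG_mul_self, map_one]
  have hτne : ∀ l : Kˣ, l ≠ 1 → τ l ≠ 1 := by
    intro l hl he
    apply hl
    have e : ψ (dG t l) = ψ 1 := by rw [hτ, he, dG_one, map_one]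
    have e2 := hinj e
    rw [← dG_one (s := t) (F := K)] at e2
    exact dG_inj e2
  have hinv1 : l₁⁻¹ ≠ 1 := by simpa using hl₁
  have hcnj : y * dG s (τ l₁) * y = dG s (τ l₁⁻¹) := by
    rw [← hτ, ← hτ, hy, ← map_mul, ← map_mul, wG_conj_dG]
  have hfixy : ∀ p ∈ Ov s F, dG s (τ l₁) • p = p → y • p = pI F ∨ y • p = p00 s F := by
    intro p hp hfp
    apply fix_dG' (hτne _ hinv1) (smul_mem_Ov' y hp)
    rw [← hcnj, mul_smul, mul_smul, smul_smul y y, hyy, one_smul, hfp]
  have hyI : y • pI F = p00 s F := by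
    rcases hfixy _ pI_mem (dG_smul_pI _) with h1 | h1
    · exfalso
      have h00 : dG s (τ l₁) • p00 s F = p00 s F := by
        rw [dG_smul_pP]
        simp
      rcases hfixy _ (pP_mem _ _) h00 with h2 | h2
      · rw [← h1] at h2
        exact pP_ne_pI _ _ (smul_left_cancel y h2)
      · obtain ⟨f, hf'⟩ := stab2G h1 h2
        have h3 : dG s (f * f) = 1 := by
          rw [← dG_mul, ← hf', hyy]
        rw [← dG_one (s := s) (F := F)] at h3
        have h4 := dG_inj h3
        have h5 : f = 1 := by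
          ext
          apply sq_inj (s := s)
          have := congrArg Units.val h4
          simp only [Units.val_mul, Units.val_one] at this
          rw [pow_two, this]
          simp
        have h6 : ψ (wG t K) = ψ 1 := by
          rw [← hy, hf', h5, dG_one, map_one]
        have h7 := hinj h6
        have h8 := wG_smul_pI (s := t) (F := K)
        rw [h7, one_smul] at h8
        exact pP_ne_pI _ _ h8.symm
    · exact h1
  -- the orbit
  have h1 : ∀ x : GG t K, ψ x • pI F ∈ orbI (embG hι).range := by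
    intro x
    rcases bruhat x with ⟨a, b, l, rfl⟩ | ⟨a, b, c, d, l, rfl⟩
    · rw [map_mul, hτ, mul_smul, dG_smul_pI, hAB, uG_smul_pI]
      exact pI_mem_orbI _
    · rw [map_mul, map_mul, map_mul, hτ, mul_smul, dG_smul_pI, mul_smul, hAB c d, uG_smul_pI, mul_smul, hyI,
        hf a b, uG_smul_p00]
      exact (orbI_range_iff hι).mpr (Or.inr ⟨_, _, rfl⟩)
  have h2 : ∀ p ∈ orbI (embG hι).range, ∃ x : GG t K, ψ x • pI F = p := by
    intro p hp
    rcases (orbI_range_iff hι).mp hp with rfl | ⟨a, b, rfl⟩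
    · exact ⟨1, by rw [map_one, one_smul]⟩
    · obtain ⟨⟨c, d⟩, hcd⟩ := hfs (a, b)
      simp only [Prod.mk.injEq] at hcd
      refine ⟨uG t c d * wG t K, ?_⟩
      rw [map_mul, mul_smul, hyI, hf c d, hcd.1, hcd.2, uG_smul_p00]
  rintro _ ⟨x, rfl⟩
  apply mem_range_of_stab hι
  intro p hp
  obtain ⟨x', rfl⟩ := h2 p hp
  rw [← mul_smul, ← map_mul]
  exact h1 _

include hinj hstd hι in
theorem std_range : ψ.range = (embG hι).range := by
  apply Subgroup.eq_of_le_of_card_ge (std_range_le hι hinj hstd)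
  rw [Nat.card_congr (MonoidHom.ofInjective hinj).toEquiv.symm,
    Nat.card_congr (MonoidHom.ofInjective (embG_inj hι)).toEquiv.symm]

end core

/-- Conjugating a homomorphism. -/
def cjH (g : GG s F) (ψ : GG t K →* GG s F) : GG t K →* GG s F := (MulAut.conj g).toMonoidHom.comp ψ

omit hF hK in
lemma cjH_apply (g : GG s F) (ψ : GG t K →* GG s F) (x : GG t K) : cjH g ψ x = g * ψ x * g⁻¹ := rfl

omit hF hK in
lemma cjH_inj (g : GG s F) {ψ : GG t K →* GG s F} (h : Function.Injective ψ) : Function.Injective (cjH g ψ) :=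
  (MulAut.conj g).injective.comp h

omit hF hK in
lemma cjH_cjH (g k : GG s F) (ψ : GG t K →* GG s F) : cjH g (cjH k ψ) = cjH (g * k) ψ := by
  ext x
  simp [cjH_apply, mul_assoc]

omit hF hK in
lemma cjH_range (g : GG s F) (ψ : GG t K →* GG s F) : (cjH g ψ).range = ψ.range.map (MulAut.conj g).toMonoidHom :=
  MonoidHom.range_comp _ _

lemma cj_step1 (ψ : GG t K →* GG s F) : ∃ g : GG s F, ∀ a b : K, ∃ x y : F, cjH g ψ (uG t a b) = uG s x y := by
  haveI : Fact (Nat.Prime 2) := ⟨Nat.prime_two⟩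
  have hp : IsPGroup 2 ((Uni t K).map ψ) := (isPGroup_Uni (s := t) (F := K)).map ψ
  obtain ⟨P, hP⟩ := hp.exists_le_sylow
  obtain ⟨g, hg⟩ := MulAction.exists_smul_eq (GG s F) (UniS s F) P
  refine ⟨g⁻¹, fun a b => ?_⟩
  have h1 : ψ (uG t a b) ∈ P := hP ⟨_, uG_mem_Uni a b, rfl⟩
  rw [← hg] at h1
  obtain ⟨u, hu, hue⟩ := h1
  obtain ⟨x, y, rfl⟩ := hu
  refine ⟨x, y, ?_⟩
  rw [cjH_apply, ← hue]
  show g⁻¹ * (g * uG s x y * g⁻¹) * g⁻¹⁻¹ = _
  group

lemma fix_of_uni {ψ : GG t K →* GG s F} (hinj : Function.Injective ψ)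
    (huni : ∀ a b : K, ∃ x y : F, ψ (uG t a b) = uG s x y) (l : Kˣ) : ψ (dG t l) • pI F = pI F := by
  by_contra hne
  set y := ψ (dG t l) with hy
  have hmem : y • pI F ∈ Ov s F := smul_mem_Ov' y pI_mem
  rcases hmem with h | ⟨X, Y, hXY⟩
  · exact hne h
  have hl : (l : K) ^ t * l * l * 1 ≠ 0 := by
    rw [mul_one]
    exact mul_ne_zero (mul_ne_zero (pow_ne_zero _ l.ne_zero) l.ne_zero) l.ne_zero
  have e := dG_conj_uG (s := t) l 0 1
  obtain ⟨a, b, hab⟩ := huni 0 1
  obtain ⟨a', b', hab'⟩ := huni ((l : K) ^ t * 0) ((l : K) ^ t * l * l * 1)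
  have e2 : y * uG s a b * y⁻¹ = uG s a' b' := by
    rw [← hab', ← e, map_mul, map_mul, map_inv, hab]
  have e3 : uG s a' b' • pP s X Y = pP s X Y := by
    rw [← e2, ← hXY, mul_smul, mul_smul, inv_smul_smul, ← mul_smul, mul_smul, uG_smul_pI]
  obtain ⟨rfl, rfl⟩ := uG_fix e3
  rw [uG_zero, ← map_one ψ] at hab'
  have e4 := hinj hab'
  rw [← uG_zero (s := t) (F := K)] at e4
  exact hl (uG_inj e4).2

/-- Diagonal form, after conjugating by a unipotent element. -/
lemma cj_step2 {ψ : GG t K →* GG s F} (hinj : Function.Injective ψ)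
    (huni : ∀ a b : K, ∃ x y : F, ψ (uG t a b) = uG s x y) :
    ∃ v : GG s F, (∀ a b : K, ∃ x y : F, cjH v ψ (uG t a b) = uG s x y) ∧
      ∀ l : Kˣ, ∃ e : Fˣ, cjH v ψ (dG t l) = dG s e := by
  classical
  obtain ⟨l₀, hl₀⟩ := IsCyclic.exists_generator (α := Kˣ)
  obtain ⟨a, b, e, hy₀⟩ := stab1G (fix_of_uni hinj huni l₀)
  have he : e ≠ 1 := by
    rintro rfl
    rw [dG_one, mul_one] at hy₀
    have h4 : ψ (dG t l₀ ^ 4) = 1 := by
      rw [map_pow, hy₀, uG_pow4]
    have h5 : dG t (l₀ ^ 4) = 1 := by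
      apply hinj
      rw [map_one, ← h4]
      congr 1
      show dHom t K (l₀ ^ 4) = (dHom t K l₀) ^ 4
      rw [map_pow]
    rw [← dG_one (s := t) (F := K)] at h5
    have h6 := dG_inj h5
    obtain ⟨l₁, hl₁⟩ := exists_unit_ne_one (F := K) (s := t)
    obtain ⟨n, hn⟩ := hl₀ l₁
    have h7 : l₁ ^ 4 = 1 := by
      rw [← hn]
      simp only
      rw [← zpow_natCast, ← _root_.zpow_mul, mul_comm, _root_.zpow_mul, zpow_natCast, h6, _root_.one_zpow]
    apply hl₁
    ext
    have h8 : (l₁ : K) ^ 4 = 1 := by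
      have := congrArg Units.val h7
      simpa using this
    have h9 : ((l₁ : K) ^ 2) ^ 2 = 1 ^ 2 := by
      rw [← pow_mul, h8, one_pow]
    have h10 : (l₁ : K) ^ 2 = 1 ^ 2 := by
      rw [sq_inj (s := t) h9, one_pow]
    exact sq_inj (s := t) h10
  obtain ⟨X, Y, hXY⟩ := exists_fix (s := s) a b he
  set v := uG s X Y with hv
  refine ⟨v⁻¹, ?_, ?_⟩
  · intro c d
    obtain ⟨x, y, hxy⟩ := huni c d
    have : cjH v⁻¹ ψ (uG t c d) ∈ Uni s F := by
      rw [cjH_apply, hxy]
      exact mul_mem (mul_mem (inv_mem (uG_mem_Uni _ _)) (uG_mem_Uni _ _)) (inv_mem (inv_mem (uG_mem_Uni _ _)))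
    exact this
  · have h1 : cjH v⁻¹ ψ (dG t l₀) • pI F = pI F := by
      rw [cjH_apply, mul_smul, mul_smul, inv_inv, hv, uG_smul_pI, fix_of_uni hinj huni, uG_inv, uG_smul_pI]
    have h2 : cjH v⁻¹ ψ (dG t l₀) • p00 s F = p00 s F := by
      rw [cjH_apply, mul_smul, mul_smul, inv_inv, hv, uG_smul_p00, hy₀, hXY, ← uG_smul_p00, inv_smul_smul]
    obtain ⟨e', he'⟩ := stab2G h1 h2
    have hm : cjH v⁻¹ ψ (dG t l₀) ∈ TorA s F := by
      rw [he']
      exact dG_mem_TorA _
    intro l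
    obtain ⟨n, hn⟩ := hl₀ l
    have h3 : dG t l = (dG t l₀) ^ n := by
      show dHom t K l = (dHom t K l₀) ^ n
      rw [← hn]
      simp only
      rw [map_zpow]
    have h4 : cjH v⁻¹ ψ (dG t l) ∈ TorA s F := by
      rw [h3, map_zpow]
      exact zpow_mem hm n
    obtain ⟨e'', he''⟩ := mem_TorA.mp h4
    exact ⟨e'', he''.symm⟩

/-- Normalising. -/
lemma cj_step3 {ψ : GG t K →* GG s F} (hinj : Function.Injective ψ)
    (huni : ∀ a b : K, ∃ x y : F, ψ (uG t a b) = uG s x y)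
    (htor : ∀ l : Kˣ, ∃ e : Fˣ, ψ (dG t l) = dG s e) : ∃ v : GG s F, StdHom (cjH v ψ) := by
  obtain ⟨x, y, hxy⟩ := huni 1 0
  have hx : x ≠ 0 := by
    rintro rfl
    have e : ψ (uG t 1 0 * uG t 1 0) = ψ (uG t 1 0) * ψ (uG t 1 0) := map_mul _ _ _
    rw [hxy, uG_zero_sq, uG_sq, ← map_one ψ] at e
    have e2 := hinj e
    rw [← uG_zero (s := t) (F := K)] at e2
    have e3 := (uG_inj e2).2
    simp at e3
  obtain ⟨c, hc⟩ := s_surj (s := s) x⁻¹
  have hc0 : c ≠ 0 := by
    rintro rfl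
    rw [s_zero (F := F) (s := s)] at hc
    exact inv_ne_zero hx hc.symm
  set e := Units.mk0 c hc0 with he
  refine ⟨dG s e, ?_, ?_, ?_⟩
  · intro a b
    obtain ⟨x', y', h'⟩ := huni a b
    rw [cjH_apply, h', dG_conj_uG]
    exact ⟨_, _, rfl⟩
  · intro l
    obtain ⟨f, hf⟩ := htor l
    refine ⟨e * f * e⁻¹, ?_⟩
    rw [cjH_apply, hf, dG_inv, dG_mul, dG_mul]
  · rw [cjH_apply, hxy, dG_conj_uG]
    have h1 : (e : F) ^ s * x = 1 := by
      simp only [he, Units.val_mk0]
      rw [hc]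
      exact inv_mul_cancel₀ hx
    rw [h1]
    exact ⟨_, rfl⟩

theorem exists_conj_std {ψ : GG t K →* GG s F} (hinj : Function.Injective ψ) : ∃ g : GG s F, StdHom (cjH g ψ) := by
  obtain ⟨g₁, h₁⟩ := cj_step1 ψ
  obtain ⟨g₂, h₂, h₂'⟩ := cj_step2 (cjH_inj g₁ hinj) h₁
  obtain ⟨g₃, h₃⟩ := cj_step3 (cjH_inj g₂ (cjH_inj g₁ hinj)) h₂ h₂'
  refine ⟨g₃ * (g₂ * g₁), ?_⟩
  rw [← cjH_cjH, ← cjH_cjH]
  exact h₃

/-- Every injective homomorphism has image conjugate to the standard one. -/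
theorem exists_conj_range (hι : Compat s t ι) {ψ : GG t K →* GG s F} (hinj : Function.Injective ψ) :
    ∃ g : GG s F, ψ.range.map (MulAut.conj g).toMonoidHom = (embG hι).range := by
  obtain ⟨g, hg⟩ := exists_conj_std hinj
  refine ⟨g, ?_⟩
  rw [← cjH_range]
  exact std_range hι (cjH_inj g hinj) hg

end sub

end Cfsg.Agent.SzT
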