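import Mathlib
import Cfsg.Agent.Lib.Sz.SubC
import Cfsg.Agent.S2239

/-!
Subgroups of the Suzuki groups: coordinates.  A subgroup containing the Weyl element, with the expected
orbit of the point at infinity, is the subgroup defined over a subfield.
-/

set_option autoImplicit false
set_option linter.unusedSectionVars false
set_option linter.style.haveILetI false

namespace Cfsg.Agent.SzSub

open Cfsg.Agent.SzT Cfsg.Agent.S3391 Cfsg.Agent.S2238 Cfsg.Agent.S2239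

section sz
variable {F : Type*} [Field F] [Fintype F] {s : ℕ} [h : SzF F s]

/-- The data after normalisation. -/
structure FData (M : Subgroup (GG s F)) : Prop where
  hw : wG s F ∈ M
  hd : ∀ l ∈ Lam M, dG s l ∈ M
  hO : ∀ k ∈ M, k • pI F = pI F ∨ ∃ a b, uG s a b ∈ M ∧ k • pI F = pP s a b

lemma entry00 (a' b' a b c d : F) (l : Fˣ)
    (e : wG s F * uG s a' b' * wG s F * uG s a b * wG s F = uG s c d * dG s l) : (l : F) ^ s * l = ff s a b := by
  have e0 := congrArg (matHom s F) e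
  simp only [map_mul] at e0
  have e1 := congrFun (congrFun e0 0) 0
  change (wM F * uM s a' b' * wM F * uM s a b * wM F) 0 0 = (uM s c d * dM s (l : F)) 0 0 at e1
  simp [wM, uM, dM, Matrix.mul_apply, Fin.sum_univ_four] at e1
  exact e1.symm

variable {M : Subgroup (GG s F)}

lemma swap_mem (hD : FData M) {a b : F} (hu : uG s a b ∈ M) (hf : ff s a b ≠ 0) :
    uG s (b / ff s a b) (a / ff s a b) ∈ M ∧ ∃ l ∈ Lam M, (l : F) ^ s * l = ff s a b := by
  set a' := b / ff s a b with ha'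
  set b' := a / ff s a b with hb'
  have hkM : wG s F * uG s a b * wG s F ∈ M := M.mul_mem (M.mul_mem hD.hw hu) hD.hw
  have hk : (wG s F * uG s a b * wG s F) • pI F = pP s a' b' := by
    rw [mul_smul, mul_smul, wG_smul_pI, uG_smul_p00, wG_smul_pP hf]
  have hu' : uG s a' b' ∈ M := by
    rcases hD.hO _ hkM with h1 | ⟨x, y, hxy, h1⟩
    · rw [hk] at h1
      exact absurd h1 (pP_ne_pI _ _)
    · rw [hk] at h1
      obtain ⟨rfl, rfl⟩ := pP_inj h1
      exact hxy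
  refine ⟨hu', ?_⟩
  have hhM : wG s F * (uG s a' b')⁻¹ * (wG s F * uG s a b * wG s F) ∈ M :=
    M.mul_mem (M.mul_mem hD.hw (M.inv_mem hu')) hkM
  have hfix : (wG s F * (uG s a' b')⁻¹ * (wG s F * uG s a b * wG s F)) • pI F = pI F := by
    rw [mul_smul, hk, mul_smul, ← uG_smul_p00, inv_smul_smul, wG_smul_p00]
  obtain ⟨c, d, l, e⟩ := stab1G hfix
  refine ⟨l, ⟨c, d, e ▸ hhM⟩, ?_⟩
  rw [uG_inv] at e
  apply entry00 a' (b' + a' ^ s * a') a b c d l
  rw [← e]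
  group

lemma mu_s (l : F) : (l ^ s * l * l) ^ s = (l ^ s * l) ^ 2 := by
  rw [mul_pow, mul_pow, h.sq]
  ring

include h in
lemma exists_r : ∃ r : ℕ, ∀ x : F, (x ^ 2) ^ r = x := by
  obtain ⟨t, ht⟩ := h.even
  have hc := h.card
  refine ⟨t * t, fun x => ?_⟩
  have e : 2 * (t * t) = Fintype.card F := by
    subst ht
    nlinarith
  rw [← pow_mul, e, FiniteField.pow_card]

lemma mu_mul_mem {l : Fˣ} {b : F} (hl : dG s l ∈ M) (hb : uG s 0 b ∈ M) : uG s 0 ((l : F) ^ s * l * l * b) ∈ M := by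
  have e := dG_conj_uG (s := s) l 0 b
  rw [mul_zero] at e
  rw [← e]
  exact M.mul_mem (M.mul_mem hl hb) (M.inv_mem hl)

lemma lam_of_dG {l : Fˣ} (hl : dG s l ∈ M) : l ∈ Lam M := ⟨0, 0, by rw [uG_zero, one_mul]; exact hl⟩

/-- Every non-zero central coordinate comes from the torus. -/
lemma fact_A (hD : FData M) {b : F} (hb0 : b ≠ 0) (hb : uG s 0 b ∈ M) : ∃ l ∈ Lam M, (l : F) ^ s * l * l = b := by
  have hff : ff s 0 b = b ^ s := by
    rw [ff_def, s_zero (F := F) (s := s)]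
    ring
  have hf : ff s 0 b ≠ 0 := by
    rw [hff]
    exact pow_ne_zero _ hb0
  obtain ⟨-, l, hl, e⟩ := swap_mem hD hb hf
  rw [hff] at e
  have e1 : (((l : F) ^ s * l * l)) = b ^ 2 := by
    apply s_inj (s := s)
    rw [mu_s, e, ← pow_mul, ← pow_mul, mul_comm]
  obtain ⟨r, hr⟩ := exists_r (F := F) (s := s)
  refine ⟨l ^ r, (Lam M).pow_mem hl r, ?_⟩
  rw [Units.val_pow_eq_pow_val]
  calc (((l : F) ^ r) ^ s * (l : F) ^ r * (l : F) ^ r) = (((l : F) ^ s * l * l)) ^ r := by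
        rw [mul_pow, mul_pow, ← pow_mul, ← pow_mul, mul_comm r s]
    _ = (b ^ 2) ^ r := by rw [e1]
    _ = b := hr b

lemma one_mem_B (hD : FData M) {b : F} (hb0 : b ≠ 0) (hb : uG s 0 b ∈ M) : uG s 0 1 ∈ M := by
  obtain ⟨l, hl, e⟩ := fact_A hD hb0 hb
  have h0 := M.inv_mem (hD.hd l hl)
  rw [dG_inv] at h0
  have h1 := mu_mul_mem h0 hb
  have hl0 : (l : F) ≠ 0 := l.ne_zero
  have hls : (l : F) ^ s ≠ 0 := pow_ne_zero _ hl0
  have e2 : ((l⁻¹ : Fˣ) : F) ^ s * (l⁻¹ : Fˣ) * (l⁻¹ : Fˣ) * b = 1 := by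
    rw [← e, Units.val_inv_eq_inv_val, inv_pow]
    field_simp
  rwa [e2] at h1

/-- The central coordinates form a subfield. -/
def EE (hD : FData M) {b : F} (hb0 : b ≠ 0) (hb : uG s 0 b ∈ M) : Subfield F where
  carrier := {x | uG s 0 x ∈ M}
  mul_mem' := by
    intro x y hx hy
    by_cases hx0 : x = 0
    · subst hx0
      simp only [Set.mem_setOf_eq, zero_mul]
      rw [uG_zero]
      exact M.one_mem
    · obtain ⟨l, hl, e⟩ := fact_A hD hx0 hx
      have := mu_mul_mem (hD.hd l hl) hy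
      rwa [e] at this
  one_mem' := one_mem_B hD hb0 hb
  add_mem' := by
    intro x y hx hy
    have := M.mul_mem hx hy
    rw [uG_mul, s_zero (F := F) (s := s)] at this
    simpa using this
  zero_mem' := by
    simp only [Set.mem_setOf_eq]
    rw [uG_zero]
    exact M.one_mem
  neg_mem' := by
    intro x hx
    simp only [Set.mem_setOf_eq]
    rw [neg_eq' (s := s)]
    exact hx
  inv_mem' := by
    intro x hx
    by_cases hx0 : x = 0
    · subst hx0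
      simp only [Set.mem_setOf_eq, inv_zero]
      rw [uG_zero]
      exact M.one_mem
    · obtain ⟨l, hl, e⟩ := fact_A hD hx0 hx
      have h0 := M.inv_mem (hD.hd l hl)
      rw [dG_inv] at h0
      have h1 := mu_mul_mem h0 (one_mem_B hD hb0 hb)
      have hl0 : (l : F) ≠ 0 := l.ne_zero
      have hls : (l : F) ^ s ≠ 0 := pow_ne_zero _ hl0
      have e2 : ((l⁻¹ : Fˣ) : F) ^ s * (l⁻¹ : Fˣ) * (l⁻¹ : Fˣ) * 1 = x⁻¹ := by
        rw [← e, Units.val_inv_eq_inv_val, inv_pow]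
        field_simp
      rwa [e2] at h1

variable (hD : FData M) {b₀ : F} (hb0 : b₀ ≠ 0) (hb : uG s 0 b₀ ∈ M)

lemma mem_EE {x : F} : x ∈ EE hD hb0 hb ↔ uG s 0 x ∈ M := Iff.rfl

lemma lam_to_E {l : Fˣ} (hl : l ∈ Lam M) : (l : F) ∈ EE hD hb0 hb := by
  set E := EE hD hb0 hb with hE
  have h1 : (l : F) ^ s * l * l ∈ E := by
    have := mu_mul_mem (hD.hd l hl) (one_mem_B hD hb0 hb)
    rwa [mul_one] at this
  have h2 : ((l : F) ^ s * l) ^ 2 ∈ E := by
    rw [← mu_s]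
    exact E.pow_mem h1 s
  obtain ⟨r, hr⟩ := exists_r (F := F) (s := s)
  have h3 : (l : F) ^ s * l ∈ E := by
    rw [← hr ((l : F) ^ s * l)]
    exact E.pow_mem h2 r
  have hl0 : (l : F) ≠ 0 := l.ne_zero
  have hls : (l : F) ^ s ≠ 0 := pow_ne_zero _ hl0
  have e : (l : F) = ((l : F) ^ s * l * l) * ((l : F) ^ s * l)⁻¹ := by
    field_simp
  rw [e]
  exact E.mul_mem h1 (E.inv_mem h3)

lemma E_to_lam {l : Fˣ} (hl : (l : F) ∈ EE hD hb0 hb) : l ∈ Lam M := by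
  set E := EE hD hb0 hb with hE
  have h1 : (l : F) ^ s * l * l ∈ E := E.mul_mem (E.mul_mem (E.pow_mem hl s) hl) hl
  have hl0 : (l : F) ≠ 0 := l.ne_zero
  have hne : (l : F) ^ s * l * l ≠ 0 := mul_ne_zero (mul_ne_zero (pow_ne_zero _ hl0) hl0) hl0
  obtain ⟨l', hl', e⟩ := fact_A hD hne h1
  rw [← mu_inj e]
  exact hl'

include hD hb0 hb in
lemma uG10 : uG s 1 0 ∈ M := by
  have h1 := one_mem_B hD hb0 hb
  have hff : ff s 0 (1 : F) = 1 := by
    rw [ff_def, s_zero (F := F) (s := s)]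
    simp
  have hf : ff s 0 (1 : F) ≠ 0 := by
    rw [hff]
    exact one_ne_zero
  have := (swap_mem hD h1 hf).1
  rw [hff] at this
  simpa using this

lemma uG_a0 {a : F} (ha : a ∈ EE hD hb0 hb) : uG s a 0 ∈ M := by
  set E := EE hD hb0 hb with hE
  by_cases ha0 : a = 0
  · subst ha0
    rw [uG_zero]
    exact M.one_mem
  obtain ⟨r, hr⟩ := exists_r (F := F) (s := s)
  have hmem : (a ^ s) ^ r ∈ E := E.pow_mem (E.pow_mem ha s) r
  have hne : (a ^ s) ^ r ≠ 0 := pow_ne_zero _ (pow_ne_zero _ ha0)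
  let l : Fˣ := Units.mk0 _ hne
  have hl : (l : F) = (a ^ s) ^ r := rfl
  have hlL : l ∈ Lam M := E_to_lam hD hb0 hb (by rw [hl]; exact hmem)
  have hdl := hD.hd l hlL
  have e := dG_conj_uG (s := s) l 1 0
  have e2 : (l : F) ^ s = a := by
    rw [hl]
    calc ((a ^ s) ^ r) ^ s = ((a ^ s) ^ s) ^ r := pow_right_comm _ _ _
      _ = (a ^ 2) ^ r := by rw [h.sq]
      _ = a := hr a
  rw [e2, mul_one, mul_zero] at e
  rw [← e]
  exact M.mul_mem (M.mul_mem hdl (uG10 hD hb0 hb)) (M.inv_mem hdl)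

lemma uG_of_E {a b : F} (ha : a ∈ EE hD hb0 hb) (hb' : b ∈ EE hD hb0 hb) : uG s a b ∈ M := by
  rw [uG_split]
  exact M.mul_mem (uG_a0 hD hb0 hb ha) hb'

lemma E_of_uG {a b : F} (hu : uG s a b ∈ M) : a ∈ EE hD hb0 hb ∧ b ∈ EE hD hb0 hb := by
  set E := EE hD hb0 hb with hE
  have h1 : a ^ s * a ∈ E := by
    have := M.mul_mem hu hu
    rwa [uG_sq] at this
  have ha : a ∈ E := by
    by_cases ha0 : a = 0
    · rw [ha0]
      exact E.zero_mem
    have hne : a ^ s ≠ 0 := pow_ne_zero _ ha0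
    have e : a = (a ^ s * a) ^ s * (a ^ s * a)⁻¹ := by
      rw [mul_pow, h.sq]
      field_simp
    rw [e]
    exact E.mul_mem (E.pow_mem h1 s) (E.inv_mem h1)
  refine ⟨ha, ?_⟩
  have h2 := M.mul_mem (M.inv_mem (uG_a0 hD hb0 hb ha)) hu
  rw [uG_inv, uG_mul, add_self' (s := s)] at h2
  have e : 0 + a ^ s * a + b + a ^ s * a = b := by
    have : a ^ s * a + a ^ s * a = 0 := add_self' (s := s) _
    linear_combination this
  rwa [e] at h2

end sz

section final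
variable {F : Type*} [Field F] [Fintype F] {m : ℕ}

/-- The subfield conclusion. -/
def Sub3 (m : ℕ) (F : Type*) [Field F] [Fintype F] (M : Subgroup (GG (2 ^ (m + 1)) F)) : Prop :=
  ∃ (K : Type) (_ : Field K) (_ : Fintype K) (k : ℕ), 1 ≤ k ∧ k < m ∧ Fintype.card K = 2 ^ (2 * k + 1) ∧
    2 * k + 1 ∣ 2 * m + 1 ∧ ∃ S : Subgroup (GG (2 ^ (m + 1)) F), Nonempty (↥S ≃* ↥(GG (2 ^ (k + 1)) K)) ∧ M ≤ S

/-- The final identification. -/
theorem stageF (hm : 1 ≤ m) (hF : Fintype.card F = 2 ^ (2 * m + 1)) [hS : SzF F (2 ^ (m + 1))]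
    {M : Subgroup (GG (2 ^ (m + 1)) F)} (hne : M ≠ ⊤) (hD : FData M) {b₀ : F} (hb0 : b₀ ≠ 0)
    (hb : uG (2 ^ (m + 1)) 0 b₀ ∈ M) {l₀ : Fˣ} (hl₀ : l₀ ≠ 1) (hl₀L : l₀ ∈ Lam M) : Sub3 m F M := by
  classical
  haveI := hS.char2
  set E := EE hD hb0 hb with hE
  haveI : Fintype E := Fintype.ofFinite _
  haveI hcE : CharP E 2 := RingHom.charP E.subtype E.subtype_injective 2
  obtain ⟨d, -, hd⟩ := FiniteField.card E 2
  have hcard := Module.card_eq_pow_finrank (K := E) (V := F)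
  rw [hF, hd, ← pow_mul] at hcard
  have hexp := Nat.pow_right_injective (le_refl 2) hcard
  have hdiv : (d : ℕ) ∣ 2 * m + 1 := ⟨_, hexp⟩
  have hdodd : Odd (d : ℕ) := by
    have h1 : Odd (2 * m + 1) := ⟨m, rfl⟩
    rw [hexp] at h1
    exact (Nat.odd_mul.mp h1).1
  obtain ⟨k, hk⟩ := hdodd
  have h3E : 2 < Fintype.card E := by
    rw [Fintype.two_lt_card_iff]
    have hl₀E := lam_to_E hD hb0 hb hl₀L
    refine ⟨⟨_, hl₀E⟩, 1, 0, ?_, ?_, one_ne_zero⟩
    · intro he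
      exact hl₀ (Units.ext (congrArg Subtype.val he))
    · intro he
      exact l₀.ne_zero (congrArg Subtype.val he)
  have hk1 : 1 ≤ k := by
    by_contra hcon
    have : k = 0 := by omega
    subst this
    rw [hd, hk] at h3E
    norm_num at h3E
  have hcE2 : Fintype.card E = 2 ^ (2 * k + 1) := by rw [hd, hk]
  -- the small field
  haveI : Fact (Nat.Prime 2) := ⟨Nat.prime_two⟩
  let K : Type := GaloisField 2 (2 * k + 1)
  letI : Field K := inferInstance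
  letI : Fintype K := Fintype.ofFinite K
  have hK : Fintype.card K = 2 ^ (2 * k + 1) := by
    rw [← Nat.card_eq_fintype_card]
    exact GaloisField.card 2 (2 * k + 1) (by omega)
  have hdvd' : 2 * k + 1 ∣ 2 * m + 1 := hk ▸ hdiv
  haveI hT : SzF K (2 ^ (k + 1)) := szF_of_card hk1 hK
  haveI := hT.char2
  obtain ⟨ι⟩ := exists_embed hF hK hdvd'
  have hι : Compat (2 ^ (m + 1)) (2 ^ (k + 1)) ι := compat_of hK hdvd' ι
  have hr1 : ∀ x : K, ι x ∈ E := by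
    intro x
    have h1 : (ι x) ^ Fintype.card E = ι x := by
      rw [hcE2, ← hK, ← map_pow, FiniteField.pow_card]
    obtain ⟨y, hy⟩ := mem_range_of_pow_card_hom E.subtype h1
    rw [← hy]
    exact y.2
  have hr2 : ∀ y ∈ E, ∃ x : K, ι x = y := by
    intro y hy
    apply mem_range_of_pow_card_hom ι
    rw [hK, ← hcE2]
    have := FiniteField.pow_card (⟨y, hy⟩ : E)
    exact congrArg Subtype.val this
  refine ⟨K, inferInstance, inferInstance, k, hk1, ?_, hK, hdvd', (embG hι).range,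
    ⟨(MonoidHom.ofInjective (embG_inj hι)).symm⟩, ?_⟩
  · have hle : 2 * k + 1 ≤ 2 * m + 1 := Nat.le_of_dvd (by omega) hdvd'
    by_contra hcon
    have hkm : k = m := by omega
    subst hkm
    apply hne
    have hall : ∀ y : F, y ∈ E := by
      intro y
      have h1 : y ^ Fintype.card E = y := by
        rw [hcE2, ← hF, FiniteField.pow_card]
      obtain ⟨z, hz⟩ := mem_range_of_pow_card_hom E.subtype h1
      rw [← hz]
      exact z.2
    have hB : Bor (2 ^ (k + 1)) F ≤ M := by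
      intro g hg
      obtain ⟨a, b, l, rfl⟩ := stab1G (mem_Bor.mp hg)
      exact M.mul_mem (uG_of_E hD hb0 hb (hall a) (hall b)) (hD.hd l (E_to_lam hD hb0 hb (hall _)))
    exact top_of_bor hB hD.hw (by rw [wG_smul_pI]; exact (p00_ne).symm)
  · intro g hg
    apply mem_range_of_stab hι
    intro p hp
    have hpk : ∃ k' ∈ M, k' • pI F = p := by
      rcases (orbI_range_iff hι).mp hp with rfl | ⟨a, b, rfl⟩
      · exact ⟨1, M.one_mem, one_smul _ _⟩
      · refine ⟨uG _ (ι a) (ι b) * wG _ F, M.mul_mem (uG_of_E hD hb0 hb (hr1 a) (hr1 b)) hD.hw, ?_⟩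
        rw [mul_smul, wG_smul_pI, uG_smul_p00]
    obtain ⟨k', hk', rfl⟩ := hpk
    rw [← mul_smul]
    rw [orbI_range_iff hι]
    rcases hD.hO _ (M.mul_mem hg hk') with e | ⟨a, b, hab, e⟩
    · exact Or.inl e
    · right
      obtain ⟨ha, hb'⟩ := E_of_uG hD hb0 hb hab
      obtain ⟨x, rfl⟩ := hr2 a ha
      obtain ⟨y, rfl⟩ := hr2 b hb'
      exact ⟨x, y, e⟩

lemma sub3_cj [SzF F (2 ^ (m + 1))] {g : GG (2 ^ (m + 1)) F} {M : Subgroup (GG (2 ^ (m + 1)) F)} (h : Sub3 m F (cj g M)) : Sub3 m F M := by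
  obtain ⟨K, i1, i2, k, h1, h2, h3, h4, S, ⟨e⟩, hle⟩ := h
  refine ⟨K, i1, i2, k, h1, h2, h3, h4, cj g⁻¹ S, ⟨?_⟩, ?_⟩
  · exact (S.equivMapOfInjective (MulAut.conj g⁻¹).toMonoidHom (MulAut.conj g⁻¹).injective).symm.trans e
  · exact cj_le_iff.mp hle

section
variable {s : ℕ} [h : SzF F s]

lemma bor_conj {b : GG s F} (hb : b ∈ Bor s F) (a c : F) (l : Fˣ) :
    ∃ x y, b * (uG s a c * dG s l) * b⁻¹ = uG s x y * dG s l := by
  obtain ⟨p, q, r, hbe⟩ := stab1G (mem_Bor.mp hb)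
  obtain ⟨p', q', r', hbe'⟩ := stab1G (mem_Bor.mp ((Bor s F).inv_mem hb))
  obtain ⟨x₀, y₀, e₀⟩ := uG_dG_mul (s := s) p q p' q' r r'
  have h1 : uG s x₀ y₀ * dG s (r * r') = uG s 0 0 * dG s 1 := by
    rw [← e₀, ← hbe, ← hbe', mul_inv_cancel, uG_zero, dG_one, one_mul]
  obtain ⟨-, -, hrr⟩ := uG_dG_inj h1
  obtain ⟨x₁, y₁, e₁⟩ := uG_dG_mul (s := s) p q a c r l
  obtain ⟨x₂, y₂, e₂⟩ := uG_dG_mul (s := s) x₁ y₁ p' q' (r * l) r'
  refine ⟨x₂, y₂, ?_⟩
  have e3 : r * l * r' = l := by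
    calc r * l * r' = (r * r') * l := by rw [mul_assoc, mul_comm l, ← mul_assoc]
      _ = l := by rw [hrr, one_mul]
  rw [e3] at e₂
  rw [← e₂, ← e₁, ← hbe, ← hbe']

lemma lam_cj {b : GG s F} (hb : b ∈ Bor s F) (M : Subgroup (GG s F)) : Lam (cj b M) = Lam M := by
  ext l
  constructor
  · rintro ⟨a, c, hm⟩
    rw [mem_cj] at hm
    obtain ⟨x, y, e⟩ := bor_conj ((Bor s F).inv_mem hb) a c l
    rw [inv_inv] at e
    exact ⟨x, y, e ▸ hm⟩
  · rintro ⟨a, c, hm⟩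
    obtain ⟨x, y, e⟩ := bor_conj hb a c l
    refine ⟨x, y, ?_⟩
    rw [mem_cj, ← e]
    have : b⁻¹ * (b * (uG s a c * dG s l) * b⁻¹) * b = uG s a c * dG s l := by group
    rw [this]
    exact hm

lemma mem_cj_self {g x : GG s F} {M : Subgroup (GG s F)} (hx : x ∈ M) : g * x * g⁻¹ ∈ cj g M := by
  rw [mem_cj]
  have : g⁻¹ * (g * x * g⁻¹) * g = x := by group
  rw [this]
  exact hx

lemma dG_conj_dG (f l : Fˣ) : dG s f * dG s l * (dG s f)⁻¹ = dG s l := by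
  rw [dG_inv, dG_mul, dG_mul]
  congr 1
  rw [mul_comm f, mul_assoc, mul_inv_cancel, mul_one]

/-- Normalisation by a torus element. -/
lemma normalise_w {M : Subgroup (GG s F)} (hd : ∀ l ∈ Lam M, dG s l ∈ M)
    (hO : ∀ k ∈ M, k • pI F = pI F ∨ ∃ a b, uG s a b ∈ M ∧ k • pI F = pP s a b)
    {v : GG s F} (hvM : v ∈ M) (h1 : v • pI F = p00 s F) (h2 : v • p00 s F = pI F) :
    ∃ f : Fˣ, FData (cj (dG s f) M) := by
  have h3 : (wG s F * v) • pI F = pI F := by rw [mul_smul, h1, wG_smul_p00]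
  have h4 : (wG s F * v) • p00 s F = p00 s F := by rw [mul_smul, h2, wG_smul_pI]
  obtain ⟨e, he⟩ := stab2G h3 h4
  have hve : v = wG s F * dG s e := by
    rw [← he, ← mul_assoc, wG_mul_self, one_mul]
  obtain ⟨c, hc⟩ := sq_surj (F := F) (s := s) (e : F)
  have hc0 : c ≠ 0 := by
    rintro rfl
    apply e.ne_zero
    rw [← hc]
    simp
  let f : Fˣ := Units.mk0 c hc0
  have hff : f * f = e := by
    apply Units.ext
    simp only [Units.val_mul, f, Units.val_mk0, ← hc, pow_two]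
  have hB : dG s f ∈ Bor s F := dG_mem_Bor f
  refine ⟨f, ?_, ?_, ?_⟩
  · rw [mem_cj]
    have e1 : (dG s f)⁻¹ * wG s F * dG s f = v := by
      have e2 : (dG s f)⁻¹ * wG s F = wG s F * dG s f := by
        have := wG_conj_dG (s := s) f⁻¹
        rw [inv_inv] at this
        rw [dG_inv, ← this]
        have hw := wG_mul_self (s := s) (F := F)
        calc dG s f⁻¹ * wG s F = (wG s F * wG s F) * dG s f⁻¹ * wG s F := by rw [hw, one_mul]
          _ = _ := by group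
      rw [e2, mul_assoc, dG_mul, hff, hve]
    rw [e1]
    exact hvM
  · intro l hl
    rw [lam_cj hB] at hl
    rw [← dG_conj_dG (s := s) f l]
    exact mem_cj_self (hd l hl)
  · intro k hk
    rw [mem_cj] at hk
    have e1 : k • pI F = dG s f • (((dG s f)⁻¹ * k * dG s f) • pI F) := by
      rw [mul_smul, mul_smul, dG_smul_pI, smul_inv_smul]
    rcases hO _ hk with e2 | ⟨a, b, hab, e2⟩
    · left
      rw [e1, e2, dG_smul_pI]
    · right
      refine ⟨(f : F) ^ s * a, (f : F) ^ s * f * f * b, ?_, ?_⟩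
      · rw [← dG_conj_uG]
        exact mem_cj_self hab
      · rw [e1, e2, dG_smul_pP]

end

/-- The main theorem, in the standard form. -/
theorem main_thm (hm : 1 ≤ m) (hF : Fintype.card F = 2 ^ (2 * m + 1)) [hS : SzF F (2 ^ (m + 1))]
    (M : Subgroup (GG (2 ^ (m + 1)) F)) (hne : M ≠ ⊤) :
    (∃ g, M ≤ cj g (Bor (2 ^ (m + 1)) F)) ∨
    (∃ x : GG (2 ^ (m + 1)) F, x ^ 4 ≠ 1 ∧ M ≤ Subgroup.normalizer ((CC x : Subgroup (GG (2 ^ (m + 1)) F)) : Set (GG (2 ^ (m + 1)) F))) ∨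
    Sub3 m F M := by
  by_cases hinv : ∀ y ∈ M, y * y = 1 → y = 1
  · rcases M.bot_or_exists_ne_one with rfl | ⟨x, hx, hx1⟩
    · exact Or.inl ⟨1, bot_le⟩
    · right
      left
      obtain ⟨h1, h2⟩ := norm_of_normal_odd hinv hx hx1 (fun k hk y hy => M.mul_mem (M.mul_mem hk hy) (M.inv_mem hk))
      exact ⟨x, h1, h2⟩
  push Not at hinv
  obtain ⟨y, hy, hy2, hy1⟩ := hinv
  obtain ⟨g, hSg⟩ := exists_std M
  have hy₁ : g * y * g⁻¹ ∈ cj g M := mem_cj_self hy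
  have hy4 : (g * y * g⁻¹) ^ 4 = 1 := by
    rw [conj_pow]
    have : y ^ 4 = (y * y) * (y * y) := by simp only [pow_succ, pow_zero, one_mul, mul_assoc]
    rw [this, hy2]
    group
  obtain ⟨k, hk, hU⟩ := hSg _ hy₁ hy4
  set M₁ := cj g M with hM₁
  set z := k⁻¹ * (g * y * g⁻¹) * k with hz
  have hzne : z ≠ 1 := by
    intro he
    apply hy1
    have : y = (k⁻¹ * g)⁻¹ * z * (k⁻¹ * g) := by
      rw [hz]
      group
    rw [this, he]
    group
  have hz2 : z * z = 1 := by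
    calc z * z = (k⁻¹ * g) * (y * y) * (k⁻¹ * g)⁻¹ := by rw [hz]; group
      _ = 1 := by rw [hy2]; group
  obtain ⟨c, hc0, hcz⟩ := bor_sq (mem_Bor.mp (Uni_le_Bor hU)) hzne hz2
  have hcM : uG (2 ^ (m + 1)) 0 c ∈ M₁ := by
    rw [← hcz, hz]
    exact M₁.mul_mem (M₁.mul_mem (M₁.inv_mem hk) hy₁) hk
  by_cases hnb : M₁ ≤ Bor (2 ^ (m + 1)) F
  · exact Or.inl ⟨g⁻¹, cj_le_iff.mp hnb⟩
  by_cases hL : Nat.card (Lam M₁) = 1
  · right
    left
    obtain ⟨x, h1, h2⟩ := case_small hSg hnb hc0 hcM hL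
    exact c2_cj h1 h2
  right
  right
  apply sub3_cj (g := g)
  -- a generator of the torus part
  obtain ⟨⟨l₀, hl₀L⟩, hgen⟩ := IsCyclic.exists_generator (α := Lam M₁)
  have hl₀ : l₀ ≠ 1 := by
    rintro rfl
    apply hL
    have : ∀ x : Lam M₁, x = 1 := by
      intro x
      obtain ⟨i, hi⟩ := Subgroup.mem_zpowers_iff.mp (hgen x)
      rw [← hi]
      have : (⟨1, hl₀L⟩ : Lam M₁) = 1 := rfl
      rw [this, one_zpow]
    have hs : Subsingleton (Lam M₁) := ⟨fun a b => by rw [this a, this b]⟩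
    exact Nat.card_unique
  obtain ⟨a, b, hab⟩ := hl₀L
  obtain ⟨X, Y, hXY⟩ := exists_fix (s := 2 ^ (m + 1)) a b hl₀
  set u := uG (2 ^ (m + 1)) X Y with hu
  have huB : u⁻¹ ∈ Bor (2 ^ (m + 1)) F := (Bor _ F).inv_mem (Uni_le_Bor (uG_mem_Uni X Y))
  apply sub3_cj (g := u⁻¹)
  set M₂ := cj u⁻¹ M₁ with hM₂
  have hup : u • p00 (2 ^ (m + 1)) F = pP (2 ^ (m + 1)) X Y := uG_smul_p00 X Y
  have hfix1 : (u⁻¹ * (uG (2 ^ (m + 1)) a b * dG (2 ^ (m + 1)) l₀) * u) • pI F = pI F := by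
    rw [mul_smul, mul_smul, hu, uG_smul_pI, mul_smul, dG_smul_pI, uG_smul_pI, uG_inv, uG_smul_pI]
  have hfix2 : (u⁻¹ * (uG (2 ^ (m + 1)) a b * dG (2 ^ (m + 1)) l₀) * u) • p00 (2 ^ (m + 1)) F = p00 (2 ^ (m + 1)) F := by
    rw [mul_smul, mul_smul, hup, hXY, ← hup, inv_smul_smul]
  obtain ⟨t, ht⟩ := stab2G hfix1 hfix2
  obtain ⟨x', y', exy⟩ := bor_conj huB a b l₀
  have htl : t = l₀ := by
    rw [inv_inv] at exy
    rw [ht] at exy
    have e5 : uG (2 ^ (m + 1)) 0 0 * dG (2 ^ (m + 1)) t = uG (2 ^ (m + 1)) x' y' * dG (2 ^ (m + 1)) l₀ := by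
      rw [uG_zero, one_mul]
      exact exy
    exact (uG_dG_inj e5).2.2
  subst htl
  have hdt : dG (2 ^ (m + 1)) t ∈ M₂ := by
    rw [← ht, hM₂]
    have := mem_cj_self (g := u⁻¹) hab
    rwa [inv_inv] at this
  have hlam2 : Lam M₂ = Lam M₁ := lam_cj huB M₁
  have hSt2 : Std M₂ := std_cj huB hSg
  have hd2 : ∀ l ∈ Lam M₂, dG (2 ^ (m + 1)) l ∈ M₂ := by
    intro l hl
    rw [hlam2] at hl
    obtain ⟨i, hi⟩ := Subgroup.mem_zpowers_iff.mp (hgen ⟨l, hl⟩)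
    have hi' : t ^ i = l := congrArg Subtype.val hi
    rw [← hi']
    have : dG (2 ^ (m + 1)) (t ^ i) = dG (2 ^ (m + 1)) t ^ i := map_zpow (dHom (2 ^ (m + 1)) F) t i
    rw [this]
    exact M₂.zpow_mem hdt i
  have hcM₂ : uG (2 ^ (m + 1)) 0 c ∈ M₂ := by
    rw [hM₂, mem_cj, inv_inv]
    have e6 : u * uG (2 ^ (m + 1)) 0 c * u⁻¹ = uG (2 ^ (m + 1)) 0 c := by
      rw [hu, uG_comm_center]
      group
    rw [e6]
    exact hcM
  have hnb₂ : ¬ M₂ ≤ Bor (2 ^ (m + 1)) F := by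
    intro hle
    apply hnb
    have := cj_le_iff.mp hle
    have e7 : cj (u⁻¹)⁻¹ (Bor (2 ^ (m + 1)) F) = Bor (2 ^ (m + 1)) F := by
      ext w
      rw [mem_cj]
      constructor
      · intro hw
        have := (Bor _ F).mul_mem ((Bor _ F).mul_mem ((Bor _ F).inv_mem huB) hw) huB
        simpa [mul_assoc] using this
      · intro hw
        have := (Bor _ F).mul_mem ((Bor _ F).mul_mem huB hw) ((Bor _ F).inv_mem huB)
        simpa [mul_assoc] using this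
    rwa [e7] at this
  obtain ⟨hx, v, hvM, hv1, hv2⟩ := stage2 hSt2 hnb₂ hc0 hcM₂ hd2 hl₀ (lam_of_dG hdt)
  obtain ⟨f, hFD⟩ := normalise_w hd2 (omega_of_index hvM hv1 hx) hvM hv1 hv2
  apply sub3_cj (g := dG (2 ^ (m + 1)) f)
  have hne₂ : M₂ ≠ ⊤ := fun e => hne (cj_top (a := g) (cj_top (a := u⁻¹) e))
  have hne₃ : cj (dG (2 ^ (m + 1)) f) M₂ ≠ ⊤ := fun e => hne₂ (cj_top e)
  have hb₃ : uG (2 ^ (m + 1)) 0 (((f : F) ^ (2 ^ (m + 1)) * f * f) * c) ∈ cj (dG (2 ^ (m + 1)) f) M₂ := by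
    have e := dG_conj_uG (s := 2 ^ (m + 1)) f 0 c
    rw [mul_zero] at e
    rw [← e]
    exact mem_cj_self hcM₂
  have hf0 : (f : F) ≠ 0 := f.ne_zero
  have hne0 : ((f : F) ^ (2 ^ (m + 1)) * f * f) * c ≠ 0 :=
    mul_ne_zero (mul_ne_zero (mul_ne_zero (pow_ne_zero _ hf0) hf0) hf0) hc0
  have hl₃ : t ∈ Lam (cj (dG (2 ^ (m + 1)) f) M₂) := by
    apply lam_of_dG
    rw [← dG_conj_dG (s := 2 ^ (m + 1)) f t]
    exact mem_cj_self hdt
  exact stageF hm hF hne₃ hFD hne0 hb₃ hl₀ hl₃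

end final

end Cfsg.Agent.SzSub
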