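import Mathlib
import Cfsg.Agent.Lib.Sz.SubD

/-!
Solubilizers in the Suzuki groups when `2m + 1` is prime: reduction to a count.
-/

set_option autoImplicit false
set_option linter.unusedSectionVars false
set_option linter.style.haveILetI false

namespace Cfsg.Agent.SzSub

open Cfsg.Agent.SzT Cfsg.Agent.S3391 Cfsg.Agent.S2238

/-- double counting -/
lemma double_count {α β : Type*} [Fintype α] [Fintype β] (r : α → β → Prop) :
    ∑ a, Nat.card {b // r a b} = ∑ b, Nat.card {a // r a b} := by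
  rw [← Nat.card_sigma, ← Nat.card_sigma]
  refine Nat.card_congr ⟨fun p => ⟨p.2.1, p.1, p.2.2⟩, fun p => ⟨p.2.1, p.1, p.2.2⟩, fun _ => rfl, fun _ => rfl⟩

lemma solv_le {G : Type*} [Group G] {H K : Subgroup G} (hle : H ≤ K) (hK : Group.IsSolvable K) : Group.IsSolvable H :=
  solvable_of_solvable_injective (Subgroup.inclusion_injective hle)

lemma solv_of_mulEquiv {A B : Type*} [Group A] [Group B] (e : A ≃* B) (hA : Group.IsSolvable A) : Group.IsSolvable B :=
  solvable_of_surjective (f := e.toMonoidHom) e.surjective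

lemma solv_equiv {G G' : Type*} [Group G] [Group G'] (e : G ≃* G') (x y : G) :
    Group.IsSolvable (Subgroup.closure ({e x, e y} : Set G')) ↔ Group.IsSolvable (Subgroup.closure ({x, y} : Set G)) := by
  have hc : Subgroup.closure ({e x, e y} : Set G') = (Subgroup.closure ({x, y} : Set G)).map e.toMonoidHom := by
    rw [MonoidHom.map_closure, Set.image_pair]
    rfl
  rw [hc]
  let f := (Subgroup.closure ({x, y} : Set G)).equivMapOfInjective e.toMonoidHom e.injective
  exact ⟨fun h => solv_of_mulEquiv f.symm h, fun h => solv_of_mulEquiv f h⟩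

lemma sol_card_equiv {G G' : Type*} [Group G] [Group G'] (e : G ≃* G') (x : G) :
    Nat.card {y : G' // Group.IsSolvable (Subgroup.closure ({e x, y} : Set G'))} =
      Nat.card {y : G // Group.IsSolvable (Subgroup.closure ({x, y} : Set G))} := by
  symm
  refine Nat.card_congr (e.toEquiv.subtypeEquiv ?_)
  intro y
  exact (solv_equiv e x y).symm

section sz
variable {F : Type*} [Field F] [Fintype F] {s : ℕ} [h : SzF F s]

lemma solvable_Uni : Group.IsSolvable (Uni s F) := by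
  haveI : Fact (Nat.Prime 2) := ⟨Nat.prime_two⟩
  haveI := (isPGroup_Uni (F := F) (s := s)).isNilpotent
  infer_instance

lemma solvable_Bor : Group.IsSolvable (Bor s F) := by
  let H : Subgroup (Bor s F) := (Uni s F).subgroupOf (Bor s F)
  haveI hn : H.Normal := ⟨fun n hn g => by
    show ((g * n * g⁻¹ : Bor s F) : GG s F) ∈ Uni s F
    exact conj_Uni g.2 hn⟩
  haveI : Group.IsSolvable H :=
    solv_of_mulEquiv (Subgroup.subgroupOfEquivOfLe (Uni_le_Bor (s := s) (F := F))).symm (solvable_Uni (F := F) (s := s))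
  have hcomm : ∀ a b : Bor s F ⧸ H, a * b = b * a := by
    intro a b
    induction a using QuotientGroup.induction_on with
    | H a =>
    induction b using QuotientGroup.induction_on with
    | H b =>
    show ((a * b : Bor s F) : Bor s F ⧸ H) = ((b * a : Bor s F) : Bor s F ⧸ H)
    rw [QuotientGroup.eq]
    show ((a * b : Bor s F) : GG s F)⁻¹ * ((b * a : Bor s F) : GG s F) ∈ Uni s F
    obtain ⟨p, q, l, e⟩ := stab1G (mem_Bor.mp a.2)
    obtain ⟨p', q', l', e'⟩ := stab1G (mem_Bor.mp b.2)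
    push_cast
    rw [e, e']
    obtain ⟨x, y, e1⟩ := uG_dG_mul (s := s) p q p' q' l l'
    obtain ⟨x', y', e2⟩ := uG_dG_mul (s := s) p' q' p q l' l
    rw [e1, e2, mul_comm l' l]
    have : (uG s x y * dG s (l * l'))⁻¹ * (uG s x' y' * dG s (l * l')) =
        (dG s (l * l'))⁻¹ * ((uG s x y)⁻¹ * uG s x' y') * ((dG s (l * l'))⁻¹)⁻¹ := by group
    rw [this]
    exact conj_Uni ((Bor s F).inv_mem (dG_mem_Bor _)) ((Uni s F).mul_mem ((Uni s F).inv_mem (uG_mem_Uni _ _)) (uG_mem_Uni _ _))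
  haveI : Group.IsSolvable (Bor s F ⧸ H) := isSolvable_of_comm hcomm
  exact solvable_of_ker_le_range H.subtype (QuotientGroup.mk' H) (by simp)

lemma solvable_cj {H : Subgroup (GG s F)} (hH : Group.IsSolvable H) (g : GG s F) : Group.IsSolvable (cj g H) :=
  solv_of_mulEquiv (H.equivMapOfInjective (MulAut.conj g).toMonoidHom (MulAut.conj g).injective) hH

lemma solvable_norm {z : GG s F} (hz : z ^ 4 ≠ 1) :
    Group.IsSolvable (Subgroup.normalizer ((CC z : Subgroup (GG s F)) : Set (GG s F))) := by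
  haveI : Fact (Nat.Prime 2) := ⟨Nat.prime_two⟩
  set N := Subgroup.normalizer ((CC z : Subgroup (GG s F)) : Set (GG s F)) with hN
  let A : Subgroup N := (CC z).subgroupOf N
  haveI : A.Normal := Subgroup.normal_in_normalizer
  haveI : Group.IsSolvable A := isSolvable_of_comm (fun a b => by
    apply Subtype.ext
    apply Subtype.ext
    exact ccHypG.comm z hz _ a.2 _ b.2)
  have hle : CC z ≤ N := Subgroup.le_normalizer
  have hcard : Nat.card (N ⧸ A) ∣ 2 ^ 2 := by
    have e1 := Subgroup.index_mul_card A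
    rw [Nat.card_congr (Subgroup.subgroupOfEquivOfLe hle).toEquiv] at e1
    have h4 := norm_cc_card hz
    rw [← e1] at h4
    exact Nat.dvd_of_mul_dvd_mul_right Nat.card_pos h4
  obtain ⟨j, -, e⟩ := (Nat.dvd_prime_pow Nat.prime_two).mp hcard
  have hp : IsPGroup 2 (N ⧸ A) := IsPGroup.of_card e
  haveI := hp.isNilpotent
  exact solvable_of_ker_le_range A.subtype (QuotientGroup.mk' A) (by simp)

lemma not_comm_GG : ¬ ∀ a b : GG s F, a * b = b * a := by
  intro hc
  obtain ⟨l, hl⟩ := exists_unit_ne_one (F := F) (s := s)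
  have e := dG_conj_uG (s := s) l 1 0
  rw [hc (dG s l), mul_assoc, mul_inv_cancel, mul_one] at e
  have e2 := (uG_inj e).1
  rw [mul_one] at e2
  apply hl
  apply Units.ext
  apply s_inj (s := s)
  rw [← e2, Units.val_one, one_pow]

lemma not_solvable_GG : ¬ Group.IsSolvable (GG s F) := by
  intro hs
  haveI := isSimple_GG (s := s) (F := F)
  exact not_comm_GG ((IsSimpleGroup.comm_iff_isSolvable).mpr hs)

/-- The subgroups generated by two elements, when `2m + 1` is prime. -/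
theorem solv_iff {m : ℕ} {F : Type*} [Field F] [Fintype F] [hS : SzF F (2 ^ (m + 1))] (hm : 1 ≤ m)
    (hF : Fintype.card F = 2 ^ (2 * m + 1)) (hp : (2 * m + 1).Prime) (x y : GG (2 ^ (m + 1)) F) :
    Group.IsSolvable (Subgroup.closure ({x, y} : Set (GG (2 ^ (m + 1)) F))) ↔
      (∃ g, x ∈ cj g (Bor (2 ^ (m + 1)) F) ∧ y ∈ cj g (Bor (2 ^ (m + 1)) F)) ∨
      (∃ z : GG (2 ^ (m + 1)) F, z ^ 4 ≠ 1 ∧
        x ∈ Subgroup.normalizer ((CC z : Subgroup (GG (2 ^ (m + 1)) F)) : Set (GG (2 ^ (m + 1)) F)) ∧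
        y ∈ Subgroup.normalizer ((CC z : Subgroup (GG (2 ^ (m + 1)) F)) : Set (GG (2 ^ (m + 1)) F))) := by
  have hpair : ∀ K : Subgroup (GG (2 ^ (m + 1)) F), x ∈ K → y ∈ K →
      Subgroup.closure ({x, y} : Set (GG (2 ^ (m + 1)) F)) ≤ K := by
    intro K h1 h2
    rw [Subgroup.closure_le]
    rintro w (rfl | rfl)
    · exact h1
    · exact h2
  constructor
  · intro hs
    have hne : Subgroup.closure ({x, y} : Set (GG (2 ^ (m + 1)) F)) ≠ ⊤ := by
      intro he
      rw [he] at hs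
      apply not_solvable_GG (s := 2 ^ (m + 1)) (F := F)
      exact solv_of_mulEquiv (Subgroup.topEquiv (G := GG (2 ^ (m + 1)) F)) hs
    have hx : x ∈ Subgroup.closure ({x, y} : Set (GG (2 ^ (m + 1)) F)) := Subgroup.subset_closure (Or.inl rfl)
    have hy : y ∈ Subgroup.closure ({x, y} : Set (GG (2 ^ (m + 1)) F)) := Subgroup.subset_closure (Or.inr rfl)
    rcases main_thm hm hF _ hne with ⟨g, hg⟩ | ⟨z, hz, hle⟩ | h3
    · exact Or.inl ⟨g, hg hx, hg hy⟩
    · exact Or.inr ⟨z, hz, hle hx, hle hy⟩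
    · exfalso
      obtain ⟨K, -, -, k, h1, h2, -, h4, -⟩ := h3
      rcases (Nat.dvd_prime hp).mp h4 with h5 | h5 <;> omega
  · rintro (⟨g, h1, h2⟩ | ⟨z, hz, h1, h2⟩)
    · exact solv_le (hpair _ h1 h2) (solvable_cj solvable_Bor g)
    · exact solv_le (hpair _ h1 h2) (solvable_norm hz)

variable {x : GG s F}

/-- the non-`2`-elements whose torus is normalised by `x` -/
def ZS (x : GG s F) : Set (GG s F) :=
  {a | a ^ 4 ≠ 1 ∧ x ∈ Subgroup.normalizer ((CC a : Subgroup (GG s F)) : Set (GG s F))}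

/-- the `2`-part of the normaliser -/
def PP (a : GG s F) : Subgroup (GG s F) :=
  Subgroup.normalizer ((CC a : Subgroup (GG s F)) : Set (GG s F)) ⊓ Bor s F

/-- The part of the solubilizer outside the point stabiliser. -/
def Sout (x : GG s F) : Set (GG s F) :=
  {y | y ∉ Bor s F ∧ ∃ z : GG s F, z ^ 4 ≠ 1 ∧ x ∈ Subgroup.normalizer ((CC z : Subgroup (GG s F)) : Set (GG s F)) ∧
    y ∈ Subgroup.normalizer ((CC z : Subgroup (GG s F)) : Set (GG s F))}

lemma mem_ZS {a : GG s F} : a ∈ ZS x ↔ a ^ 4 ≠ 1 ∧ x ∈ Subgroup.normalizer ((CC a : Subgroup (GG s F)) : Set (GG s F)) := Iff.rfl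

lemma pow4_ne_one {a : GG s F} (ha : a ^ 4 ≠ 1) : a ≠ 1 := by
  rintro rfl
  simp at ha

lemma odd_cc {a c : GG s F} (ha : a ^ 4 ≠ 1) (hc : c ∈ CC a) : Odd (orderOf c) := cc_odd ha (mem_CC.mp hc)

lemma cc_inter_uni {a c : GG s F} (ha : a ^ 4 ≠ 1) (hc : c ∈ CC a) (hU : c ∈ Uni s F) : c = 1 := by
  by_contra hc1
  obtain ⟨p, q, e⟩ := hU
  have h4 : c ^ 4 = 1 := by rw [e, uG_pow4]
  exact pow4_ne_of_odd (odd_cc ha hc) hc1 h4

lemma uni_four {c : GG s F} (hU : c ∈ Uni s F) : c ^ 4 = 1 := by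
  obtain ⟨p, q, e⟩ := hU
  rw [e, uG_pow4]

/-- The torus meets the point stabiliser trivially. -/
lemma cc_inter_bor (hxU : x ∈ Uni s F) (hx1 : x ≠ 1) {a c : GG s F} (ha : a ∈ ZS x) (hc : c ∈ CC a) (hB : c ∈ Bor s F) :
    c = 1 := by
  by_contra hc1
  have h1 : x * c * x⁻¹ ∈ CC a := (Subgroup.mem_normalizer_iff.mp ha.2 c).mp hc
  have h2 : x * c * x⁻¹ * c⁻¹ ∈ CC a := mul_mem h1 (inv_mem hc)
  have h3 : x * c * x⁻¹ * c⁻¹ ∈ Uni s F := by
    have e : x * c * x⁻¹ * c⁻¹ = x * (c * x⁻¹ * c⁻¹) := by group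
    rw [e]
    exact mul_mem hxU (conj_Uni hB (inv_mem hxU))
  have h4 := cc_inter_uni ha.1 h2 h3
  have hcomm : x * c = c * x := by
    have : x * c * x⁻¹ = c := by
      rw [mul_inv_eq_one] at h4
      exact h4
    rw [mul_inv_eq_iff_eq_mul] at this
    exact this
  have hx : x ∈ CC c := mem_CC.mpr hcomm
  rw [cc_ti ha.1 hc hc1] at hx
  exact hx1 (cc_inter_uni ha.1 hx hxU)

lemma PP_le_uni (hxU : x ∈ Uni s F) (hx1 : x ≠ 1) {a y : GG s F} (ha : a ∈ ZS x) (hy : y ∈ PP a) : y ∈ Uni s F := by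
  have h1 := pow4_of_norm ccHypG ha.1 hy.1
  have h2 : y ^ 4 ∈ Bor s F := pow_mem hy.2 4
  exact bor_pow4 hy.2 (cc_inter_bor hxU hx1 ha h1 h2)

lemma x_mem_PP (hxU : x ∈ Uni s F) {a : GG s F} (ha : a ∈ ZS x) : x ∈ PP a := ⟨ha.2, Uni_le_Bor hxU⟩

/-- Every `2`-group of `G` containing `x` lies in `Uni`. -/
lemma twogroup_le (hxU : x ∈ Uni s F) (hx1 : x ≠ 1) {Q : Subgroup (GG s F)} (hQ : IsPGroup 2 Q) (hxQ : x ∈ Q) :
    Q ≤ Uni s F := by
  haveI : Fact (Nat.Prime 2) := ⟨Nat.prime_two⟩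
  obtain ⟨R, hR⟩ := hQ.exists_le_sylow
  obtain ⟨g, hg⟩ := sylow_eq R
  have h1 : x ∈ cj g (Uni s F) := hg ▸ hR hxQ
  have h2 : x ∈ cj 1 (Uni s F) := by
    rw [mem_cj]
    simpa using hxU
  have h3 := fixed_unique hx1 h1 h2
  have h4 : cj (1 : GG s F) (Uni s F) = Uni s F := by
    ext w
    rw [mem_cj]
    simp
  intro w hw
  have := hR hw
  rw [hg, h3, h4] at this
  exact this

/-- The factorisation of the normaliser. -/
lemma norm_factor (hxU : x ∈ Uni s F) (hx1 : x ≠ 1) {a : GG s F} (ha : a ∈ ZS x) :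
    Nat.card (Subgroup.normalizer ((CC a : Subgroup (GG s F)) : Set (GG s F))) = Nat.card (CC a) * Nat.card (PP a) ∧
    ∀ y ∈ Subgroup.normalizer ((CC a : Subgroup (GG s F)) : Set (GG s F)), ∃ u ∈ CC a, ∃ c ∈ PP a, y = u * c := by
  classical
  haveI : Fact (Nat.Prime 2) := ⟨Nat.prime_two⟩
  set N := Subgroup.normalizer ((CC a : Subgroup (GG s F)) : Set (GG s F)) with hN
  have hle : CC a ≤ N := Subgroup.le_normalizer
  -- the map
  let φ : CC a × PP a → N := fun p => ⟨(p.1 : GG s F) * (p.2 : GG s F), mul_mem (hle p.1.2) p.2.2.1⟩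
  have hφ : Function.Injective φ := by
    rintro ⟨u, c⟩ ⟨u', c'⟩ he
    have e : (u : GG s F) * c = u' * c' := congrArg Subtype.val he
    have e2 : (u' : GG s F)⁻¹ * u = c' * (c : GG s F)⁻¹ := by
      calc (u' : GG s F)⁻¹ * u = (u' : GG s F)⁻¹ * (u * c) * (c : GG s F)⁻¹ := by group
        _ = (u' : GG s F)⁻¹ * (u' * c') * (c : GG s F)⁻¹ := by rw [e]
        _ = _ := by group
    have h1 : (u' : GG s F)⁻¹ * u ∈ CC a := mul_mem (inv_mem u'.2) u.2
    have h2 : (u' : GG s F)⁻¹ * u ∈ Bor s F := by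
      rw [e2]
      exact mul_mem c'.2.2 (inv_mem c.2.2)
    have h3 := cc_inter_bor hxU hx1 ha h1 h2
    have h4 : (u : GG s F) = u' := by
      rw [inv_mul_eq_one] at h3
      exact h3.symm
    have h5 : (c : GG s F) = c' := by
      rw [h4] at e
      exact mul_left_cancel e
    exact Prod.ext (Subtype.ext h4) (Subtype.ext h5)
  have hcard1 : Nat.card (CC a) * Nat.card (PP a) ≤ Nat.card N := by
    rw [← Nat.card_prod]
    exact Nat.card_le_card_of_injective φ hφ
  -- the Sylow subgroup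
  obtain ⟨k, hk⟩ : Nat.card (CC a) ∣ Nat.card N := Subgroup.card_dvd_of_le hle
  have hk4 : k ∣ 2 ^ 2 := by
    have h4 := norm_cc_card ha.1
    rw [← hN, hk, mul_comm 4, mul_dvd_mul_iff_left Nat.card_pos.ne'] at h4
    exact h4
  obtain ⟨j, -, hj⟩ := (Nat.dvd_prime_pow Nat.prime_two).mp hk4
  have hxN : (⟨x, ha.2⟩ : N) ^ 4 = 1 := by
    apply Subtype.ext
    push_cast
    exact uni_four hxU
  have hzp : IsPGroup 2 (Subgroup.zpowers (⟨x, ha.2⟩ : N)) := by
    have hd : orderOf (⟨x, ha.2⟩ : N) ∣ 2 ^ 2 := orderOf_dvd_of_pow_eq_one hxN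
    obtain ⟨j', -, e⟩ := (Nat.dvd_prime_pow Nat.prime_two).mp hd
    exact IsPGroup.of_card (n := j') (by rw [Nat.card_zpowers, e])
  obtain ⟨Q, hQ⟩ := hzp.exists_le_sylow
  have hmap : IsPGroup 2 ((Q : Subgroup N).map N.subtype) := Q.2.map _
  have hxQ : x ∈ (Q : Subgroup N).map N.subtype := ⟨⟨x, ha.2⟩, hQ (Subgroup.mem_zpowers _), rfl⟩
  have hQU := twogroup_le hxU hx1 hmap hxQ
  have hQP : ∀ w : N, w ∈ (Q : Subgroup N) → (w : GG s F) ∈ PP a := fun w hw =>
    ⟨w.2, Uni_le_Bor (hQU ⟨w, hw, rfl⟩)⟩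
  have hQcard : Nat.card (Q : Subgroup N) ≤ Nat.card (PP a) := by
    refine Nat.card_le_card_of_injective (fun w : (Q : Subgroup N) => (⟨((w : N) : GG s F), hQP w w.2⟩ : PP a)) ?_
    intro w w' he
    have e : ((w : N) : GG s F) = ((w' : N) : GG s F) := congrArg (fun z : PP a => (z : GG s F)) he
    exact Subtype.ext (Subtype.ext e)
  have hkQ : k ∣ Nat.card (Q : Subgroup N) := by
    rw [hj]
    apply Q.pow_dvd_card_of_pow_dvd_card
    rw [← hj, hk]
    exact dvd_mul_left _ _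
  have hkle : k ≤ Nat.card (PP a) := (Nat.le_of_dvd Nat.card_pos hkQ).trans hQcard
  have heq : Nat.card N = Nat.card (CC a) * Nat.card (PP a) := by
    apply le_antisymm _ hcard1
    rw [hk]
    exact Nat.mul_le_mul_left _ hkle
  refine ⟨heq, ?_⟩
  have hbij : Function.Surjective φ := by
    have hcardeq : Nat.card (CC a × PP a) = Nat.card N := by
      rw [Nat.card_prod, heq]
    exact ((Nat.bijective_iff_injective_and_card φ).mpr ⟨hφ, hcardeq⟩).2
  intro y hy
  obtain ⟨⟨u, c⟩, hp⟩ := hbij ⟨y, hy⟩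
  exact ⟨u, u.2, c, c.2, (congrArg Subtype.val hp).symm⟩

/-- Two distinct tori: a common normalising `2`-element forces the rest to fix the point. -/
lemma norm_disj (hxU : x ∈ Uni s F) (hx1 : x ≠ 1) {a a' y : GG s F} (ha : a ∈ ZS x) (ha' : a' ∈ ZS x)
    (hy : y ∈ Subgroup.normalizer ((CC a : Subgroup (GG s F)) : Set (GG s F)))
    (hy' : y ∈ Subgroup.normalizer ((CC a' : Subgroup (GG s F)) : Set (GG s F))) (hyB : y ∉ Bor s F) :
    CC a = CC a' := by
  by_contra hne
  haveI : Fact (Nat.Prime 2) := ⟨Nat.prime_two⟩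
  set D := Subgroup.normalizer ((CC a : Subgroup (GG s F)) : Set (GG s F)) ⊓
    Subgroup.normalizer ((CC a' : Subgroup (GG s F)) : Set (GG s F)) with hD
  have h4 : ∀ d ∈ D, d ^ 4 = 1 := by
    intro d hd
    by_contra hd4
    have h1 := pow4_of_norm ccHypG ha.1 hd.1
    have h2 := pow4_of_norm ccHypG ha'.1 hd.2
    apply hne
    rw [← cc_ti ha.1 h1 hd4, ← cc_ti ha'.1 h2 hd4]
  have hp : IsPGroup 2 D := by
    intro d
    refine ⟨2, ?_⟩
    apply Subtype.ext
    push_cast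
    exact h4 d d.2
  have hle := twogroup_le hxU hx1 hp ⟨ha.2, ha'.2⟩
  exact hyB (Uni_le_Bor (hle ⟨hy, hy'⟩))

/-- The count of the outer part of the solubilizer. -/
theorem card_Sout (hxU : x ∈ Uni s F) (hx1 : x ≠ 1) [Fintype (GG s F)] [DecidablePred (· ∈ ZS x)] :
    Nat.card (Sout x) = ∑ a : GG s F, if a ∈ ZS x then Nat.card (PP a) else 0 := by
  classical
  have hcard : ∀ a : GG s F, Nat.card {c : GG s F // a ∈ ZS x ∧ c ∈ PP a} = if a ∈ ZS x then Nat.card (PP a) else 0 := by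
    intro a
    split_ifs with ha
    · refine Nat.card_congr (Equiv.subtypeEquivRight ?_)
      intro c
      exact ⟨fun h => h.2, fun h => ⟨ha, h⟩⟩
    · have : IsEmpty {c : GG s F // a ∈ ZS x ∧ c ∈ PP a} := ⟨fun c => ha c.2.1⟩
      exact Nat.card_of_isEmpty
  rw [Finset.sum_congr rfl (fun a _ => (hcard a).symm), ← Nat.card_sigma]
  symm
  let f : (Σ a : GG s F, {c : GG s F // a ∈ ZS x ∧ c ∈ PP a}) → Sout x := fun p =>
    ⟨p.1 * p.2.1, by
      have ha := p.2.2.1
      have hc := p.2.2.2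
      refine ⟨?_, p.1, ha.1, ha.2, mul_mem (Subgroup.le_normalizer (self_mem_CC _)) hc.1⟩
      intro hB
      have hp : p.1 ∈ Bor s F := by
        have := mul_mem hB (inv_mem hc.2)
        simpa using this
      exact pow4_ne_one ha.1 (cc_inter_bor hxU hx1 ha (self_mem_CC _) hp)⟩
  have hf : Function.Bijective f := by
    constructor
    · rintro ⟨a, c, ha, hc⟩ ⟨a', c', ha', hc'⟩ he
      have e : a * c = a' * c' := congrArg Subtype.val he
      have hyB : a * c ∉ Bor s F := (f ⟨a, c, ha, hc⟩).2.1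
      have hcc := norm_disj hxU hx1 ha ha' (mul_mem (Subgroup.le_normalizer (self_mem_CC _)) hc.1)
        (e ▸ mul_mem (Subgroup.le_normalizer (self_mem_CC _)) hc'.1) hyB
      have h1 : a'⁻¹ * a ∈ CC a := by
        refine mul_mem (inv_mem ?_) (self_mem_CC a)
        rw [hcc]
        exact self_mem_CC a'
      have e2 : a'⁻¹ * a = c' * c⁻¹ := by
        calc a'⁻¹ * a = a'⁻¹ * (a * c) * c⁻¹ := by group
          _ = a'⁻¹ * (a' * c') * c⁻¹ := by rw [e]
          _ = _ := by group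
      have h2 : a'⁻¹ * a ∈ Bor s F := by
        rw [e2]
        exact mul_mem hc'.2 (inv_mem hc.2)
      have h3 := cc_inter_bor hxU hx1 ha h1 h2
      rw [inv_mul_eq_one] at h3
      subst h3
      have h5 : c = c' := mul_left_cancel e
      subst h5
      rfl
    · rintro ⟨y, hyB, z, hz, hxz, hyz⟩
      have hzZ : z ∈ ZS x := ⟨hz, hxz⟩
      obtain ⟨-, hfac⟩ := norm_factor hxU hx1 hzZ
      obtain ⟨u, hu, c, hc, rfl⟩ := hfac y hyz
      have hu1 : u ≠ 1 := by
        rintro rfl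
        apply hyB
        rw [one_mul]
        exact hc.2
      have hcc := cc_ti hz hu hu1
      have huZ : u ∈ ZS x := by
        refine ⟨pow4_ne_of_odd (odd_cc hz hu) hu1, ?_⟩
        rw [hcc]
        exact hxz
      refine ⟨⟨u, c, huZ, ?_⟩, rfl⟩
      unfold PP
      rw [hcc]
      exact hc
  exact Nat.card_congr (Equiv.ofBijective f hf)

end sz

end Cfsg.Agent.SzSub
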