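import Mathlib
import Cfsg.Agent.Lib.Sz.Sol1

/-!
Solubilizers in the Suzuki groups: the counts for involutions.
-/

set_option autoImplicit false
set_option linter.unusedSectionVars false
set_option linter.style.haveILetI false

namespace Cfsg.Agent.SzSub

open Cfsg.Agent.SzT Cfsg.Agent.S3391 Cfsg.Agent.S2238

section sz
variable {F : Type*} [Field F] [Fintype F] {s : ℕ} [h : SzF F s]

variable {x : GG s F}

lemma norm_TorA_eq :
    Nat.card (Subgroup.normalizer ((TorA s F : Subgroup (GG s F)) : Set (GG s F))) = 2 * Nat.card (TorA s F) := by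
  obtain ⟨k, hk⟩ : Nat.card (TorA s F) ∣ Nat.card (Subgroup.normalizer ((TorA s F : Subgroup (GG s F)) : Set (GG s F))) :=
    Subgroup.card_dvd_of_le Subgroup.le_normalizer
  have h2 := norm_TorA_card (s := s) (F := F)
  rw [hk, mul_comm 2, mul_dvd_mul_iff_left Nat.card_pos.ne'] at h2
  obtain ⟨l, hl⟩ := exists_unit_ne_one (F := F) (s := s)
  have hw : wG s F ∈ Subgroup.normalizer ((TorA s F : Subgroup (GG s F)) : Set (GG s F)) := by
    have h1 : wG s F * dG s l * (wG s F)⁻¹ ∈ CC (dG s l) := by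
      rw [wG_inv, wG_conj_dG, cc_dG hl]
      exact dG_mem_TorA _
    have := cc_ti_conj ccHypG (dG_pow4 hl) (self_mem_CC _) (dG_ne_one hl) h1
    rwa [cc_dG hl] at this
  have hk1 : k ≠ 1 := by
    rintro rfl
    rw [mul_one] at hk
    have heq := Subgroup.eq_of_le_of_card_ge (Subgroup.le_normalizer (H := TorA s F)) hk.le
    rw [← heq] at hw
    obtain ⟨t, ht⟩ := mem_TorA.mp hw
    have hfix : dG s t • pI F = pI F := dG_smul_pI t
    rw [ht, wG_smul_pI] at hfix
    exact p00_ne (s := s) hfix.symm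
  have hk2 : k = 2 := by
    have hk0 : 0 < k := Nat.pos_of_ne_zero (by
      rintro rfl
      rw [mul_zero] at hk
      exact Nat.card_pos.ne' hk)
    have := Nat.le_of_dvd (by norm_num) h2
    omega
  rw [hk, hk2, mul_comm]

/-- the `2`-part in the two types of torus -/
lemma PP_card (hxU : x ∈ Uni s F) (hx1 : x ≠ 1) {a : GG s F} (ha : a ∈ ZS x) :
    (Fpf s a → Nat.card (PP a) = 4) ∧ (¬ Fpf s a → Nat.card (PP a) = 2) := by
  obtain ⟨h1, -⟩ := norm_factor hxU hx1 ha
  constructor
  · intro hF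
    rw [fpf_index hF] at h1
    exact (Nat.eq_of_mul_eq_mul_left Nat.card_pos (by rw [← h1]; ring : Nat.card (CC a) * 4 = Nat.card (CC a) * Nat.card (PP a))).symm
  · intro hF
    obtain ⟨g, l, hl, e⟩ := (dich ha.1).resolve_left hF
    have e2 : Subgroup.normalizer ((cj g (TorA s F) : Subgroup (GG s F)) : Set (GG s F)) =
        (Subgroup.normalizer ((TorA s F : Subgroup (GG s F)) : Set (GG s F))).map (MulAut.conj g).toMonoidHom :=
      (Subgroup.map_equiv_normalizer_eq _ _).symm
    have e3 : CC a = cj g (TorA s F) := by rw [e, cc_conj, cc_dG hl]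
    rw [e3, e2, Subgroup.card_map_of_injective (MulAut.conj g).injective, norm_TorA_eq, card_cj] at h1
    exact (Nat.eq_of_mul_eq_mul_left Nat.card_pos (by rw [← h1]; ring : Nat.card (TorA s F) * 2 = Nat.card (TorA s F) * Nat.card (PP a))).symm

/-- an element of order `4` only normalises tori with a `2`-part of order `4` -/
lemma PP_card_four (hxU : x ∈ Uni s F) (hx2 : x * x ≠ 1) {a : GG s F} (ha : a ∈ ZS x) : Nat.card (PP a) = 4 := by
  have hx1 : x ≠ 1 := by
    rintro rfl
    simp at hx2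
  by_cases hF : Fpf s a
  · exact (PP_card hxU hx1 ha).1 hF
  · exfalso
    have hc := (PP_card hxU hx1 ha).2 hF
    have hd := orderOf_dvd_natCard (⟨x, x_mem_PP hxU ha⟩ : PP a)
    rw [hc, Subgroup.orderOf_mk] at hd
    apply hx2
    have := orderOf_dvd_iff_pow_eq_one.mp hd
    rwa [pow_two] at this

lemma fix_unique_of_pow4 {a : GG s F} (h4 : a ^ 4 = 1) (h1 : a ≠ 1) :
    ∃ p ∈ Ov s F, a • p = p ∧ ∀ q ∈ Ov s F, a • q = q → q = p := by
  haveI : Fact (Nat.Prime 2) := ⟨Nat.prime_two⟩
  have hp : IsPGroup 2 (Subgroup.zpowers a) := by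
    have hd : orderOf a ∣ 2 ^ 2 := orderOf_dvd_of_pow_eq_one h4
    obtain ⟨j, -, e⟩ := (Nat.dvd_prime_pow Nat.prime_two).mp hd
    exact IsPGroup.of_card (n := j) (by rw [Nat.card_zpowers, e])
  obtain ⟨P, hP⟩ := hp.exists_le_sylow
  obtain ⟨g, hg⟩ := sylow_eq P
  have ha : a ∈ cj g (Uni s F) := hg ▸ hP (Subgroup.mem_zpowers a)
  rw [mem_cj] at ha
  obtain ⟨A, B, e⟩ := ha
  have hae : a = g * uG s A B * g⁻¹ := by
    rw [← e]
    group
  refine ⟨g • pI F, smul_mem_Ov' g pI_mem, ?_, ?_⟩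
  · rw [hae, mul_smul, mul_smul, inv_smul_smul, uG_smul_pI]
  · intro q hq hfix
    have hq' : g⁻¹ • q ∈ Ov s F := smul_mem_Ov' _ hq
    have hf : uG s A B • (g⁻¹ • q) = g⁻¹ • q := by
      rw [← e, mul_smul, mul_smul, smul_inv_smul, hfix]
    rcases hq' with h0 | ⟨X, Y, h0⟩
    · rw [← h0, smul_inv_smul]
    · rw [h0] at hf
      obtain ⟨rfl, rfl⟩ := uG_fix hf
      apply absurd _ h1
      rw [hae, uG_zero]
      group

section invol
variable (hxU : x ∈ Uni s F) (hx1 : x ≠ 1) (hx2 : x * x = 1)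
include hxU hx1 hx2

lemma mem_ZS_inv {a : GG s F} : a ∈ ZS x ↔ a ^ 4 ≠ 1 ∧ x * a * x⁻¹ = a⁻¹ := by
  constructor
  · rintro ⟨h1, h2⟩
    exact ⟨h1, inv_inverts ccHypG h1 h2 hx2 hx1 (self_mem_CC a)⟩
  · rintro ⟨h1, h2⟩
    refine ⟨h1, cc_ti_conj ccHypG h1 (self_mem_CC a) (pow4_ne_one h1) ?_⟩
    rw [h2]
    exact inv_mem (self_mem_CC a)

/-- The involutions off the point stabiliser correspond to the elements inverted by `x`. -/
lemma ZS_equiv : Nat.card (ZS x) = Nat.card {v : GG s F // v * v = 1 ∧ v ∉ Bor s F} := by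
  have hxi : x⁻¹ = x := inv_eq_of_mul_eq_one_left hx2
  refine Nat.card_congr ⟨fun a => ⟨x * a, ?_⟩, fun v => ⟨x * v, ?_⟩, ?_, ?_⟩
  · have ha := (mem_ZS_inv hxU hx1 hx2).mp a.2
    constructor
    · calc x * (a : GG s F) * (x * a) = (x * a * x⁻¹) * (x * x) * a := by group
        _ = 1 := by rw [ha.2, hx2]; group
    · intro hB
      have hp : (a : GG s F) ∈ Bor s F := by
        have := mul_mem (inv_mem (Uni_le_Bor hxU)) hB
        simpa using this
      exact pow4_ne_one a.2.1 (cc_inter_bor hxU hx1 a.2 (self_mem_CC _) hp)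
  · obtain ⟨v, hv2, hvB⟩ := v
    have hvi : v⁻¹ = v := inv_eq_of_mul_eq_one_left hv2
    rw [mem_ZS_inv hxU hx1 hx2]
    simp only
    have hinv : x * (x * v) * x⁻¹ = (x * v)⁻¹ := by
      rw [hxi, mul_inv_rev, hxi, hvi, ← mul_assoc, hx2, one_mul]
    refine ⟨?_, hinv⟩
    intro h4
    by_cases h1 : x * v = 1
    · apply hvB
      have : v = x⁻¹ := eq_inv_of_mul_eq_one_right h1
      rw [this, hxi]
      exact Uni_le_Bor hxU
    · obtain ⟨p, hp, hfix, huniq⟩ := fix_unique_of_pow4 h4 h1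
      set a := x * v with ha
      have hinvv : v * a * v⁻¹ = a⁻¹ := by
        rw [ha, hvi, mul_inv_rev, hvi, hxi]
        calc v * (x * v) * v = v * x * (v * v) := by group
          _ = v * x := by rw [hv2, mul_one]
      have hinvf : ∀ u : GG s F, u * a * u⁻¹ = a⁻¹ → u • p = p := by
        intro u hu
        apply huniq _ (smul_mem_Ov' u hp)
        have e1 : a⁻¹ • (u • p) = u • (a • p) := by
          rw [← hu, mul_smul, mul_smul, inv_smul_smul]
        rw [hfix] at e1
        have e2 : a • (a⁻¹ • (u • p)) = a • (u • p) := by rw [e1]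
        rw [smul_inv_smul] at e2
        exact e2.symm
      have hxp := hinvf x hinv
      have hvp := hinvf v hinvv
      obtain ⟨A, B, e⟩ := hxU
      have hpI : p = pI F := by
        rcases hp with h0 | ⟨X, Y, h0⟩
        · exact h0
        · rw [h0, e] at hxp
          obtain ⟨rfl, rfl⟩ := uG_fix hxp
          exact absurd (e.trans uG_zero) hx1
      apply hvB
      rw [mem_Bor, ← hpI]
      exact hvp
  · intro a
    apply Subtype.ext
    show x * (x * a) = a
    rw [← mul_assoc, hx2, one_mul]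
  · intro v
    apply Subtype.ext
    show x * (x * v) = v
    rw [← mul_assoc, hx2, one_mul]

end invol

/-- The involutions off the point stabiliser. -/
lemma card_invol_off :
    Nat.card {v : GG s F // v * v = 1 ∧ v ∉ Bor s F} = Fintype.card F ^ 2 * (Fintype.card F - 1) := by
  classical
  have hw2 : ∀ e : Fˣ, (wG s F * dG s e) * (wG s F * dG s e) = 1 := by
    intro e
    calc (wG s F * dG s e) * (wG s F * dG s e) = (wG s F * dG s e * wG s F) * dG s e := by group
      _ = 1 := by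
        rw [wG_conj_dG, dG_mul, inv_mul_cancel, dG_one]
  let f : (F × F) × Fˣ → {v : GG s F // v * v = 1 ∧ v ∉ Bor s F} := fun p =>
    ⟨uG s p.1.1 p.1.2 * (wG s F * dG s p.2) * (uG s p.1.1 p.1.2)⁻¹, by
      constructor
      · calc uG s p.1.1 p.1.2 * (wG s F * dG s p.2) * (uG s p.1.1 p.1.2)⁻¹ * (uG s p.1.1 p.1.2 * (wG s F * dG s p.2) * (uG s p.1.1 p.1.2)⁻¹)
            = uG s p.1.1 p.1.2 * ((wG s F * dG s p.2) * (wG s F * dG s p.2)) * (uG s p.1.1 p.1.2)⁻¹ := by group
          _ = 1 := by rw [hw2]; group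
      · intro hB
        have h1 := mem_Bor.mp hB
        rw [mul_smul, mul_smul, uG_inv, uG_smul_pI, mul_smul, dG_smul_pI, wG_smul_pI, uG_smul_p00] at h1
        exact pP_ne_pI _ _ h1⟩
  have hf : Function.Bijective f := by
    constructor
    · rintro ⟨⟨X, Y⟩, e⟩ ⟨⟨X', Y'⟩, e'⟩ he
      have e1 : uG s X Y * (wG s F * dG s e) * (uG s X Y)⁻¹ = uG s X' Y' * (wG s F * dG s e') * (uG s X' Y')⁻¹ :=
        congrArg Subtype.val he
      have hact : ∀ (A B : F) (t : Fˣ), (uG s A B * (wG s F * dG s t) * (uG s A B)⁻¹) • pI F = pP s A B := by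
        intro A B t
        rw [mul_smul, mul_smul, uG_inv, uG_smul_pI, mul_smul, dG_smul_pI, wG_smul_pI, uG_smul_p00]
      have e2 := congrArg (· • pI F) e1
      simp only [hact] at e2
      obtain ⟨rfl, rfl⟩ := pP_inj e2
      have e3 := mul_left_cancel (mul_right_cancel e1)
      have e4 := mul_left_cancel e3
      rw [dG_inj e4]
    · rintro ⟨v, hv2, hvB⟩
      have hvp : v • pI F ∈ Ov s F := smul_mem_Ov' v pI_mem
      rcases hvp with h0 | ⟨X, Y, h0⟩
      · exact absurd (mem_Bor.mpr h0) hvB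
      · set u := uG s X Y with hu
        have hup : u • p00 s F = pP s X Y := uG_smul_p00 X Y
        have hui : u⁻¹ • pI F = pI F := by
          rw [hu, uG_inv, uG_smul_pI]
        have h1 : (wG s F * (u⁻¹ * v * u)) • pI F = pI F := by
          rw [mul_smul, mul_smul, mul_smul, hu, uG_smul_pI, h0, ← hu, ← hup, inv_smul_smul, wG_smul_p00]
        have h2 : (wG s F * (u⁻¹ * v * u)) • p00 s F = p00 s F := by
          have e5 : v • pP s X Y = pI F := by
            rw [← h0, ← mul_smul, hv2, one_smul]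
          rw [mul_smul, mul_smul, mul_smul, hup, e5, hui, wG_smul_pI]
        obtain ⟨e, he⟩ := stab2G h1 h2
        refine ⟨⟨(X, Y), e⟩, ?_⟩
        apply Subtype.ext
        show uG s X Y * (wG s F * dG s e) * (uG s X Y)⁻¹ = v
        have e6 : wG s F * (wG s F * (u⁻¹ * v * u)) = u⁻¹ * v * u := by
          rw [← mul_assoc, wG_mul_self, one_mul]
        rw [← he, ← hu, e6]
        group
  have e := Nat.card_congr (Equiv.ofBijective f hf)
  rw [← e, Nat.card_prod, Nat.card_prod, Nat.card_eq_fintype_card, Nat.card_eq_fintype_card, Fintype.card_units]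
  ring

section invol2
variable (hxU : x ∈ Uni s F) (hx1 : x ≠ 1) (hx2 : x * x = 1)
include hxU hx1 hx2

/-- For a finite point, the inverted elements fixing it. -/
lemma card_fix_at (X Y : F) :
    Nat.card {a : GG s F // a ∈ ZS x ∧ a • pP s X Y = pP s X Y} = Fintype.card F - 2 := by
  classical
  obtain ⟨p, hp⟩ : ∃ p, p = pP s X Y := ⟨_, rfl⟩
  rw [← hp]
  have hpOv : p ∈ Ov s F := hp ▸ pP_mem X Y
  have hxi : x⁻¹ = x := inv_eq_of_mul_eq_one_left hx2
  have hne : x • p ≠ p := by
    intro he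
    obtain ⟨A, B, e⟩ := hxU
    rw [hp, e] at he
    obtain ⟨rfl, rfl⟩ := uG_fix he
    exact hx1 (e.trans uG_zero)
  obtain ⟨g, hg1, hg2⟩ := exists_smul_pairG hpOv (smul_mem_Ov' x hpOv) hne.symm
  have hxx : x • (x • p) = p := by rw [← mul_smul, hx2, one_smul]
  have hfix2 : ∀ t : Fˣ, (g * dG s t * g⁻¹) • p = p ∧ (g * dG s t * g⁻¹) • (x • p) = x • p := by
    intro t
    constructor
    · rw [← hg1, mul_smul, mul_smul, inv_smul_smul, dG_smul_pI]
    · rw [← hg2, mul_smul, mul_smul, inv_smul_smul]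
      congr 1
      exact (dG_smul_pP t 0 0).trans (by simp)
  let f : {t : Fˣ // t ≠ 1} → {a : GG s F // a ∈ ZS x ∧ a • p = p} := fun t =>
    ⟨g * dG s t.1 * g⁻¹, by
      have h4 : (g * dG s t.1 * g⁻¹) ^ 4 ≠ 1 := by
        rw [conj_pow]
        intro he
        apply dG_pow4 (s := s) t.2
        have e : dG s t.1 ^ 4 = g⁻¹ * (g * dG s t.1 ^ 4 * g⁻¹) * g := by group
        rw [e, he]
        group
      refine ⟨⟨h4, ?_⟩, (hfix2 t.1).1⟩
      have hne1 : g * dG s t.1 * g⁻¹ ≠ 1 := pow4_ne_one h4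
      apply cc_ti_conj ccHypG h4 (self_mem_CC _) hne1
      rw [cc_conj, cc_dG t.2, mem_cj]
      apply mem_Tor_of_fix
      · have e1 : (g⁻¹ * (x * (g * dG s t.1 * g⁻¹) * x⁻¹) * g) • pI F = g⁻¹ • ((x * (g * dG s t.1 * g⁻¹) * x⁻¹) • p) := by
          rw [mul_smul, mul_smul, hg1]
        rw [e1, mul_smul, mul_smul, hxi, (hfix2 t.1).2, hxx, ← hg1, inv_smul_smul]
      · have e1 : (g⁻¹ * (x * (g * dG s t.1 * g⁻¹) * x⁻¹) * g) • p00 s F = g⁻¹ • ((x * (g * dG s t.1 * g⁻¹) * x⁻¹) • (x • p)) := by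
          rw [mul_smul, mul_smul, hg2]
        rw [e1, mul_smul, mul_smul, inv_smul_smul, (hfix2 t.1).1, ← hg2, inv_smul_smul]⟩
  have hf : Function.Bijective f := by
    constructor
    · intro t t' he
      have e : g * dG s t.1 * g⁻¹ = g * dG s t'.1 * g⁻¹ := congrArg Subtype.val he
      exact Subtype.ext (dG_inj (mul_left_cancel (mul_right_cancel e)))
    · rintro ⟨a, ha, hap⟩
      have hap' : a • (x • p) = x • p := by
        have hinv := ((mem_ZS_inv hxU hx1 hx2).mp ha).2
        have e1 : a⁻¹ • (x • p) = x • (a • p) := by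
          rw [← hinv, mul_smul, mul_smul, inv_smul_smul]
        rw [hap] at e1
        have e2 : a • (a⁻¹ • (x • p)) = a • (x • p) := by rw [e1]
        rw [smul_inv_smul] at e2
        exact e2.symm
      have h1 : (g⁻¹ * a * g) • pI F = pI F := by
        rw [mul_smul, mul_smul, hg1, hap, ← hg1, inv_smul_smul]
      have h2 : (g⁻¹ * a * g) • p00 s F = p00 s F := by
        rw [mul_smul, mul_smul, hg2, hap', ← hg2, inv_smul_smul]
      obtain ⟨t, ht⟩ := stab2G h1 h2
      have hae : a = g * dG s t * g⁻¹ := by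
        rw [← ht]
        group
      have ht1 : t ≠ 1 := by
        rintro rfl
        apply pow4_ne_one ha.1
        rw [hae, dG_one]
        group
      refine ⟨⟨t, ht1⟩, ?_⟩
      apply Subtype.ext
      exact hae.symm
  rw [← Nat.card_congr (Equiv.ofBijective f hf)]
  rw [Nat.card_eq_fintype_card, Fintype.card_subtype_compl, Fintype.card_units, Fintype.card_subtype_eq]
  have h2 : 2 ≤ Fintype.card F := Fintype.one_lt_card
  omega

/-- The finite points fixed by an element of `ZS x`. -/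
lemma card_fix_of (a : GG s F) (ha : a ∈ ZS x) :
    (Fpf s a → Nat.card {p : F × F // a • pP s p.1 p.2 = pP s p.1 p.2} = 0) ∧
    (¬ Fpf s a → Nat.card {p : F × F // a • pP s p.1 p.2 = pP s p.1 p.2} = 2) := by
  classical
  constructor
  · intro hF
    have : IsEmpty {p : F × F // a • pP s p.1 p.2 = pP s p.1 p.2} := ⟨fun p => hF _ (pP_mem _ _) p.2⟩
    exact Nat.card_of_isEmpty
  · intro hF
    obtain ⟨g, l, hl, e⟩ := (dich ha.1).resolve_left hF
    have hnot : ∀ q : P3 F, a • q = q → q ≠ pI F := by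
      rintro q hq rfl
      exact pow4_ne_one ha.1 (cc_inter_bor hxU hx1 ha (self_mem_CC a) (mem_Bor.mpr hq))
    have hf1 : a • (g • pI F) = g • pI F := by
      rw [e, mul_smul, mul_smul, inv_smul_smul, dG_smul_pI]
    have hf2 : a • (g • p00 s F) = g • p00 s F := by
      rw [e, mul_smul, mul_smul, inv_smul_smul]
      congr 1
      exact (dG_smul_pP l 0 0).trans (by simp)
    rcases smul_mem_Ov' g (pI_mem (s := s) (F := F)) with h1 | ⟨X₁, Y₁, h1⟩
    · exact absurd h1 (hnot _ hf1)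
    rcases smul_mem_Ov' g (pP_mem (s := s) (0 : F) 0) with h2 | ⟨X₂, Y₂, h2⟩
    · exact absurd h2 (hnot _ hf2)
    rw [h1] at hf1
    have h2' : g • p00 s F = pP s X₂ Y₂ := h2
    rw [h2'] at hf2
    have hne : (X₁, Y₁) ≠ (X₂, Y₂) := by
      intro he
      rw [Prod.mk.injEq] at he
      rw [he.1, he.2, ← h2'] at h1
      exact p00_ne (s := s) (smul_left_cancel g h1)
    have hset : {p : F × F | a • pP s p.1 p.2 = pP s p.1 p.2} = {(X₁, Y₁), (X₂, Y₂)} := by
      ext ⟨X, Y⟩
      simp only [Set.mem_setOf_eq, Set.mem_insert_iff, Set.mem_singleton_iff]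
      constructor
      · intro hfix
        have h3 : dG s l • (g⁻¹ • pP s X Y) = g⁻¹ • pP s X Y := by
          have : (g⁻¹ * a * g) = dG s l := by rw [e]; group
          rw [← this, mul_smul, mul_smul, smul_inv_smul, hfix]
        rcases fix_dG hl (smul_mem_Ov' g⁻¹ (pP_mem (s := s) X Y)) h3 with h4 | h4
        · left
          have : pP s X Y = g • pI F := by rw [← h4, smul_inv_smul]
          rw [h1] at this
          obtain ⟨rfl, rfl⟩ := pP_inj this
          rfl
        · right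
          have : pP s X Y = g • p00 s F := by rw [← h4, smul_inv_smul]
          rw [h2'] at this
          obtain ⟨rfl, rfl⟩ := pP_inj this
          rfl
      · rintro (he | he)
        · rw [Prod.mk.injEq] at he
          rw [he.1, he.2]
          exact hf1
        · rw [Prod.mk.injEq] at he
          rw [he.1, he.2]
          exact hf2
    have : Nat.card {p : F × F // a • pP s p.1 p.2 = pP s p.1 p.2} = ({p : F × F | a • pP s p.1 p.2 = pP s p.1 p.2}).ncard :=
      Nat.card_coe_set_eq _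
    rw [this, hset, Set.ncard_pair hne]

/-- The count for an involution. -/
theorem card_Sout_invol :
    Nat.card (Sout x) + Fintype.card F ^ 2 * (Fintype.card F - 2) = 4 * (Fintype.card F ^ 2 * (Fintype.card F - 1)) := by
  classical
  haveI := Fintype.ofFinite (GG s F)
  have hZ : Nat.card (ZS x) = Fintype.card F ^ 2 * (Fintype.card F - 1) := by
    rw [ZS_equiv hxU hx1 hx2, card_invol_off]
  have hZsum : ∑ a : GG s F, (if a ∈ ZS x then 1 else 0) = Fintype.card F ^ 2 * (Fintype.card F - 1) := by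
    rw [← hZ, Finset.sum_boole, Nat.card_coe_set_eq, Set.ncard_eq_toFinset_card']
    simp
  have hdc := double_count (α := F × F) (β := GG s F) (fun p a => a ∈ ZS x ∧ a • pP s p.1 p.2 = pP s p.1 p.2)
  have hL : ∑ p : F × F, Nat.card {a : GG s F // a ∈ ZS x ∧ a • pP s p.1 p.2 = pP s p.1 p.2} =
      Fintype.card F ^ 2 * (Fintype.card F - 2) := by
    rw [Finset.sum_congr rfl (fun p _ => card_fix_at hxU hx1 hx2 p.1 p.2), Finset.sum_const, Finset.card_univ,
      Fintype.card_prod, smul_eq_mul, pow_two]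
  have hR : ∀ a : GG s F, Nat.card {p : F × F // a ∈ ZS x ∧ a • pP s p.1 p.2 = pP s p.1 p.2} =
      if a ∈ ZS x then (if Fpf s a then 0 else 2) else 0 := by
    intro a
    split_ifs with ha hF
    · rw [← (card_fix_of hxU hx1 hx2 a ha).1 hF]
      exact Nat.card_congr (Equiv.subtypeEquivRight (fun p => ⟨fun h => h.2, fun h => ⟨ha, h⟩⟩))
    · rw [← (card_fix_of hxU hx1 hx2 a ha).2 hF]
      exact Nat.card_congr (Equiv.subtypeEquivRight (fun p => ⟨fun h => h.2, fun h => ⟨ha, h⟩⟩))
    · have : IsEmpty {p : F × F // a ∈ ZS x ∧ a • pP s p.1 p.2 = pP s p.1 p.2} := ⟨fun p => ha p.2.1⟩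
      exact Nat.card_of_isEmpty
  rw [hL, Finset.sum_congr rfl (fun a _ => hR a)] at hdc
  rw [card_Sout hxU hx1, hdc, ← hZsum, Finset.mul_sum, ← Finset.sum_add_distrib]
  apply Finset.sum_congr rfl
  intro a _
  by_cases ha : a ∈ ZS x
  · simp only [if_pos ha]
    by_cases hF : Fpf s a
    · simp only [if_pos hF, (PP_card hxU hx1 ha).1 hF]
      norm_num
    · simp only [if_neg hF, (PP_card hxU hx1 ha).2 hF]
      norm_num
  · simp [if_neg ha]

end invol2

end sz

end Cfsg.Agent.SzSub
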