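import Mathlib
import Cfsg.Agent.Lib.Sz.Sol2

/-!
Solubilizers in the Suzuki groups: the counts for elements of order four.
-/

set_option autoImplicit false
set_option linter.unusedSectionVars false
set_option linter.style.haveILetI false

namespace Cfsg.Agent.SzSub

open Cfsg.Agent.SzT Cfsg.Agent.S3391 Cfsg.Agent.S2238

section sz
variable {F : Type*} [Field F] [Fintype F] {s : ℕ} [h : SzF F s]

variable {x : GG s F}

lemma ZS_conj_mem {a : GG s F} (g : GG s F) (ha : a ∈ ZS x) : g * a * g⁻¹ ∈ ZS (g * x * g⁻¹) := by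
  refine ⟨?_, ?_⟩
  · rw [conj_pow]
    intro he
    apply ha.1
    have e : a ^ 4 = g⁻¹ * (g * a ^ 4 * g⁻¹) * g := by group
    rw [e, he]
    group
  · rw [cc_conj]
    have e2 : Subgroup.normalizer ((cj g (CC a) : Subgroup (GG s F)) : Set (GG s F)) =
        (Subgroup.normalizer ((CC a : Subgroup (GG s F)) : Set (GG s F))).map (MulAut.conj g).toMonoidHom :=
      (Subgroup.map_equiv_normalizer_eq _ _).symm
    rw [e2]
    exact ⟨x, ha.2, rfl⟩

lemma ZS_conj_card (g x : GG s F) : Nat.card (ZS (g * x * g⁻¹)) = Nat.card (ZS x) := by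
  symm
  have hb : ∀ a : ZS (g * x * g⁻¹), g⁻¹ * (a : GG s F) * g ∈ ZS x := by
    intro a
    have h1 := ZS_conj_mem g⁻¹ a.2
    have e : g⁻¹ * (g * x * g⁻¹) * g⁻¹⁻¹ = x := by group
    rw [e, inv_inv] at h1
    exact h1
  refine Nat.card_congr ⟨fun a => ⟨g * a * g⁻¹, ZS_conj_mem g a.2⟩, fun a => ⟨g⁻¹ * a * g, hb a⟩, ?_, ?_⟩
  · intro a
    apply Subtype.ext
    show g⁻¹ * (g * (a : GG s F) * g⁻¹) * g = a
    group
  · intro a
    apply Subtype.ext
    show g * (g⁻¹ * (a : GG s F) * g) * g⁻¹ = a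
    group

lemma ZS_inv_eq : ZS x⁻¹ = ZS x := by
  ext a
  simp only [ZS, Set.mem_setOf_eq, inv_mem_iff]

lemma uG_conj_formula (c a B : F) :
    uG s c 0 * uG s a B * (uG s c 0)⁻¹ = uG s a (B + c ^ s * a + a ^ s * c) := by
  have e0 : c + a + c = a := by
    rw [add_comm c a, add_assoc, add_self' (s := s), add_zero]
  rw [uG_inv, uG_mul, uG_mul, e0, h.add]
  congr 1
  have e1 : c ^ s * c + c ^ s * c = 0 := add_self' (s := s) _
  linear_combination e1

lemma L_ne_one (t : F) : t ^ s + t ≠ 1 := by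
  intro he
  have e1 : (t ^ s + t) ^ s = 1 := by rw [he, one_pow]
  rw [h.add, h.sq] at e1
  have e3 : t ^ s + t ^ s = 0 := add_self' (s := s) _
  have e4 : (1 : F) + 1 = 0 := add_self' (s := s) _
  have e2 : t * (t + 1) = 0 := by
    linear_combination e1 + he - e3 + e4
  rcases mul_eq_zero.mp e2 with h0 | h1
  · rw [h0, s_zero, add_zero] at he
    exact zero_ne_one he
  · have h1' : t = 1 := by linear_combination h1 - e4
    rw [h1', one_pow, e4] at he
    exact zero_ne_one he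

lemma L_split (d : F) : (∃ t : F, t ^ s + t = d) ∨ (∃ t : F, t ^ s + t = d + 1) := by
  let L : F →+ F := AddMonoidHom.mk' (fun t => t ^ s + t) (by
    intro a b
    simp only [h.add]
    ring)
  have hL : ∀ t, L t = t ^ s + t := fun t => rfl
  have hkerset : (L.ker : Set F) = {0, 1} := by
    ext t
    simp only [SetLike.mem_coe, AddMonoidHom.mem_ker, hL, Set.mem_insert_iff, Set.mem_singleton_iff]
    constructor
    · intro he
      apply s_fix (s := s)
      have e3 : t + t = 0 := add_self' (s := s) _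
      linear_combination he - e3
    · rintro (rfl | rfl)
      · rw [s_zero, add_zero]
      · rw [one_pow]
        exact add_self' (s := s) _
  have hker : Nat.card L.ker = 2 := by
    have e : Nat.card L.ker = ((L.ker : Set F)).ncard := (Nat.card_coe_set_eq _)
    rw [e, hkerset, Set.ncard_pair zero_ne_one]
  have hidx : L.range.index = 2 := by
    have h1 := AddSubgroup.card_mul_index L.ker
    have h2 := AddSubgroup.index_ker L
    have h3 := AddSubgroup.card_mul_index L.range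
    rw [hker, h2] at h1
    have hpos : 0 < Nat.card L.range := Nat.card_pos
    apply Nat.eq_of_mul_eq_mul_left hpos
    rw [h3, ← h1]
    ring
  by_cases hd : d ∈ L.range
  · left
    obtain ⟨t, ht⟩ := hd
    exact ⟨t, ht⟩
  · right
    have h1 : (1 : F) ∉ L.range := by
      rintro ⟨t, ht⟩
      exact L_ne_one t ht
    have h2 : d + 1 ∈ L.range := (AddSubgroup.add_mem_iff_of_index_two hidx).mpr (iff_of_false hd h1)
    obtain ⟨t, ht⟩ := h2
    exact ⟨t, ht⟩

lemma ZS_const {a : F} (ha : a ≠ 0) (b b' : F) : Nat.card (ZS (uG s a b)) = Nat.card (ZS (uG s a b')) := by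
  set ε := a ^ s * a with hε
  have hε0 : ε ≠ 0 := mul_ne_zero (pow_ne_zero _ ha) ha
  have hform : ∀ t : F, (a * t) ^ s * a + a ^ s * (a * t) = ε * (t ^ s + t) := by
    intro t
    rw [mul_pow, hε]
    ring
  rcases L_split (s := s) ((b' + b) / ε) with ⟨t, ht⟩ | ⟨t, ht⟩
  · have e1 : ε * (t ^ s + t) = b' + b := by
      rw [ht]
      field_simp
    have e2 : uG s (a * t) 0 * uG s a b * (uG s (a * t) 0)⁻¹ = uG s a b' := by
      rw [uG_conj_formula]
      congr 1
      have e3 : b + b = 0 := add_self' (s := s) _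
      have e4 := hform t
      linear_combination e4 + e1 + e3
    rw [← e2, ZS_conj_card]
  · have e1 : ε * (t ^ s + t) = b' + b + ε := by
      rw [ht]
      field_simp
    have e2 : uG s (a * t) 0 * uG s a b * (uG s (a * t) 0)⁻¹ = (uG s a b')⁻¹ := by
      rw [uG_conj_formula, uG_inv]
      congr 1
      have e3 : b + b = 0 := add_self' (s := s) _
      have e4 := hform t
      linear_combination e4 + e1 + e3
    have e5 : ZS (uG s a b') = ZS (uG s a b')⁻¹ := ZS_inv_eq.symm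
    rw [e5, ← e2, ZS_conj_card]

lemma uG_zero_ne_one {c : F} (hc : c ≠ 0) : uG s (0 : F) c ≠ 1 := by
  intro he
  rw [← uG_zero (s := s) (F := F)] at he
  exact hc (uG_inj he).2

lemma uG_ne_one {a b : F} (ha : a ≠ 0) : uG s a b ≠ 1 := by
  intro he
  rw [← uG_zero (s := s) (F := F)] at he
  exact ha (uG_inj he).1

/-- two involutions of `PP c` coincide -/
lemma invol_unique (hxU : x ∈ Uni s F) (hx1 : x ≠ 1) (hx2 : x * x = 1) {c u : GG s F} (hc : c ∈ ZS x)
    (hu : u ∈ PP c) (hu1 : u ≠ 1) (hu2 : u * u = 1) : u = x := by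
  have hu' := PP_le_uni hxU hx1 hc hu
  have e1 := ((mem_ZS_inv hu' hu1 hu2).mp ⟨hc.1, hu.1⟩).2
  have e2 := ((mem_ZS_inv hxU hx1 hx2).mp hc).2
  have hcomm : u * x ∈ CC c := by
    rw [mem_CC]
    have e3 : (u * x) * c * (u * x)⁻¹ = c := by
      calc (u * x) * c * (u * x)⁻¹ = u * (x * c * x⁻¹) * u⁻¹ := by group
        _ = u * c⁻¹ * u⁻¹ := by rw [e2]
        _ = (u * c * u⁻¹)⁻¹ := by group
        _ = c := by rw [e1, inv_inv]
    rw [mul_inv_eq_iff_eq_mul] at e3
    exact e3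
  have h1 := cc_inter_bor hxU hx1 hc hcomm (mul_mem hu.2 (Uni_le_Bor hxU))
  exact (mul_eq_one_iff_eq_inv.mp h1).trans (inv_eq_of_mul_eq_one_left hx2)

lemma card_A {a : F} (ha : a ≠ 0) {c : GG s F} (hc : c ∈ ZS (uG s (0 : F) (a ^ s * a))) :
    Nat.card {b : F // c ∈ ZS (uG s a b)} + 2 = Nat.card (PP c) := by
  classical
  have hε0 : a ^ s * a ≠ 0 := mul_ne_zero (pow_ne_zero _ ha) ha
  obtain ⟨x₀, hx₀⟩ : ∃ x₀, x₀ = uG s (0 : F) (a ^ s * a) := ⟨_, rfl⟩
  rw [← hx₀] at hc
  have hxU : x₀ ∈ Uni s F := hx₀ ▸ uG_mem_Uni _ _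
  have hx1 : x₀ ≠ 1 := hx₀ ▸ uG_zero_ne_one hε0
  have hx2 : x₀ * x₀ = 1 := hx₀ ▸ uG_zero_sq _
  have hne : ∀ b, uG s a b ≠ x₀ := by
    intro b he
    rw [hx₀] at he
    exact ha (uG_inj he).1
  let T : Set (GG s F) := (PP c : Set (GG s F)) \ {1, x₀}
  let f : {b : F // c ∈ ZS (uG s a b)} → T := fun b =>
    ⟨uG s a b.1, ⟨b.2.2, Uni_le_Bor (uG_mem_Uni _ _)⟩, by
      rintro (he | he)
      · exact uG_ne_one ha he
      · exact hne _ he⟩
  have hf : Function.Bijective f := by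
    constructor
    · intro b b' he
      have e : uG s a b.1 = uG s a b'.1 := congrArg Subtype.val he
      exact Subtype.ext (uG_inj e).2
    · rintro ⟨z, hz, hzn⟩
      have hz1 : z ≠ 1 := fun he => hzn (Or.inl he)
      have hzx : z ≠ x₀ := fun he => hzn (Or.inr he)
      obtain ⟨A, B, e⟩ := PP_le_uni hxU hx1 hc hz
      have hA0 : A ≠ 0 := by
        rintro rfl
        exact hzx (invol_unique hxU hx1 hx2 hc hz hz1 (e ▸ uG_zero_sq B))
      have hzz : z * z = uG s (0 : F) (A ^ s * A) := by rw [e, uG_sq]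
      have hAε : A ^ s * A ≠ 0 := mul_ne_zero (pow_ne_zero _ hA0) hA0
      have h1 : z * z = x₀ := by
        apply invol_unique hxU hx1 hx2 hc (mul_mem hz hz)
        · rw [hzz]
          exact uG_zero_ne_one hAε
        · rw [hzz]
          exact uG_zero_sq _
      rw [hzz, hx₀] at h1
      have hAa : A = a := sq_inj_U (uG_inj h1).2
      subst hAa
      refine ⟨⟨B, hc.1, ?_⟩, ?_⟩
      · rw [← e]
        exact hz.1
      · apply Subtype.ext
        exact e.symm
  rw [Nat.card_congr (Equiv.ofBijective f hf)]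
  have hsub : ({1, x₀} : Set (GG s F)) ⊆ (PP c : Set (GG s F)) := by
    rintro w (rfl | rfl)
    · exact one_mem _
    · exact x_mem_PP hxU hc
  have e3 := Set.ncard_diff_add_ncard_of_subset hsub
  rw [Set.ncard_pair hx1.symm] at e3
  have e4 : Nat.card (PP c) = ((PP c : Set (GG s F))).ncard := Nat.card_coe_set_eq _
  rw [e4, ← e3]
  congr 1

lemma card_ZS_invol (hxU : x ∈ Uni s F) (hx1 : x ≠ 1) (hx2 : x * x = 1) :
    Nat.card (ZS x) = Fintype.card F ^ 2 * (Fintype.card F - 1) := by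
  rw [ZS_equiv hxU hx1 hx2, card_invol_off]

/-- the count of the inverted elements for an element of order four -/
theorem card_ZS_four {a : F} (ha : a ≠ 0) (b : F) : Nat.card (ZS (uG s a b)) = Fintype.card F ^ 2 := by
  classical
  haveI := Fintype.ofFinite (GG s F)
  have hε0 : a ^ s * a ≠ 0 := mul_ne_zero (pow_ne_zero _ ha) ha
  obtain ⟨x₀, hx₀⟩ : ∃ x₀, x₀ = uG s (0 : F) (a ^ s * a) := ⟨_, rfl⟩
  have hxU : x₀ ∈ Uni s F := hx₀ ▸ uG_mem_Uni _ _
  have hx1 : x₀ ≠ 1 := hx₀ ▸ uG_zero_ne_one hε0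
  have hx2 : x₀ * x₀ = 1 := hx₀ ▸ uG_zero_sq _
  have hsq : ∀ B, uG s a B * uG s a B = x₀ := by
    intro B
    rw [uG_sq, hx₀]
  have hsub : ∀ B {c : GG s F}, c ∈ ZS (uG s a B) → c ∈ ZS x₀ := by
    intro B c hc
    refine ⟨hc.1, ?_⟩
    rw [← hsq B]
    exact mul_mem hc.2 hc.2
  have hdc := double_count (α := F) (β := GG s F) (fun B c => c ∈ ZS (uG s a B))
  have hL : ∑ B : F, Nat.card {c : GG s F // c ∈ ZS (uG s a B)} = Fintype.card F * Nat.card (ZS (uG s a b)) := by
    have e : ∀ B : F, Nat.card {c : GG s F // c ∈ ZS (uG s a B)} = Nat.card (ZS (uG s a b)) := fun B => ZS_const ha B b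
    rw [Finset.sum_congr rfl (fun B _ => e B), Finset.sum_const, Finset.card_univ, smul_eq_mul]
  have hR : ∀ c : GG s F, (if c ∈ ZS x₀ then Nat.card (PP c) else 0) =
      Nat.card {B : F // c ∈ ZS (uG s a B)} + 2 * (if c ∈ ZS x₀ then 1 else 0) := by
    intro c
    by_cases hc : c ∈ ZS x₀
    · rw [if_pos hc, if_pos hc, ← card_A ha (hx₀ ▸ hc)]
    · rw [if_neg hc, if_neg hc]
      have : IsEmpty {B : F // c ∈ ZS (uG s a B)} := ⟨fun B => hc (hsub _ B.2)⟩
      rw [Nat.card_of_isEmpty]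
  have hZ := card_ZS_invol hxU hx1 hx2
  have hZsum : ∑ c : GG s F, (if c ∈ ZS x₀ then 1 else 0) = Fintype.card F ^ 2 * (Fintype.card F - 1) := by
    rw [← hZ, Finset.sum_boole, Nat.card_coe_set_eq, Set.ncard_eq_toFinset_card']
    simp
  have hS := card_Sout hxU hx1
  rw [Finset.sum_congr rfl (fun c _ => hR c), Finset.sum_add_distrib, ← Finset.mul_sum, hZsum, ← hdc, hL] at hS
  have hinv := card_Sout_invol hxU hx1 hx2
  rw [hS] at hinv
  set q := Fintype.card F with hq
  have hq2 : 2 ≤ q := Fintype.one_lt_card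
  obtain ⟨v, hv⟩ : ∃ v, q = v + 2 := ⟨q - 2, by omega⟩
  have e1 : q - 1 = v + 1 := by omega
  have e2 : q - 2 = v := by omega
  rw [e1, e2] at hinv
  have hqpos : 0 < q := by omega
  apply Nat.eq_of_mul_eq_mul_left hqpos
  rw [hv] at hinv ⊢
  nlinarith

/-- the outer solubilizer count for an element of order four -/
theorem card_Sout_four {a : F} (ha : a ≠ 0) (b : F) : Nat.card (Sout (uG s a b)) = 4 * Fintype.card F ^ 2 := by
  classical
  haveI := Fintype.ofFinite (GG s F)
  have hxU : uG s a b ∈ Uni s F := uG_mem_Uni _ _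
  have hx1 : uG s a b ≠ 1 := uG_ne_one ha
  have hx2 : uG s a b * uG s a b ≠ 1 := by
    rw [uG_sq]
    exact uG_zero_ne_one (mul_ne_zero (pow_ne_zero _ ha) ha)
  have hZsum : ∑ c : GG s F, (if c ∈ ZS (uG s a b) then 1 else 0) = Nat.card (ZS (uG s a b)) := by
    rw [Finset.sum_boole, Nat.card_coe_set_eq, Set.ncard_eq_toFinset_card']
    simp
  rw [card_Sout hxU hx1, ← card_ZS_four (s := s) ha b, ← hZsum, Finset.mul_sum]
  apply Finset.sum_congr rfl
  intro c _
  split_ifs with hc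
  · rw [PP_card_four hxU hx2 hc, mul_one]
  · rfl

end sz

end Cfsg.Agent.SzSub
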