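import Mathlib
import Cfsg.Agent.Lib.Sz.Sol3

/-!
Solubilizers in the Suzuki groups: the counts from the structure of the two-generator solvable subgroups.
-/

set_option autoImplicit false
set_option linter.unusedSectionVars false
set_option linter.style.haveILetI false

namespace Cfsg.Agent.SzSub

open Cfsg.Agent.SzT Cfsg.Agent.S3391 Cfsg.Agent.S2238

section sz
variable {F : Type*} [Field F] [Fintype F] {s : ℕ} [h : SzF F s]

variable {x : GG s F}

/-- the structure of the two-generator solvable subgroups -/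
def SolvHyp (s : ℕ) (F : Type*) [Field F] [Fintype F] [SzF F s] : Prop :=
  ∀ x y : GG s F, Group.IsSolvable (Subgroup.closure ({x, y} : Set (GG s F))) ↔
    (∃ g, x ∈ cj g (Bor s F) ∧ y ∈ cj g (Bor s F)) ∨
    (∃ z : GG s F, z ^ 4 ≠ 1 ∧ x ∈ Subgroup.normalizer ((CC z : Subgroup (GG s F)) : Set (GG s F)) ∧
      y ∈ Subgroup.normalizer ((CC z : Subgroup (GG s F)) : Set (GG s F)))

lemma mem_cj_Bor {g y : GG s F} : y ∈ cj g (Bor s F) ↔ y • (g • pI F) = g • pI F := by
  rw [mem_cj, mem_Bor, mul_smul, mul_smul]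
  constructor
  · intro he
    have e := congrArg (fun p => g • p) he
    simpa using e
  · intro he
    rw [he, inv_smul_smul]

lemma mem_cj_one {y : GG s F} {H : Subgroup (GG s F)} (hy : y ∈ H) : y ∈ cj 1 H := by
  rw [mem_cj]
  simpa using hy

lemma sol_iff_uni (hS : SolvHyp s F) (hxU : x ∈ Uni s F) (hx1 : x ≠ 1) (y : GG s F) :
    Group.IsSolvable (Subgroup.closure ({x, y} : Set (GG s F))) ↔ y ∈ Bor s F ∨ y ∈ Sout x := by
  rw [hS]
  constructor
  · rintro (⟨g, h1, h2⟩ | ⟨z, hz, h1, h2⟩)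
    · left
      rw [mem_cj_Bor] at h1 h2
      rcases smul_mem_Ov' g (pI_mem (s := s) (F := F)) with h0 | ⟨X, Y, h0⟩
      · rw [h0] at h2
        exact mem_Bor.mpr h2
      · exfalso
        rw [h0] at h1
        obtain ⟨A, B, e⟩ := hxU
        rw [e] at h1
        obtain ⟨rfl, rfl⟩ := uG_fix h1
        exact hx1 (e.trans uG_zero)
    · by_cases hy : y ∈ Bor s F
      · exact Or.inl hy
      · exact Or.inr ⟨hy, z, hz, h1, h2⟩
  · rintro (hy | ⟨-, z, hz, h1, h2⟩)
    · exact Or.inl ⟨1, mem_cj_one (Uni_le_Bor hxU), mem_cj_one hy⟩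
    · exact Or.inr ⟨z, hz, h1, h2⟩

lemma card_sub_ncard {G : Type*} [Group G] (H : Subgroup G) : ((H : Set G)).ncard = Nat.card H :=
  (Nat.card_coe_set_eq _).symm

theorem sol_card_uni (hS : SolvHyp s F) (hxU : x ∈ Uni s F) (hx1 : x ≠ 1) :
    Nat.card {y : GG s F // Group.IsSolvable (Subgroup.closure ({x, y} : Set (GG s F)))} =
      Fintype.card F ^ 2 * (Fintype.card F - 1) + Nat.card (Sout x) := by
  have e : {y : GG s F | Group.IsSolvable (Subgroup.closure ({x, y} : Set (GG s F)))} =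
      (Bor s F : Set (GG s F)) ∪ Sout x := by
    ext y
    exact sol_iff_uni hS hxU hx1 y
  have e1 : Nat.card {y : GG s F // Group.IsSolvable (Subgroup.closure ({x, y} : Set (GG s F)))} =
      ({y : GG s F | Group.IsSolvable (Subgroup.closure ({x, y} : Set (GG s F)))}).ncard :=
    Nat.card_coe_set_eq _
  have hdis : Disjoint (Bor s F : Set (GG s F)) (Sout x) := by
    rw [Set.disjoint_left]
    intro y hy hy'
    exact hy'.1 hy
  rw [e1, e, Set.ncard_union_eq hdis, card_sub_ncard, card_Bor, Nat.card_coe_set_eq]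

/-- an element with a fixed point of order four or two: conjugate into the unipotent group -/
lemma pow4_conj_uni {a : GG s F} (h4 : a ^ 4 = 1) : ∃ (g : GG s F) (A B : F), a = g * uG s A B * g⁻¹ := by
  haveI : Fact (Nat.Prime 2) := ⟨Nat.prime_two⟩
  have hp : IsPGroup 2 (Subgroup.zpowers a) := by
    have hd : orderOf a ∣ 2 ^ 2 := orderOf_dvd_of_pow_eq_one h4
    obtain ⟨j, -, e⟩ := (Nat.dvd_prime_pow Nat.prime_two).mp hd
    exact IsPGroup.of_card (n := j) (by rw [Nat.card_zpowers, e])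
  obtain ⟨P, hP⟩ := hp.exists_le_sylow
  obtain ⟨g, hg⟩ := sylow_eq P
  have ha : a ∈ cj g (Uni s F) := hg ▸ hP (Subgroup.mem_zpowers a)
  rw [mem_cj] at ha
  obtain ⟨A, B, e⟩ := ha
  refine ⟨g, A, B, ?_⟩
  rw [← e]
  group

theorem sol_card_invol (hS : SolvHyp s F) (hx1 : x ≠ 1) (hx2 : x * x = 1) :
    Nat.card {y : GG s F // Group.IsSolvable (Subgroup.closure ({x, y} : Set (GG s F)))} =
      Fintype.card F ^ 2 * (4 * Fintype.card F - 3) := by
  obtain ⟨g, c, hc, e⟩ := order2_conj hx1 hx2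
  have hc1 : uG s (0 : F) c ≠ 1 := uG_zero_ne_one hc
  have hinv := card_Sout_invol (uG_mem_Uni (s := s) (0 : F) c) hc1 (uG_zero_sq c)
  have e1 := sol_card_equiv (MulAut.conj g) (uG s (0 : F) c)
  have e2 : (MulAut.conj g) (uG s (0 : F) c) = x := by
    rw [e]
    rfl
  rw [e2] at e1
  rw [e1, sol_card_uni hS (uG_mem_Uni _ _) hc1]
  set q := Fintype.card F with hq
  have hq2 : 2 ≤ q := Fintype.one_lt_card
  obtain ⟨v, hv⟩ : ∃ v, q = v + 2 := ⟨q - 2, by omega⟩
  have e3 : q - 1 = v + 1 := by omega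
  have e4 : q - 2 = v := by omega
  have e5 : 4 * q - 3 = 4 * v + 5 := by omega
  rw [e3, e4] at hinv
  rw [e3, e5]
  rw [hv] at hinv ⊢
  nlinarith

theorem sol_card_four (hS : SolvHyp s F) (h4 : x ^ 4 = 1) (hx2 : x * x ≠ 1) :
    Nat.card {y : GG s F // Group.IsSolvable (Subgroup.closure ({x, y} : Set (GG s F)))} =
      Fintype.card F ^ 2 * (Fintype.card F + 3) := by
  obtain ⟨g, A, B, e⟩ := pow4_conj_uni h4
  have hA : A ≠ 0 := by
    rintro rfl
    apply hx2
    rw [e]
    have : g * uG s (0 : F) B * g⁻¹ * (g * uG s (0 : F) B * g⁻¹) = g * (uG s (0 : F) B * uG s (0 : F) B) * g⁻¹ := by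
      group
    rw [this, uG_zero_sq]
    group
  have e1 := sol_card_equiv (MulAut.conj g) (uG s A B)
  have e2 : (MulAut.conj g) (uG s A B) = x := by
    rw [e]
    rfl
  rw [e2] at e1
  rw [e1, sol_card_uni hS (uG_mem_Uni _ _) (uG_ne_one hA), card_Sout_four hA]
  set q := Fintype.card F with hq
  have hq2 : 2 ≤ q := Fintype.one_lt_card
  obtain ⟨v, hv⟩ : ∃ v, q = v + 1 := ⟨q - 1, by omega⟩
  have e3 : q - 1 = v := by omega
  rw [e3, hv]
  ring

/-! ### semisimple elements -/

lemma wG_mem_norm : wG s F ∈ Subgroup.normalizer ((TorA s F : Subgroup (GG s F)) : Set (GG s F)) := by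
  obtain ⟨l, hl⟩ := exists_unit_ne_one (F := F) (s := s)
  have h1 : wG s F * dG s l * (wG s F)⁻¹ ∈ CC (dG s l) := by
    rw [wG_inv, wG_conj_dG, cc_dG hl]
    exact dG_mem_TorA _
  have := cc_ti_conj ccHypG (dG_pow4 hl) (self_mem_CC _) (dG_ne_one hl) h1
  rwa [cc_dG hl] at this

lemma TorA_fix_pI {t : GG s F} (ht : t ∈ TorA s F) : t • pI F = pI F := by
  obtain ⟨r, rfl⟩ := mem_TorA.mp ht
  exact dG_smul_pI r

lemma dG_smul_p00 (t : Fˣ) : dG s t • p00 s F = p00 s F :=
  (dG_smul_pP t 0 0).trans (by simp)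

lemma TorA_fix_p00 {t : GG s F} (ht : t ∈ TorA s F) : t • p00 s F = p00 s F := by
  obtain ⟨r, rfl⟩ := mem_TorA.mp ht
  exact dG_smul_p00 r

lemma p00_mem : p00 s F ∈ Ov s F := pP_mem 0 0

lemma norm_TorA_mem {y : GG s F} (hy : y ∈ Subgroup.normalizer ((TorA s F : Subgroup (GG s F)) : Set (GG s F))) :
    y ∈ TorA s F ∨ ∃ t ∈ TorA s F, y = wG s F * t := by
  obtain ⟨l, hl⟩ := exists_unit_ne_one (F := F) (s := s)
  have hyi := inv_mem hy
  have ht : y⁻¹ * dG s l * y ∈ TorA s F := by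
    have := (Subgroup.mem_normalizer_iff.mp hyi (dG s l)).mp (dG_mem_TorA l)
    rwa [inv_inv] at this
  have key : ∀ p ∈ Ov s F, (y⁻¹ * dG s l * y) • p = p → y • p = pI F ∨ y • p = p00 s F := by
    intro p hp hfix
    apply fix_dG hl (smul_mem_Ov' y hp)
    have e : dG s l = y * (y⁻¹ * dG s l * y) * y⁻¹ := by group
    rw [e, mul_smul, mul_smul, inv_smul_smul, hfix]
  have h1 := key _ pI_mem (TorA_fix_pI ht)
  have h2 := key _ p00_mem (TorA_fix_p00 ht)
  rcases h1 with h1 | h1
  · left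
    rcases h2 with h2 | h2
    · exfalso
      have := smul_left_cancel y (h1.trans h2.symm)
      exact p00_ne (s := s) this
    · exact mem_Tor_of_fix h1 h2
  · right
    rcases h2 with h2 | h2
    · refine ⟨wG s F * y, mem_Tor_of_fix ?_ ?_, ?_⟩
      · rw [mul_smul, h1, wG_smul_p00]
      · rw [mul_smul, h2, wG_smul_pI]
      · rw [← mul_assoc, wG_mul_self, one_mul]
    · exfalso
      have := smul_left_cancel y (h1.trans h2.symm)
      exact p00_ne (s := s) this

lemma sol_iff_dG (hS : SolvHyp s F) {l : Fˣ} (hl : l ≠ 1) (y : GG s F) :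
    Group.IsSolvable (Subgroup.closure ({dG s l, y} : Set (GG s F))) ↔
      y ∈ Bor s F ∨ y • p00 s F = p00 s F ∨ y ∈ Subgroup.normalizer ((TorA s F : Subgroup (GG s F)) : Set (GG s F)) := by
  rw [hS]
  constructor
  · rintro (⟨g, h1, h2⟩ | ⟨z, hz, h1, h2⟩)
    · rw [mem_cj_Bor] at h1 h2
      rcases fix_dG hl (smul_mem_Ov' g (pI_mem (s := s) (F := F))) h1 with e | e
      · rw [e] at h2
        exact Or.inl (mem_Bor.mpr h2)
      · rw [e] at h2
        exact Or.inr (Or.inl h2)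
    · right
      right
      have hp := pow4_of_norm ccHypG hz h1
      have e1 := cc_ti hz hp (dG_pow4 hl)
      have hmem : dG s l ∈ CC (dG s l ^ 4) := by
        rw [mem_CC]
        exact (Commute.pow_right (Commute.refl _) 4).eq
      rw [e1] at hmem
      have e2 := cc_ti hz hmem (dG_ne_one hl)
      rw [cc_dG hl] at e2
      rw [e2]
      exact h2
  · rintro (hy | hy | hy)
    · exact Or.inl ⟨1, mem_cj_one (dG_mem_Bor l), mem_cj_one hy⟩
    · refine Or.inl ⟨wG s F, ?_, ?_⟩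
      · rw [mem_cj_Bor, wG_smul_pI]
        exact dG_smul_p00 l
      · rw [mem_cj_Bor, wG_smul_pI]
        exact hy
    · refine Or.inr ⟨dG s l, dG_pow4 hl, Subgroup.le_normalizer (self_mem_CC _), ?_⟩
      rw [cc_dG hl]
      exact hy

theorem sol_card_dG (hS : SolvHyp s F) {l : Fˣ} (hl : l ≠ 1) :
    Nat.card {y : GG s F // Group.IsSolvable (Subgroup.closure ({dG s l, y} : Set (GG s F)))} =
      2 * (Fintype.card F ^ 2 * (Fintype.card F - 1)) := by
  classical
  let S1 : Set (GG s F) := (Bor s F : Set (GG s F))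
  let S2 : Set (GG s F) := {y | y • p00 s F = p00 s F}
  let T : Set (GG s F) := {y | ∃ t ∈ TorA s F, y = wG s F * t}
  have e : {y : GG s F | Group.IsSolvable (Subgroup.closure ({dG s l, y} : Set (GG s F)))} = (S1 ∪ S2) ∪ T := by
    ext y
    show Group.IsSolvable (Subgroup.closure ({dG s l, y} : Set (GG s F))) ↔ _
    rw [sol_iff_dG hS hl]
    constructor
    · rintro (hy | hy | hy)
      · exact Or.inl (Or.inl hy)
      · exact Or.inl (Or.inr hy)
      · rcases norm_TorA_mem hy with hy | hy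
        · exact Or.inl (Or.inl (mem_Bor.mpr (TorA_fix_pI hy)))
        · exact Or.inr hy
    · rintro ((hy | hy) | ⟨t, ht, rfl⟩)
      · exact Or.inl hy
      · exact Or.inr (Or.inl hy)
      · exact Or.inr (Or.inr (mul_mem wG_mem_norm (Subgroup.le_normalizer ht)))
  have e1 : Nat.card {y : GG s F // Group.IsSolvable (Subgroup.closure ({dG s l, y} : Set (GG s F)))} =
      ({y : GG s F | Group.IsSolvable (Subgroup.closure ({dG s l, y} : Set (GG s F)))}).ncard :=
    Nat.card_coe_set_eq _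
  have hdis : Disjoint (S1 ∪ S2) T := by
    rw [Set.disjoint_left]
    rintro y (hy | hy) ⟨t, ht, rfl⟩
    · have := mem_Bor.mp hy
      rw [mul_smul, TorA_fix_pI ht, wG_smul_pI] at this
      exact p00_ne (s := s) this.symm
    · have : (wG s F * t) • p00 s F = p00 s F := hy
      rw [mul_smul, TorA_fix_p00 ht, wG_smul_p00] at this
      exact p00_ne (s := s) this
  have hT : T.ncard = Nat.card (TorA s F) := by
    have eT : T = (fun t => wG s F * t) '' (TorA s F : Set (GG s F)) := by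
      ext y
      constructor
      · rintro ⟨t, ht, rfl⟩
        exact ⟨t, ht, rfl⟩
      · rintro ⟨t, ht, rfl⟩
        exact ⟨t, ht, rfl⟩
    rw [eT, Set.ncard_image_of_injective _ (mul_right_injective _), card_sub_ncard]
  have hS2 : S2.ncard = Nat.card (Bor s F) := by
    have eT : S2 = (fun t => wG s F * t * (wG s F)⁻¹) '' (Bor s F : Set (GG s F)) := by
      ext y
      constructor
      · intro hy
        have hy' : y • p00 s F = p00 s F := hy
        refine ⟨(wG s F)⁻¹ * y * wG s F, ?_, by group⟩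
        show ((wG s F)⁻¹ * y * wG s F) ∈ Bor s F
        rw [mem_Bor, mul_smul, mul_smul, wG_smul_pI, hy', wG_inv, wG_smul_p00]
      · rintro ⟨t, ht, rfl⟩
        have ht' : t • pI F = pI F := mem_Bor.mp ht
        show (wG s F * t * (wG s F)⁻¹) • p00 s F = p00 s F
        rw [mul_smul, mul_smul, wG_inv, wG_smul_p00, ht', wG_smul_pI]
    have hinj : Function.Injective (fun t : GG s F => wG s F * t * (wG s F)⁻¹) := by
      intro a b he
      exact mul_left_cancel (mul_right_cancel he)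
    rw [eT, Set.ncard_image_of_injective _ hinj, card_sub_ncard]
  have hI : (S1 ∩ S2).ncard = Nat.card (TorA s F) := by
    have eI : S1 ∩ S2 = (TorA s F : Set (GG s F)) := by
      ext y
      constructor
      · rintro ⟨h1, h2⟩
        exact mem_Tor_of_fix (mem_Bor.mp h1) h2
      · intro hy
        exact ⟨mem_Bor.mpr (TorA_fix_pI hy), TorA_fix_p00 hy⟩
    rw [eI, card_sub_ncard]
  have hU := Set.ncard_union_add_ncard_inter S1 S2
  rw [e1, e, Set.ncard_union_eq hdis, hT]
  rw [hI, hS2] at hU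
  have hS1 : S1.ncard = Nat.card (Bor s F) := card_sub_ncard _
  rw [hS1] at hU
  rw [hU, card_Bor]
  ring

lemma sol_iff_fpf (hS : SolvHyp s F) (hx : Fpf s x) (y : GG s F) :
    Group.IsSolvable (Subgroup.closure ({x, y} : Set (GG s F))) ↔
      y ∈ Subgroup.normalizer ((CC x : Subgroup (GG s F)) : Set (GG s F)) := by
  have hx1 : x ≠ 1 := by
    rintro rfl
    exact hx _ (pI_mem (s := s) (F := F)) (one_smul _ _)
  have hx4 : x ^ 4 ≠ 1 := by
    intro he
    obtain ⟨g, A, B, e⟩ := pow4_conj_uni he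
    apply hx _ (smul_mem_Ov' g (pI_mem (s := s) (F := F)))
    rw [e, mul_smul, mul_smul, inv_smul_smul, uG_smul_pI]
  rw [hS]
  constructor
  · rintro (⟨g, h1, h2⟩ | ⟨z, hz, h1, h2⟩)
    · exfalso
      rw [mem_cj_Bor] at h1
      exact hx _ (smul_mem_Ov' g (pI_mem (s := s) (F := F))) h1
    · have hp := pow4_of_norm ccHypG hz h1
      have e1 := cc_ti hz hp hx4
      have hmem : x ∈ CC (x ^ 4) := by
        rw [mem_CC]
        exact (Commute.pow_right (Commute.refl _) 4).eq
      rw [e1] at hmem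
      have e2 := cc_ti hz hmem hx1
      rw [e2]
      exact h2
  · intro hy
    exact Or.inr ⟨x, hx4, Subgroup.le_normalizer (self_mem_CC _), hy⟩

theorem sol_card_fpf (hS : SolvHyp s F) (hx : Fpf s x) :
    Nat.card {y : GG s F // Group.IsSolvable (Subgroup.closure ({x, y} : Set (GG s F)))} = 4 * Nat.card (CC x) := by
  rw [← fpf_index hx]
  exact Nat.card_congr (Equiv.subtypeEquivRight (fun y => sol_iff_fpf hS hx y))

theorem sol_card_nonfpf (hS : SolvHyp s F) (h4 : x ^ 4 ≠ 1) (hx : ¬ Fpf s x) :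
    Nat.card {y : GG s F // Group.IsSolvable (Subgroup.closure ({x, y} : Set (GG s F)))} =
      2 * (Fintype.card F ^ 2 * (Fintype.card F - 1)) := by
  obtain ⟨g, l, hl, e⟩ := (dich h4).resolve_left hx
  have e1 := sol_card_equiv (MulAut.conj g) (dG s l)
  have e2 : (MulAut.conj g) (dG s l) = x := by
    rw [e]
    rfl
  rw [e2] at e1
  rw [e1, sol_card_dG hS hl]

/-! ### the order of the element -/

lemma ords_eq_of_common {a b o : ℕ} (ha : a ∈ Ords s F) (hb : b ∈ Ords s F) (h1 : o ∣ a) (h2 : o ∣ b) (ho : o ≠ 1) :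
    a = b := by
  have h12 : (Fintype.card F + s + 1) * (Fintype.card F + 1 - s) = Fintype.card F ^ 2 + 1 := a_mul_a
  have c1 : Nat.Coprime (Fintype.card F + s + 1) (Fintype.card F - 1) :=
    Nat.Coprime.coprime_dvd_left ⟨_, h12.symm⟩ (coprime_q (F := F) (s := s))
  have c2 : Nat.Coprime (Fintype.card F + 1 - s) (Fintype.card F - 1) :=
    Nat.Coprime.coprime_dvd_left ⟨_, (by rw [mul_comm]; exact h12.symm)⟩ (coprime_q (F := F) (s := s))
  have c3 := cop_orders (s := s) (F := F)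
  have hgen : ∀ {x y : ℕ}, Nat.Coprime x y → o ∣ x → o ∣ y → False := fun hc hx hy =>
    ho (Nat.eq_one_of_dvd_coprimes hc hx hy)
  rcases ha with rfl | rfl | rfl <;> rcases hb with rfl | rfl | rfl
  · rfl
  · exact (hgen c1.symm h1 h2).elim
  · exact (hgen c2.symm h1 h2).elim
  · exact (hgen c1 h1 h2).elim
  · rfl
  · exact (hgen c3 h1 h2).elim
  · exact (hgen c2 h1 h2).elim
  · exact (hgen c3.symm h1 h2).elim
  · rfl

lemma order_data {n : ℕ} (hn : n ∈ Ords s F) (hx1 : x ≠ 1) (hd : orderOf x ∣ n) :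
    x ^ 4 ≠ 1 ∧ Nat.card (CC x) = n := by
  have ho : orderOf x ≠ 1 := fun he => hx1 (orderOf_eq_one_iff.mp he)
  have h4 : x ^ 4 ≠ 1 := by
    intro he
    have h1 : orderOf x ∣ 2 ^ 2 := orderOf_dvd_of_pow_eq_one he
    have hc : Nat.Coprime n (2 ^ 2) := Nat.Coprime.pow_right 2 (Nat.coprime_two_right.mpr (ords_odd hn))
    exact ho (Nat.eq_one_of_dvd_coprimes hc hd h1)
  refine ⟨h4, ?_⟩
  have h2 : orderOf x ∣ Nat.card (CC x) := by
    rw [← Subgroup.orderOf_mk x (self_mem_CC x)]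
    exact orderOf_dvd_natCard _
  exact ords_eq_of_common (cc_family h4).2 hn h2 hd ho

theorem sol_card_q1 (hS : SolvHyp s F) (hx1 : x ≠ 1) (hd : orderOf x ∣ Fintype.card F - 1) :
    Nat.card {y : GG s F // Group.IsSolvable (Subgroup.closure ({x, y} : Set (GG s F)))} =
      2 * (Fintype.card F ^ 2 * (Fintype.card F - 1)) := by
  have hn : Fintype.card F - 1 ∈ Ords s F := Or.inl rfl
  obtain ⟨h4, hc⟩ := order_data hn hx1 hd
  apply sol_card_nonfpf hS h4
  intro hF
  have h1 := card_CC_dvd hF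
  rw [hc] at h1
  have := Nat.Coprime.eq_one_of_dvd (coprime_q (F := F) (s := s)).symm h1
  have := ords_gt hn
  omega

theorem sol_card_pm {n : ℕ} (hS : SolvHyp s F) (hn : n = Fintype.card F + s + 1 ∨ n = Fintype.card F + 1 - s)
    (hx1 : x ≠ 1) (hd : orderOf x ∣ n) :
    Nat.card {y : GG s F // Group.IsSolvable (Subgroup.closure ({x, y} : Set (GG s F)))} = 4 * n := by
  have hn' : n ∈ Ords s F := Or.inr hn
  obtain ⟨h4, hc⟩ := order_data hn' hx1 hd
  have hF : Fpf s x := by
    by_contra hF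
    obtain ⟨g, l, hl, e⟩ := (dich h4).resolve_left hF
    have e1 : Nat.card (CC x) = Fintype.card F - 1 := by
      rw [e, cc_conj, cc_dG hl, card_cj, card_TorA]
    rw [hc] at e1
    have h44 := h.s4
    have hle := s_le (F := F) (s := s)
    omega
  rw [sol_card_fpf hS hF, hc]

end sz

theorem solvHyp {m : ℕ} {F : Type*} [Field F] [Fintype F] [hS : SzF F (2 ^ (m + 1))] (hm : 1 ≤ m)
    (hF : Fintype.card F = 2 ^ (2 * m + 1)) (hp : (2 * m + 1).Prime) : SolvHyp (2 ^ (m + 1)) F :=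
  solv_iff hm hF hp

end Cfsg.Agent.SzSub
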